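import Mathlib.GroupTheory.Exponent
import Cfsg.Prelude.Def_PLocal
import Cfsg.Agent.Lib.Transfer.PGroup
import Cfsg.Agent.Lib.Transfer.Fusion
import Cfsg.Agent.Lib.Solvable.Basic

/-!
Glauberman's replacement theorem.
-/

set_option autoImplicit false
set_option linter.style.haveILetI false

open scoped commutatorElement

namespace Cfsg.Agent.GReplacement

open Cfsg.Agent

variable {S : Type*} [Group S]

/-- `A* = (A ∩ Aᵇ)[A, b]`. -/
abbrev star (A : Subgroup S) (b : S) : Subgroup S :=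
  (A ⊓ A.map (MulAut.conj (b⁻¹)).toMonoidHom) ⊔
    Subgroup.closure {g : S | ∃ a ∈ A, g = a * b⁻¹ * a⁻¹ * b}

/-- `b⁻¹ A b`. -/
abbrev cja (A : Subgroup S) (b : S) : Subgroup S := A.map (MulAut.conj (b⁻¹)).toMonoidHom

theorem mem_cja {A : Subgroup S} {b y : S} : y ∈ cja A b ↔ b * y * b⁻¹ ∈ A := by
  constructor
  · rintro ⟨a, ha, rfl⟩
    simpa [mul_assoc] using ha
  · intro h
    exact ⟨_, h, by simp [mul_assoc]⟩

theorem mem_cja_of {A : Subgroup S} {b a : S} (ha : a ∈ A) : b⁻¹ * a * b ∈ cja A b :=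
  ⟨a, ha, by simp⟩

/-- The standing hypotheses of the replacement theorem. -/
structure Setup (A B : Subgroup S) (b : S) (p : ℕ) : Prop where
  isp : IsPGroup p S
  Bn : B.Normal
  B2 : p = 2 → IsMulCommutative B
  Acomm : IsMulCommutative A
  BA : ⁅B, B⁆ ≤ A
  hb : b ∈ B
  hbN : b ∈ Subgroup.normalizer ((Subgroup.normalizer (A : Set S)) : Set S)
  hbA : b ∉ Subgroup.normalizer (A : Set S)

variable {A B : Subgroup S} {b : S} {p : ℕ}

namespace Setup

variable (h : Setup A B b p)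

include h

theorem comm {x y : S} (hx : x ∈ A) (hy : y ∈ A) : x * y = y * x :=
  congrArg Subtype.val (h.Acomm.is_comm.comm ⟨x, hx⟩ ⟨y, hy⟩)

theorem comm' {x y : S} (hx : x ∈ cja A b) (hy : y ∈ cja A b) : x * y = y * x := by
  have h1 := h.comm (mem_cja.1 hx) (mem_cja.1 hy)
  have h2 : b * (x * y) * b⁻¹ = b * (y * x) * b⁻¹ := by
    calc b * (x * y) * b⁻¹ = (b * x * b⁻¹) * (b * y * b⁻¹) := by group
      _ = (b * y * b⁻¹) * (b * x * b⁻¹) := h1
      _ = b * (y * x) * b⁻¹ := by group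
  exact mul_left_cancel (mul_right_cancel h2)

theorem norm_le {n : S} (hn : n ∈ Subgroup.normalizer (A : Set S)) :
    b * n * b⁻¹ ∈ Subgroup.normalizer (A : Set S) :=
  (Subgroup.mem_normalizer_iff.1 h.hbN n).1 hn

/-- `N(A)` normalizes `b⁻¹ A b`. -/
theorem normalizer_le_normalizer_cja :
    Subgroup.normalizer (A : Set S) ≤ Subgroup.normalizer (cja A b : Set S) := by
  intro n hn
  rw [Subgroup.mem_normalizer_iff]
  intro y
  rw [mem_cja, mem_cja, Subgroup.mem_normalizer_iff.1 (h.norm_le hn) (b * y * b⁻¹)]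
  simp [mul_assoc]

theorem cja_le_normalizer : cja A b ≤ Subgroup.normalizer (A : Set S) := by
  intro y hy
  have h1 : b * y * b⁻¹ ∈ Subgroup.normalizer (A : Set S) := Subgroup.le_normalizer (mem_cja.1 hy)
  exact (Subgroup.mem_normalizer_iff.1 h.hbN y).2 h1

theorem mem_inf_of_commutator {a y : S} (ha : a ∈ A) (hy : y ∈ cja A b) :
    ⁅a, y⁆ ∈ A ⊓ cja A b := by
  refine ⟨?_, ?_⟩
  · rw [commutatorElement_def, mul_assoc, mul_assoc, ← mul_assoc y]
    exact A.mul_mem ha ((Subgroup.mem_normalizer_iff.1 (h.cja_le_normalizer hy) _).1 (A.inv_mem ha))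
  · rw [commutatorElement_def]
    exact (cja A b).mul_mem ((Subgroup.mem_normalizer_iff.1
      (h.normalizer_le_normalizer_cja (Subgroup.le_normalizer ha)) y).1 hy) ((cja A b).inv_mem hy)

/-- `A ∩ Aᵇ` is central in `⟨A, Aᵇ⟩`. -/
theorem inf_le_centralizer :
    A ⊓ cja A b ≤ Subgroup.centralizer ((A ⊔ cja A b : Subgroup S) : Set S) := by
  rw [Subgroup.le_centralizer_iff]
  exact sup_le (fun a ha d hd => h.comm hd.1 ha) (fun y hy d hd => h.comm' hd.2 hy)

theorem commutator_le_inf :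
    ⁅A ⊔ cja A b, A ⊔ cja A b⁆ ≤ A ⊓ cja A b := by
  rw [Subgroup.commutator_le]
  intro u hu v hv
  have hn : cja A b ≤ Subgroup.normalizer (A : Set S) := h.cja_le_normalizer
  rw [← SetLike.mem_coe, Subgroup.coe_mul_of_right_le_normalizer_left _ _ hn] at hu hv
  obtain ⟨a, ha, a', ha', rfl⟩ := Set.mem_mul.1 hu
  obtain ⟨c, hc, c', hc', rfl⟩ := Set.mem_mul.1 hv
  have hz : ∀ d ∈ A ⊓ cja A b, ∀ w ∈ A ⊔ cja A b, w * d = d * w :=
    fun d hd w hw => h.inf_le_centralizer hd w hw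
  have h1 := h.mem_inf_of_commutator ha hc'
  have h2 := h.mem_inf_of_commutator hc ha'
  have hcc : a * c = c * a := h.comm ha hc
  have hcc' : a' * c' = c' * a' := h.comm' ha' hc'
  have e : ⁅a * a', c * c'⁆ = ⁅c, a'⁆⁻¹ * ⁅a, c'⁆ := by
    have ea : a ∈ A ⊔ cja A b := Subgroup.mem_sup_left ha
    have ec : c ∈ A ⊔ cja A b := Subgroup.mem_sup_left hc
    have e1 : a' * c = ⁅c, a'⁆⁻¹ * (c * a') := by rw [commutatorElement_def]; group
    have e2 : a * c' = ⁅a, c'⁆ * (c' * a) := by rw [commutatorElement_def]; group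
    have e3 : (a * a') * (c * c') = ⁅c, a'⁆⁻¹ * ⁅a, c'⁆ * ((c * c') * (a * a')) := by
      calc (a * a') * (c * c') = a * (a' * c) * c' := by group
        _ = a * ⁅c, a'⁆⁻¹ * (c * a') * c' := by rw [e1]; group
        _ = ⁅c, a'⁆⁻¹ * (a * c) * (a' * c') := by
            rw [hz _ ((A ⊓ cja A b).inv_mem h2) a ea]; group
        _ = ⁅c, a'⁆⁻¹ * c * (a * c') * a' := by rw [hcc, hcc']; group
        _ = ⁅c, a'⁆⁻¹ * (c * ⁅a, c'⁆) * (c' * a) * a' := by rw [e2]; group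
        _ = ⁅c, a'⁆⁻¹ * ⁅a, c'⁆ * ((c * c') * (a * a')) := by rw [hz _ h1 c ec]; group
    rw [commutatorElement_def, e3]
    group
  rw [e]
  exact (A ⊓ cja A b).mul_mem ((A ⊓ cja A b).inv_mem h2) h1

theorem central {d w : S} (hd : d ∈ A ⊓ cja A b) (hw : w ∈ A ⊔ cja A b) : Commute d w :=
  (h.inf_le_centralizer hd w hw).symm

theorem x_mem_sup {a : S} (ha : a ∈ A) : a * b⁻¹ * a⁻¹ * b ∈ A ⊔ cja A b := by
  rw [show a * b⁻¹ * a⁻¹ * b = a * (b⁻¹ * a⁻¹ * b) by group]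
  exact mul_mem (Subgroup.mem_sup_left ha) (Subgroup.mem_sup_right (mem_cja_of (A.inv_mem ha)))

theorem x_mem_B {a : S} : a * b⁻¹ * a⁻¹ * b ∈ B :=
  B.mul_mem (h.Bn.conj_mem _ (B.inv_mem h.hb) a) h.hb

theorem star_le_sup : star A b ≤ A ⊔ cja A b := by
  refine sup_le (inf_le_left.trans le_sup_left) ?_
  rw [Subgroup.closure_le]
  rintro _ ⟨a, ha, rfl⟩
  exact h.x_mem_sup ha

theorem sup_le_normalizer : A ⊔ cja A b ≤ Subgroup.normalizer (A : Set S) :=
  sup_le Subgroup.le_normalizer h.cja_le_normalizer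

theorem commutator_B_le : ⁅B, B⁆ ≤ A ⊓ cja A b := by
  haveI := h.Bn
  exact fun w hw => ⟨h.BA hw,
    mem_cja.2 (h.BA ((inferInstance : (⁅B, B⁆ : Subgroup S).Normal).conj_mem w hw b))⟩

/-- `A ∩ B` is normalized by `b`. -/
theorem inf_B_le : A ⊓ B ≤ A ⊓ cja A b := by
  rintro w ⟨hwA, hwB⟩
  refine ⟨hwA, mem_cja.2 ?_⟩
  have h1 : ⁅b, w⁆ ∈ A := h.BA (Subgroup.commutator_mem_commutator h.hb hwB)
  rw [show b * w * b⁻¹ = ⁅b, w⁆ * w by rw [commutatorElement_def]; group]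
  exact A.mul_mem h1 hwA

omit h in
theorem sup_le_sup_star : A ⊔ cja A b ≤ A ⊔ star A b := by
  refine sup_le le_sup_left ?_
  rintro _ ⟨a, ha, rfl⟩
  have h1 : a * b⁻¹ * a⁻¹ * b ∈ star A b :=
    Subgroup.mem_sup_right (Subgroup.subset_closure ⟨a, ha, rfl⟩)
  have h2 : (MulAut.conj b⁻¹).toMonoidHom a = (a * b⁻¹ * a⁻¹ * b)⁻¹ * a := by
    simp [mul_assoc]
  rw [h2]
  exact mul_mem (inv_mem (Subgroup.mem_sup_right h1)) (Subgroup.mem_sup_left ha)

/-- The heart of the proof: for odd `p` two generators of `[A, b]` commute. -/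
theorem x_comm_odd [Finite S] [hp : Fact p.Prime] (hp2 : p ≠ 2) {a c : S} (ha : a ∈ A) (hc : c ∈ A) :
    Commute (a * b⁻¹ * a⁻¹ * b) (c * b⁻¹ * c⁻¹ * b) := by
  set H := A ⊔ cja A b with hH
  have hmid : ∀ u ∈ A, b⁻¹ * u * b ∈ H := fun u hu => Subgroup.mem_sup_right (mem_cja_of hu)
  have hA' : ∀ u ∈ A, u ∈ H := fun u hu => Subgroup.mem_sup_left hu
  have hcomH : ∀ u ∈ H, ∀ v ∈ H, ∀ w ∈ H, Commute ⁅u, v⁆ w := fun u hu v hv w hw =>
    h.central (h.commutator_le_inf (Subgroup.commutator_mem_commutator hu hv)) hw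
  have hmulR : ∀ u ∈ H, ∀ v ∈ H, ∀ w ∈ H, ⁅u, v * w⁆ = ⁅u, v⁆ * ⁅u, w⁆ := by
    intro u hu v hv w hw
    have e : ⁅u, v * w⁆ = ⁅u, v⁆ * (v * ⁅u, w⁆ * v⁻¹) := by
      simp only [commutatorElement_def]; group
    rw [e, (hcomH u hu w hw v hv).symm.eq, mul_inv_cancel_right]
  have hmulL : ∀ u ∈ H, ∀ v ∈ H, ∀ w ∈ H, ⁅u * v, w⁆ = ⁅u, w⁆ * ⁅v, w⁆ := by
    intro u hu v hv w hw
    rw [← inv_inj, commutatorElement_inv, mul_inv_rev, commutatorElement_inv,
      commutatorElement_inv, hmulR w hw u hu v hv,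
      (hcomH w hw u hu ⁅w, v⁆ (H.mul_mem (H.mul_mem (H.mul_mem hw hv) (H.inv_mem hw)) (H.inv_mem hv))).eq]
  have hinvR : ∀ u ∈ H, ∀ v ∈ H, ⁅u, v⁻¹⁆ = ⁅u, v⁆⁻¹ := by
    intro u hu v hv
    refine eq_inv_of_mul_eq_one_left ?_
    rw [← hmulR u hu v⁻¹ (H.inv_mem hv) v hv, inv_mul_cancel]
    exact commutatorElement_one_right u
  have hinvL : ∀ u ∈ H, ∀ v ∈ H, ⁅u⁻¹, v⁆ = ⁅u, v⁆⁻¹ := by
    intro u hu v hv
    refine eq_inv_of_mul_eq_one_left ?_
    rw [← hmulL u⁻¹ (H.inv_mem hu) u hu v hv, inv_mul_cancel]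
    exact commutatorElement_one_left v
  -- conjugating `[a, cᵇ]` by `b` gives `[aᵇ, c]⁻¹`
  have key : ∀ a ∈ A, ∀ c ∈ A,
      b⁻¹ * ⁅a, b⁻¹ * c * b⁆ * b = ⁅b⁻¹ * a * b, c⁆⁻¹ := by
    intro a ha c hc
    set a' := b⁻¹ * a * b with ha'
    set c' := b⁻¹ * c * b with hc'
    set x := c * b⁻¹ * c⁻¹ * b with hx
    have hxH : x ∈ H := h.x_mem_sup hc
    set β := x⁻¹ * (b⁻¹ * x * b) with hβ
    have hβD : β ∈ A ⊓ cja A b := by
      apply h.commutator_B_le
      have h1 := Subgroup.commutator_mem_commutator (B.inv_mem (h.x_mem_B (a := c))) (B.inv_mem h.hb)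
        (H₁ := B) (H₂ := B)
      rw [commutatorElement_def, inv_inv, inv_inv] at h1
      rwa [show β = x⁻¹ * b⁻¹ * x * b by rw [hβ]; group]
    have hc'eq : c' = x⁻¹ * c := by rw [hc', hx]; group
    have hc'' : b⁻¹ * c' * b = β⁻¹ * (x⁻¹ * (x⁻¹ * c)) := by
      rw [hc', hβ, hx]; group
    have e1 : b⁻¹ * ⁅a, c'⁆ * b = ⁅a', b⁻¹ * c' * b⁆ := by
      rw [ha', commutatorElement_def, commutatorElement_def]; group
    have haH : a' ∈ H := hmid a ha
    have hcH : c ∈ H := hA' c hc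
    have hβH : β⁻¹ ∈ H := H.inv_mem (Subgroup.mem_sup_left hβD.1)
    have hxc : x⁻¹ * c ∈ H := H.mul_mem (H.inv_mem hxH) hcH
    have e2 : ⁅a', β⁻¹⁆ = 1 :=
      commutatorElement_eq_one_iff_mul_comm.2 (h.central ((A ⊓ cja A b).inv_mem hβD) haH).symm.eq
    have e3 : ⁅a', x⁆ = ⁅a', c⁆ := by
      have hx2 : x = c * (b⁻¹ * c⁻¹ * b) := by rw [hx]; group
      rw [hx2, hmulR a' haH c hcH _ (hmid c⁻¹ (A.inv_mem hc)),
        commutatorElement_eq_one_iff_mul_comm.2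
          (h.comm' (mem_cja_of ha) (mem_cja_of (A.inv_mem hc))), mul_one]
    rw [e1, hc'', hmulR a' haH _ hβH _ (H.mul_mem (H.inv_mem hxH) hxc), e2, one_mul,
      hmulR a' haH _ (H.inv_mem hxH) _ hxc, hmulR a' haH _ (H.inv_mem hxH) c hcH,
      hinvR a' haH x hxH, e3]
    group
  set z := ⁅a, b⁻¹ * c * b⁆ with hz
  have k1 := key a ha c hc
  have k2 := key c hc a ha
  rw [commutatorElement_inv] at k1 k2
  have hfix : Commute z (b ^ 2) := by
    have h3 : b⁻¹ * (b⁻¹ * z * b) * b = z := by rw [hz, k1, k2]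
    show z * b ^ 2 = b ^ 2 * z
    calc z * b ^ 2 = b * b * (b⁻¹ * (b⁻¹ * z * b) * b) := by rw [pow_two]; group
      _ = b ^ 2 * z := by rw [h3, pow_two]
  have hzb : Commute z b := by
    have hcop : (orderOf b).Coprime 2 := by
      obtain ⟨k, hk⟩ := IsPGroup.iff_orderOf.1 h.isp b
      rw [hk]
      exact Nat.Coprime.pow_left k ((Nat.coprime_primes hp.out Nat.prime_two).2 hp2)
    obtain ⟨m, hm⟩ := exists_pow_eq_self_of_coprime (x := b) (n := 2) hcop.symm
    rw [← hm]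
    exact hfix.pow_right m
  have hzz : b⁻¹ * z * b = z := by rw [mul_assoc, hzb.eq, inv_mul_cancel_left]
  rw [hz, k1] at hzz
  -- `[x_a, x_c] = [a, cᵇ]⁻¹ [aᵇ, c]⁻¹`
  have ha'H := hmid a⁻¹ (A.inv_mem ha)
  have hc'H := hmid c⁻¹ (A.inv_mem hc)
  rw [← commutatorElement_eq_one_iff_commute,
    show a * b⁻¹ * a⁻¹ * b = a * (b⁻¹ * a⁻¹ * b) by group,
    show c * b⁻¹ * c⁻¹ * b = c * (b⁻¹ * c⁻¹ * b) by group,
    hmulL a (hA' a ha) _ ha'H _ (H.mul_mem (hA' c hc) hc'H),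
    hmulR a (hA' a ha) c (hA' c hc) _ hc'H,
    hmulR _ ha'H c (hA' c hc) _ hc'H,
    commutatorElement_eq_one_iff_mul_comm.2 (h.comm ha hc),
    commutatorElement_eq_one_iff_mul_comm.2
      (h.comm' (mem_cja_of (A.inv_mem ha)) (mem_cja_of (A.inv_mem hc))),
    show b⁻¹ * c⁻¹ * b = (b⁻¹ * c * b)⁻¹ by group,
    show b⁻¹ * a⁻¹ * b = (b⁻¹ * a * b)⁻¹ by group,
    hinvR a (hA' a ha) _ (hmid c hc), hinvL _ (hmid a ha) c (hA' c hc)]
  rw [← commutatorElement_inv c (b⁻¹ * a * b), inv_inv, ← hzz, one_mul, mul_one, inv_mul_cancel]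

theorem star_comm [Finite S] [hp : Fact p.Prime] : IsMulCommutative (star A b) := by
  have h2 : IsMulCommutative (Subgroup.closure ((A ⊓ cja A b : Subgroup S) ∪
      {g : S | ∃ a ∈ A, g = a * b⁻¹ * a⁻¹ * b} : Set S)) := by
    refine Subgroup.isMulCommutative_closure ?_
    rintro u (hu | ⟨a, ha, rfl⟩) v (hv | ⟨c, hc, rfl⟩)
    · exact h.comm hu.1 hv.1
    · exact (h.central hu (h.x_mem_sup hc)).eq
    · exact (h.central hv (h.x_mem_sup ha)).symm.eq
    · rcases eq_or_ne p 2 with hp2 | hp2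
      · exact congrArg Subtype.val ((h.B2 hp2).is_comm.comm ⟨_, h.x_mem_B (a := a)⟩ ⟨_, h.x_mem_B (a := c)⟩)
      · exact (h.x_comm_odd hp2 ha hc).eq
  rw [Subgroup.closure_union, Subgroup.closure_eq] at h2
  exact h2

theorem star_inf [Finite S] [Fact p.Prime] : star A b ⊓ A = A ⊓ cja A b := by
  refine le_antisymm ?_ (le_inf le_sup_left inf_le_left)
  intro y hy'
  obtain ⟨hy, hyA⟩ := Subgroup.mem_inf.1 hy'
  set X := Subgroup.closure {g : S | ∃ a ∈ A, g = a * b⁻¹ * a⁻¹ * b} with hX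
  have hXD : X ≤ Subgroup.normalizer ((A ⊓ cja A b : Subgroup S) : Set S) := by
    refine le_trans ?_ (Subgroup.centralizer_le_normalizer _)
    intro x hx d hd
    exact (h.central hd (h.star_le_sup (Subgroup.mem_sup_right hx))).eq
  rw [star, ← hX, ← SetLike.mem_coe, Subgroup.coe_mul_of_right_le_normalizer_left _ _ hXD] at hy
  obtain ⟨d, hd, x, hx, rfl⟩ := Set.mem_mul.1 hy
  have hxA : x ∈ A := by
    have := A.mul_mem (A.inv_mem (Subgroup.mem_inf.1 hd).1) hyA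
    rwa [inv_mul_cancel_left] at this
  have hxB : x ∈ B := by
    have hle : X ≤ B := by
      rw [hX, Subgroup.closure_le]
      rintro _ ⟨a, -, rfl⟩
      exact h.x_mem_B
    exact hle hx
  exact (A ⊓ cja A b).mul_mem hd (h.inf_B_le ⟨hxA, hxB⟩)

theorem star_card [Finite S] [Fact p.Prime] : Nat.card (star A b) = Nat.card A := by
  have hn : star A b ≤ Subgroup.normalizer (A : Set S) :=
    h.star_le_sup.trans h.sup_le_normalizer
  have h1 := SolvBasic.card_sup_mul_card_inf hn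
  have hsup : A ⊔ star A b = A ⊔ cja A b :=
    le_antisymm (sup_le le_sup_left h.star_le_sup) sup_le_sup_star
  have hn' : cja A b ≤ Subgroup.normalizer (A : Set S) := h.cja_le_normalizer
  have h2 := SolvBasic.card_sup_mul_card_inf hn'
  rw [hsup, inf_comm A (star A b), h.star_inf, h2] at h1
  have h3 : Nat.card (cja A b) = Nat.card A :=
    Subgroup.card_map_of_injective (MulEquiv.injective _)
  rw [h3] at h1
  exact Nat.eq_of_mul_eq_mul_left Nat.card_pos h1.symm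

theorem commutator_B_le_star : ⁅B, B⁆ ≤ star A b := h.commutator_B_le.trans le_sup_left

theorem inf_lt [Finite S] [Fact p.Prime] : A ⊓ B < star A b ⊓ B := by
  refine lt_of_le_of_ne (le_inf (h.inf_B_le.trans le_sup_left) inf_le_right) fun heq => h.hbA ?_
  have hsub : ∀ a ∈ A, b⁻¹ * a * b ∈ A := by
    intro a ha
    have h1 : a * b⁻¹ * a⁻¹ * b ∈ A ⊓ B := heq ▸
      ⟨Subgroup.mem_sup_right (Subgroup.subset_closure ⟨a, ha, rfl⟩), h.x_mem_B⟩
    have := A.mul_mem (A.inv_mem h1.1) ha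
    simpa [mul_assoc] using this
  have hle : cja A b ≤ A := by
    rintro _ ⟨a, ha, rfl⟩
    simpa [mul_assoc] using hsub a ha
  have heqA : cja A b = A := Subgroup.eq_of_le_of_card_ge hle
    (Subgroup.card_map_of_injective (MulEquiv.injective _)).ge
  have h2 : b⁻¹ ∈ Subgroup.normalizer (A : Set S) :=
    Subgroup.mem_normalizer_iff_map_conj_eq.2 heqA
  simpa using Subgroup.inv_mem _ h2

theorem inf_lt_B : star A b ⊓ B < B := by
  refine lt_of_le_of_ne inf_le_right fun heq => h.hbA ?_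
  exact h.sup_le_normalizer (h.star_le_sup (inf_eq_right.1 heq h.hb))

theorem le_normalizer_star : A ≤ Subgroup.normalizer (star A b : Set S) := by
  intro a ha
  rw [Subgroup.mem_normalizer_iff]
  have key : ∀ u ∈ A, ∀ y ∈ star A b, u * y * u⁻¹ ∈ star A b := by
    intro u hu y hy
    rw [show u * y * u⁻¹ = ⁅u, y⁆ * y by rw [commutatorElement_def]; group]
    exact mul_mem (Subgroup.mem_sup_left (h.commutator_le_inf
      (Subgroup.commutator_mem_commutator (Subgroup.mem_sup_left hu) (h.star_le_sup hy)))) hy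
  intro y
  refine ⟨key a ha y, fun hy => ?_⟩
  have := key a⁻¹ (A.inv_mem ha) _ hy
  simpa [mul_assoc] using this

theorem b_mem_normalizer_star [Finite S] : b ∈ Subgroup.normalizer (star A b : Set S) := by
  have hle : (star A b).map (MulAut.conj b⁻¹).toMonoidHom ≤ star A b := by
    rw [star, Subgroup.map_sup, sup_le_iff]
    constructor
    · rintro _ ⟨d, hd, rfl⟩
      have hx : d * b⁻¹ * d⁻¹ * b ∈ star A b :=
        Subgroup.mem_sup_right (Subgroup.subset_closure ⟨d, hd.1, rfl⟩)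
      have h2 : (MulAut.conj b⁻¹).toMonoidHom d = (d * b⁻¹ * d⁻¹ * b)⁻¹ * d := by
        simp [mul_assoc]
      rw [h2]
      exact mul_mem (inv_mem hx) (Subgroup.mem_sup_left hd)
    · rw [MonoidHom.map_closure, Subgroup.closure_le]
      rintro _ ⟨_, ⟨a, ha, rfl⟩, rfl⟩
      set x := a * b⁻¹ * a⁻¹ * b with hx
      have h2 : (MulAut.conj b⁻¹).toMonoidHom x = x * ⁅x⁻¹, b⁻¹⁆ := by
        simp [commutatorElement_def, mul_assoc]
      rw [SetLike.mem_coe, h2]
      exact mul_mem (Subgroup.mem_sup_right (Subgroup.subset_closure ⟨a, ha, rfl⟩))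
        (h.commutator_B_le_star (Subgroup.commutator_mem_commutator (B.inv_mem (h.x_mem_B (a := a)))
          (B.inv_mem h.hb)))
  have heq := Subgroup.eq_of_le_of_card_ge hle (Subgroup.card_map_of_injective (MulEquiv.injective _)).ge
  have h2 : b⁻¹ ∈ Subgroup.normalizer (star A b : Set S) :=
    Subgroup.mem_normalizer_iff_map_conj_eq.2 heq
  simpa using Subgroup.inv_mem _ h2

theorem normalizer_le : Subgroup.normalizer (A : Set S) ≤ Subgroup.normalizer (star A b : Set S) := by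
  have key : ∀ n ∈ Subgroup.normalizer (A : Set S),
      (star A b).map (MulAut.conj n).toMonoidHom ≤ star A b := by
    intro n hn
    rw [star, Subgroup.map_sup, sup_le_iff]
    constructor
    · rintro _ ⟨d, hd, rfl⟩
      refine Subgroup.mem_sup_left ⟨?_, ?_⟩
      · exact (Subgroup.mem_normalizer_iff.1 hn d).1 hd.1
      · exact (Subgroup.mem_normalizer_iff.1 (h.normalizer_le_normalizer_cja hn) d).1 hd.2
    · rw [MonoidHom.map_closure, Subgroup.closure_le]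
      rintro _ ⟨_, ⟨a, ha, rfl⟩, rfl⟩
      set m := b * n * b⁻¹ with hm
      have hmN : m ∈ Subgroup.normalizer (A : Set S) := h.norm_le hn
      set c := n * a * n⁻¹ with hc
      set e := m * a * m⁻¹ with he
      have hcA : c ∈ A := (Subgroup.mem_normalizer_iff.1 hn a).1 ha
      have heA : e ∈ A := (Subgroup.mem_normalizer_iff.1 hmN a).1 ha
      have h1 : (MulAut.conj n).toMonoidHom (a * b⁻¹ * a⁻¹ * b) =
          c * e⁻¹ * (e * b⁻¹ * e⁻¹ * b) := by
        simp [hc, he, hm, mul_assoc]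
      rw [SetLike.mem_coe, h1]
      refine mul_mem (Subgroup.mem_sup_left (h.inf_B_le ⟨A.mul_mem hcA (A.inv_mem heA), ?_⟩))
        (Subgroup.mem_sup_right (Subgroup.subset_closure ⟨e, heA, rfl⟩))
      have ht : b * n * b⁻¹ * n⁻¹ ∈ B := by
        rw [show b * n * b⁻¹ * n⁻¹ = b * (n * b⁻¹ * n⁻¹) by group]
        exact B.mul_mem h.hb (h.Bn.conj_mem _ (B.inv_mem h.hb) n)
      have h2 : c * e⁻¹ = c * (b * n * b⁻¹ * n⁻¹) * c⁻¹ * (b * n * b⁻¹ * n⁻¹)⁻¹ := by
        rw [hc, he, hm]; group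
      show c * e⁻¹ ∈ B
      rw [h2]
      exact B.mul_mem (h.Bn.conj_mem _ ht c) (B.inv_mem ht)
  intro n hn
  rw [Subgroup.mem_normalizer_iff]
  intro y
  refine ⟨fun hy => key n hn ⟨y, hy, rfl⟩, fun hy => ?_⟩
  have := key n⁻¹ (Subgroup.inv_mem _ hn) ⟨_, hy, rfl⟩
  simpa [mul_assoc] using this

theorem normalizer_lt [Finite S] :
    Subgroup.normalizer (A : Set S) < Subgroup.normalizer (star A b : Set S) :=
  lt_of_le_of_ne h.normalizer_le fun heq => h.hbA (heq ▸ h.b_mem_normalizer_star)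

theorem pow_eq_one [Finite S] [hp : Fact p.Prime] (hp2 : p ≠ 2) {E : ℕ} (hE : ∀ a ∈ A, a ^ E = 1)
    (hodd : Odd E) {y : S} (hy : y ∈ star A b) : y ^ E = 1 := by
  have hc := h.star_comm
  rw [star, ← Subgroup.closure_eq (A ⊓ A.map _), ← Subgroup.closure_union] at hy
  have hle : Subgroup.closure (((A ⊓ A.map (MulAut.conj (b⁻¹)).toMonoidHom : Subgroup S) : Set S) ∪
      {g : S | ∃ a ∈ A, g = a * b⁻¹ * a⁻¹ * b}) ≤ star A b := by
    rw [Subgroup.closure_union, Subgroup.closure_eq]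
  induction hy using Subgroup.closure_induction with
  | mem w hw =>
    rcases hw with hw | ⟨a, ha, rfl⟩
    · exact hE w hw.1
    · set a' := b⁻¹ * a⁻¹ * b with ha'
      set z := (a * a')⁻¹ * (a' * a) with hz
      have haH : a ∈ A ⊔ cja A b := Subgroup.mem_sup_left ha
      have ha'H : a' ∈ A ⊔ cja A b := Subgroup.mem_sup_right (mem_cja_of (A.inv_mem ha))
      have hzD : z ∈ A ⊓ cja A b := by
        have h1 : z = ⁅a'⁻¹, a⁻¹⁆ := by rw [hz, commutatorElement_def]; group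
        rw [h1]
        exact h.commutator_le_inf (Subgroup.commutator_mem_commutator (inv_mem ha'H) (inv_mem haH))
      have ha'E : a' ^ E = 1 := by
        have h2 := conj_pow (a := b⁻¹) (b := a⁻¹) (i := E)
        rw [inv_inv] at h2
        rw [ha', h2, inv_pow, hE a ha, inv_one, mul_one, inv_mul_cancel]
      rw [show a * b⁻¹ * a⁻¹ * b = a * a' by rw [ha']; group,
        LEOmega.mul_pow_class_two (z := z) (by rw [hz]; group) (h.central hzD haH) (h.central hzD ha'H),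
        hE a ha, ha'E, one_mul, one_mul]
      obtain ⟨m, hm⟩ := hodd
      have h3 : E.choose 2 = E * m := by
        rw [Nat.choose_two_right, hm, Nat.add_sub_cancel, Nat.mul_comm 2 m, ← Nat.mul_assoc,
          Nat.mul_div_cancel _ (by norm_num : 0 < 2)]
      rw [h3, pow_mul, hE z hzD.1, one_pow]
  | one => exact one_pow E
  | mul u v hu hv hu' hv' =>
    have huv : u * v = v * u := congrArg Subtype.val (hc.is_comm.comm ⟨u, hle hu⟩ ⟨v, hle hv⟩)
    rw [Commute.mul_pow huv, hu', hv', one_mul]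
  | inv u _ hu => rw [inv_pow, hu, inv_one]

theorem exponent_dvd [Finite S] [hp : Fact p.Prime] (hp2 : p ≠ 2) :
    Monoid.exponent (star A b) ∣ Monoid.exponent A := by
  refine Monoid.exponent_dvd_of_forall_pow_eq_one fun y => Subtype.ext ?_
  rw [SubmonoidClass.coe_pow, OneMemClass.coe_one]
  refine h.pow_eq_one hp2 (E := Monoid.exponent A) (fun a ha => ?_) ?_ y.2
  · exact congrArg Subtype.val (Monoid.pow_exponent_eq_one (⟨a, ha⟩ : A))
  · obtain ⟨k, hk⟩ := IsPGroup.iff_card.1 (h.isp.to_subgroup A)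
    obtain ⟨i, -, hi⟩ := (Nat.dvd_prime_pow hp.out).1 (hk ▸ Group.exponent_dvd_nat_card (G := A))
    rw [hi]
    exact (hp.out.odd_of_ne_two hp2).pow

end Setup

/-- In a family closed under replacement some member with largest intersection is normalized. -/
theorem exists_normalized [Finite S] {p : ℕ} [Fact p.Prime] (hS : IsPGroup p S) (B : Subgroup S)
    [hBn : B.Normal] (hB2 : p = 2 → IsMulCommutative B) (F : Set (Subgroup S))
    (hab : ∀ A ∈ F, IsMulCommutative A)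
    (hclosed : ∀ A ∈ F, ∀ b, Setup A B b p → star A b ∈ F)
    (hU : ∃ U ∈ F, ⁅B, B⁆ ≤ U ∧ ¬ B ≤ U) :
    ∃ A ∈ F, ⁅B, B⁆ ≤ A ∧ ¬ B ≤ A ∧ B ≤ Subgroup.normalizer (A : Set S) := by
  obtain ⟨U, hU1, hU2, hU3⟩ := hU
  obtain ⟨A, ⟨hA, hBA, hnBA⟩, hmax⟩ := Set.exists_max_image
    {A : Subgroup S | A ∈ F ∧ ⁅B, B⁆ ≤ A ∧ ¬ B ≤ A} (fun A => Nat.card (A ⊓ B : Subgroup S))
    (Set.toFinite _) ⟨U, hU1, hU2, hU3⟩
  refine ⟨A, hA, hBA, hnBA, ?_⟩
  by_contra hnot
  set N := Subgroup.normalizer (A : Set S) with hN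
  have hlt : N < B ⊔ N := lt_of_le_of_ne le_sup_right fun h => hnot (h ▸ le_sup_left)
  obtain ⟨x, hx, hxN⟩ := SetLike.exists_of_lt
    (Fusion.lt_inf_normalizer (hS.to_subgroup _).isNilpotent hlt)
  obtain ⟨hxP, hxn⟩ := Subgroup.mem_inf.1 hx
  rw [← SetLike.mem_coe, Subgroup.normal_mul] at hxP
  obtain ⟨b, hb, n, hn, rfl⟩ := Set.mem_mul.1 hxP
  have hbN : b ∈ Subgroup.normalizer (N : Set S) := by
    have := mul_mem hxn (Subgroup.inv_mem _ (Subgroup.le_normalizer hn))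
    rwa [mul_inv_cancel_right] at this
  have h : Setup A B b p :=
    ⟨hS, hBn, hB2, hab A hA, hBA, hb, hbN, fun hbA => hxN (N.mul_mem hbA hn)⟩
  have h1 := hmax (star A b) ⟨hclosed A hA b h, h.commutator_B_le_star,
    fun hle => h.inf_lt_B.ne (inf_eq_right.2 hle)⟩
  exact absurd h1 (not_le.2 (Set.ncard_lt_ncard (SetLike.coe_ssubset_coe.2 h.inf_lt) (Set.toFinite _)))

end Cfsg.Agent.GReplacement
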