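import Mathlib.GroupTheory.Sylow
import Mathlib.Data.Set.Finite.Lemmas
import Mathlib.GroupTheory.Subgroup.Centralizer
import Cfsg.Prelude.Def_Transfer

/-!
The Thompson subgroup generated by the elementary abelian subgroups of largest order.
-/

set_option autoImplicit false
set_option linter.style.haveILetI false

open scoped Pointwise

namespace Cfsg.Agent.Thompson

variable {G : Type*} [Group G] {H : Type*} [Group H] {p : ℕ}

theorem isElementaryAbelian_bot (p : ℕ) : Cfsg.IsElementaryAbelian p (⊥ : Subgroup G) :=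
  ⟨inferInstance, fun a ha => by rw [Subgroup.mem_bot.1 ha, one_pow]⟩

theorem isElementaryAbelian_mono {A B : Subgroup G} (h : A ≤ B)
    (hB : Cfsg.IsElementaryAbelian p B) : Cfsg.IsElementaryAbelian p A :=
  ⟨⟨⟨fun a b => Subtype.ext
    (congrArg Subtype.val (hB.1.is_comm.comm ⟨a, h a.2⟩ ⟨b, h b.2⟩) :)⟩⟩,
    fun a ha => hB.2 a (h ha)⟩

theorem commute_of_isElementaryAbelian {A : Subgroup G} (hA : Cfsg.IsElementaryAbelian p A) {a b : G}
    (ha : a ∈ A) (hb : b ∈ A) : a * b = b * a :=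
  congrArg Subtype.val (hA.1.is_comm.comm ⟨a, ha⟩ ⟨b, hb⟩)

theorem isElementaryAbelian_map {A : Subgroup G} (f : G →* H)
    (hA : Cfsg.IsElementaryAbelian p A) : Cfsg.IsElementaryAbelian p (A.map f) := by
  refine ⟨⟨⟨fun a b => ?_⟩⟩, ?_⟩
  · obtain ⟨x, hx, hxa⟩ := a.2
    obtain ⟨y, hy, hyb⟩ := b.2
    apply Subtype.ext
    simp only [Subgroup.coe_mul, ← hxa, ← hyb, ← map_mul, commute_of_isElementaryAbelian hA hx hy]
  · rintro _ ⟨x, hx, rfl⟩
    rw [← map_pow, hA.2 x hx, map_one]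

theorem isElementaryAbelian_map_iff_of_injective {A : Subgroup G} (f : G →* H)
    (hf : Function.Injective f) :
    Cfsg.IsElementaryAbelian p (A.map f) ↔ Cfsg.IsElementaryAbelian p A := by
  refine ⟨fun h => ⟨⟨⟨fun a b => ?_⟩⟩, fun a ha => ?_⟩, isElementaryAbelian_map f⟩
  · apply Subtype.ext
    apply hf
    have := commute_of_isElementaryAbelian h (Subgroup.mem_map_of_mem f a.2)
      (Subgroup.mem_map_of_mem f b.2)
    simpa only [Subgroup.coe_mul, map_mul] using this
  · apply hf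
    rw [map_pow, map_one]
    exact h.2 _ (Subgroup.mem_map_of_mem f ha)

/-- `A` is an elementary abelian subgroup of `S` of largest order. -/
def IsMaxEAIn (p : ℕ) (S A : Subgroup G) : Prop :=
  A ≤ S ∧ Cfsg.IsElementaryAbelian p A ∧
    ∀ B : Subgroup G, B ≤ S → Cfsg.IsElementaryAbelian p B → Nat.card B ≤ Nat.card A

theorem exists_isMaxEAIn (p : ℕ) [Finite G] (S : Subgroup G) : ∃ A, IsMaxEAIn p S A := by
  obtain ⟨A, hA, hmax⟩ := Set.exists_max_image
    {A : Subgroup G | A ≤ S ∧ Cfsg.IsElementaryAbelian p A} (fun A => Nat.card A) (Set.toFinite _)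
    ⟨⊥, bot_le, isElementaryAbelian_bot p⟩
  exact ⟨A, hA.1, hA.2, fun B hB hBe => hmax B ⟨hB, hBe⟩⟩

theorem isMaxEAIn_top_iff {A : Subgroup G} :
    IsMaxEAIn p ⊤ A ↔ A ∈ Cfsg.maxElementaryAbelianSubgroups p G :=
  ⟨fun h => ⟨h.2.1, fun B hB => h.2.2 B le_top hB⟩,
    fun h => ⟨le_top, h.1, fun B _ hB => h.2 B hB⟩⟩

theorem mem_maxEA_iff {S : Subgroup G} {A : Subgroup S} :
    A ∈ Cfsg.maxElementaryAbelianSubgroups p S ↔ IsMaxEAIn p S (A.map S.subtype) := by
  constructor
  · rintro ⟨hA, hmax⟩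
    refine ⟨Subgroup.map_subtype_le A, isElementaryAbelian_map _ hA, fun B hB hBe => ?_⟩
    rw [← Subgroup.map_subgroupOf_eq_of_le hB, Subgroup.card_map_of_injective Subtype.coe_injective,
      Subgroup.card_map_of_injective Subtype.coe_injective]
    refine hmax _ ((isElementaryAbelian_map_iff_of_injective S.subtype Subtype.coe_injective).1 ?_)
    rwa [Subgroup.map_subgroupOf_eq_of_le hB]
  · rintro ⟨-, hA, hmax⟩
    refine ⟨(isElementaryAbelian_map_iff_of_injective S.subtype Subtype.coe_injective).1 hA,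
      fun B hB => ?_⟩
    have := hmax _ (Subgroup.map_subtype_le B) (isElementaryAbelian_map _ hB)
    rwa [Subgroup.card_map_of_injective Subtype.coe_injective,
      Subgroup.card_map_of_injective Subtype.coe_injective] at this

theorem thompsonSubgroupOf_eq (p : ℕ) (S : Subgroup G) :
    Cfsg.thompsonSubgroupOf p S = sSup {A | IsMaxEAIn p S A} := by
  rw [Cfsg.thompsonSubgroupOf, Cfsg.thompsonSubgroup, sSup_eq_iSup', Subgroup.map_iSup]
  refine le_antisymm (iSup_le fun A => le_sSup (mem_maxEA_iff.1 A.2)) (sSup_le fun A hA => ?_)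
  have h : (A.subgroupOf S).map S.subtype = A := Subgroup.map_subgroupOf_eq_of_le hA.1
  refine h.ge.trans (le_iSup (fun B : ↥(Cfsg.maxElementaryAbelianSubgroups p S) =>
    (B : Subgroup S).map S.subtype) ⟨A.subgroupOf S, mem_maxEA_iff.2 (by rwa [h])⟩)

theorem le_thompsonSubgroupOf {S A : Subgroup G} (hA : IsMaxEAIn p S A) :
    A ≤ Cfsg.thompsonSubgroupOf p S := by
  rw [thompsonSubgroupOf_eq]; exact le_sSup hA

theorem thompsonSubgroupOf_le (p : ℕ) (S : Subgroup G) : Cfsg.thompsonSubgroupOf p S ≤ S :=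
  Subgroup.map_subtype_le _

theorem thompsonSubgroupOf_top (p : ℕ) (G : Type*) [Group G] :
    Cfsg.thompsonSubgroupOf p (⊤ : Subgroup G) = Cfsg.thompsonSubgroup p G := by
  rw [thompsonSubgroupOf_eq, Cfsg.thompsonSubgroup]
  congr 1
  ext A
  exact isMaxEAIn_top_iff

/-- `J` commutes with homomorphisms injective on `S`. -/
theorem isMaxEAIn_map_iff {S A : Subgroup G} (f : G →* H) (hf : Set.InjOn f S) (hA : A ≤ S) :
    IsMaxEAIn p (S.map f) (A.map f) ↔ IsMaxEAIn p S A := by
  have hg : Function.Injective (f.comp S.subtype) := fun a b h => Subtype.ext (hf a.2 b.2 h)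
  have hcard : ∀ B, B ≤ S → Nat.card (B.map f) = Nat.card B := fun B hB =>
    Nat.card_image_of_injOn (hf.mono (SetLike.coe_subset_coe.2 hB))
  have hEA : ∀ B, B ≤ S → (Cfsg.IsElementaryAbelian p (B.map f) ↔ Cfsg.IsElementaryAbelian p B) := by
    intro B hB
    conv_lhs => rw [← Subgroup.map_subgroupOf_eq_of_le hB, Subgroup.map_map]
    rw [isElementaryAbelian_map_iff_of_injective _ hg,
      ← isElementaryAbelian_map_iff_of_injective S.subtype Subtype.coe_injective,
      Subgroup.map_subgroupOf_eq_of_le hB]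
  constructor
  · rintro ⟨-, hAe, hmax⟩
    refine ⟨hA, (hEA A hA).1 hAe, fun B hB hBe => ?_⟩
    rw [← hcard A hA, ← hcard B hB]
    exact hmax _ (Subgroup.map_mono hB) ((hEA B hB).2 hBe)
  · rintro ⟨-, hAe, hmax⟩
    refine ⟨Subgroup.map_mono hA, (hEA A hA).2 hAe, fun B hB hBe => ?_⟩
    have h : (S ⊓ B.comap f).map f = B := by
      refine le_antisymm (Subgroup.map_le_iff_le_comap.2 inf_le_right) fun b hb => ?_
      obtain ⟨s, hs, rfl⟩ := hB hb
      exact ⟨s, ⟨hs, hb⟩, rfl⟩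
    rw [hcard A hA, ← h, hcard _ inf_le_left]
    exact hmax _ inf_le_left ((hEA _ inf_le_left).1 (by rwa [h]))

theorem thompsonSubgroupOf_map {S : Subgroup G} (f : G →* H) (hf : Set.InjOn f S) :
    Cfsg.thompsonSubgroupOf p (S.map f) = (Cfsg.thompsonSubgroupOf p S).map f := by
  rw [thompsonSubgroupOf_eq, thompsonSubgroupOf_eq, sSup_eq_iSup' {A | IsMaxEAIn p S A},
    Subgroup.map_iSup]
  refine le_antisymm (sSup_le fun B hB => ?_)
    (iSup_le fun A => le_sSup ((isMaxEAIn_map_iff f hf A.2.1).2 A.2))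
  have h : (S ⊓ B.comap f).map f = B := by
    refine le_antisymm (Subgroup.map_le_iff_le_comap.2 inf_le_right) fun b hb => ?_
    obtain ⟨s, hs, rfl⟩ := hB.1 hb
    exact ⟨s, ⟨hs, hb⟩, rfl⟩
  refine h.ge.trans (le_iSup (fun A : ↥{A | IsMaxEAIn p S A} => (A : Subgroup G).map f)
    ⟨_, (isMaxEAIn_map_iff f hf inf_le_left).1 (by rwa [h])⟩)

theorem thompsonSubgroupOf_map_of_injective (S : Subgroup G) (f : G →* H)
    (hf : Function.Injective f) :
    Cfsg.thompsonSubgroupOf p (S.map f) = (Cfsg.thompsonSubgroupOf p S).map f :=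
  thompsonSubgroupOf_map f hf.injOn

theorem thompsonSubgroup_map_equiv (e : G ≃* H) :
    (Cfsg.thompsonSubgroup p G).map e.toMonoidHom = Cfsg.thompsonSubgroup p H := by
  rw [← thompsonSubgroupOf_top, ← thompsonSubgroupOf_map_of_injective _ _ e.injective,
    Subgroup.map_top_of_surjective _ e.surjective, thompsonSubgroupOf_top]

theorem thompsonSubgroup_characteristic (p : ℕ) (G : Type*) [Group G] :
    (Cfsg.thompsonSubgroup p G).Characteristic :=
  Subgroup.characteristic_iff_map_eq.2 fun e => thompsonSubgroup_map_equiv e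

theorem normalizer_le_normalizer_thompsonSubgroupOf (p : ℕ) (S : Subgroup G) :
    Subgroup.normalizer (S : Set G) ≤
      Subgroup.normalizer (Cfsg.thompsonSubgroupOf p S : Set G) := by
  intro g hg
  rw [Subgroup.mem_normalizer_iff_map_conj_eq] at hg ⊢
  rw [← thompsonSubgroupOf_map_of_injective _ _ (MulAut.conj g).injective, hg]

theorem thompsonSubgroupOf_ne_bot [Finite G] [hp : Fact p.Prime] {S : Subgroup G}
    (h : p ∣ Nat.card S) : Cfsg.thompsonSubgroupOf p S ≠ ⊥ := by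
  intro hbot
  obtain ⟨x, hx⟩ := exists_prime_orderOf_dvd_card' p h
  obtain ⟨A, hA⟩ := exists_isMaxEAIn p S
  have hA1 : A = ⊥ := le_bot_iff.1 (hbot ▸ le_thompsonSubgroupOf hA)
  rw [← Subgroup.orderOf_coe] at hx
  have h2 := hA.2.2 (Subgroup.zpowers (x : G)) (Subgroup.zpowers_le.2 x.2) ⟨inferInstance, by
    rintro _ ⟨k, rfl⟩
    rw [← zpow_natCast, ← zpow_mul, mul_comm, zpow_mul, zpow_natCast, ← hx, pow_orderOf_eq_one,
      one_zpow]⟩
  rw [hA1, Subgroup.card_bot, Nat.card_zpowers, hx] at h2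
  exact absurd h2 (not_le.2 hp.out.one_lt)

/-- A subgroup of `S` containing `J(S)` has the same Thompson subgroup. -/
theorem thompsonSubgroupOf_eq_of_le [Finite G] {S U : Subgroup G}
    (hJU : Cfsg.thompsonSubgroupOf p S ≤ U) (hUS : U ≤ S) :
    Cfsg.thompsonSubgroupOf p U = Cfsg.thompsonSubgroupOf p S := by
  rw [thompsonSubgroupOf_eq, thompsonSubgroupOf_eq]
  congr 1
  ext A
  obtain ⟨B, hB⟩ := exists_isMaxEAIn p S
  have hBU : B ≤ U := (le_thompsonSubgroupOf hB).trans hJU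
  constructor
  · intro hA
    exact ⟨hA.1.trans hUS, hA.2.1, fun C hC hCe =>
      (hB.2.2 C hC hCe).trans (hA.2.2 B hBU hB.2.1)⟩
  · intro hA
    exact ⟨(le_thompsonSubgroupOf hA).trans hJU, hA.2.1,
      fun C hC hCe => hA.2.2 C (hC.trans hUS) hCe⟩

end Cfsg.Agent.Thompson
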