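import Mathlib.GroupTheory.Solvable
import Cfsg.Prelude.Def_PLocal
import Cfsg.Agent.Lib.Transfer.Basic
import Cfsg.Agent.Lib.Transfer.Fusion
import Cfsg.Agent.Lib.Transfer.PGroup
import Cfsg.Agent.Lib.LocalEven.OmegaOne
import Cfsg.Agent.Lib.PLocal.GlaubermanReplacement
import Cfsg.Agent.Lib.PLocal.Thompson

/-!
Glauberman's `ZJ`-theorem, for the abelian and for the elementary abelian Thompson subgroup.
-/

set_option autoImplicit false
set_option linter.style.haveILetI false

open scoped commutatorElement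

namespace Cfsg.Agent.ZJ

open Cfsg.Agent

variable {G : Type*} [Group G] {H : Type*} [Group H] {p : ℕ} {e : Prop}

/-- The abelian subgroups considered: all of them, or the elementary abelian ones. -/
def Sml (p : ℕ) (e : Prop) (A : Subgroup G) : Prop :=
  IsMulCommutative A ∧ (e → ∀ a ∈ A, a ^ p = 1)

/-- A member of largest order inside `S`. -/
def IsMaxIn (p : ℕ) (e : Prop) (S A : Subgroup G) : Prop :=
  A ≤ S ∧ Sml p e A ∧ ∀ B : Subgroup G, B ≤ S → Sml p e B → Nat.card B ≤ Nat.card A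

/-- The subgroup generated by the members of largest order. -/
def jSub (p : ℕ) (e : Prop) (S : Subgroup G) : Subgroup G := sSup {A | IsMaxIn p e S A}

/-- Its centre. -/
def zJ (p : ℕ) (e : Prop) (S : Subgroup G) : Subgroup G :=
  jSub p e S ⊓ Subgroup.centralizer (jSub p e S : Set G)

/-- The intersection of the members of largest order. -/
def zCore (p : ℕ) (e : Prop) (S : Subgroup G) : Subgroup G := sInf {A | IsMaxIn p e S A}

theorem Sml.comm {A : Subgroup G} (h : Sml p e A) {x y : G} (hx : x ∈ A) (hy : y ∈ A) :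
    x * y = y * x :=
  congrArg Subtype.val (h.1.is_comm.comm ⟨x, hx⟩ ⟨y, hy⟩)

theorem sml_of_comm {A : Subgroup G} (h : ∀ x ∈ A, ∀ y ∈ A, x * y = y * x)
    (he : e → ∀ a ∈ A, a ^ p = 1) : Sml p e A :=
  ⟨⟨⟨fun a b => Subtype.ext (h a a.2 b b.2)⟩⟩, he⟩

theorem sml_bot : Sml p e (⊥ : Subgroup G) :=
  sml_of_comm (fun x hx y hy => by rw [Subgroup.mem_bot.1 hx, Subgroup.mem_bot.1 hy])
    fun _ a ha => by rw [Subgroup.mem_bot.1 ha, one_pow]

theorem Sml.map {A : Subgroup G} (h : Sml p e A) (f : G →* H) : Sml p e (A.map f) := by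
  refine sml_of_comm ?_ ?_
  · rintro _ ⟨x, hx, rfl⟩ _ ⟨y, hy, rfl⟩
    rw [← map_mul, ← map_mul, h.comm hx hy]
  · rintro he _ ⟨x, hx, rfl⟩
    rw [← map_pow, h.2 he x hx, map_one]

theorem sml_of_map {A : Subgroup G} {f : G →* H} (hf : Set.InjOn f A) (h : Sml p e (A.map f)) :
    Sml p e A := by
  refine sml_of_comm (fun x hx y hy => hf (A.mul_mem hx hy) (A.mul_mem hy hx) ?_)
    fun he x hx => hf (A.pow_mem hx p) A.one_mem ?_
  · rw [map_mul, map_mul, h.comm (Subgroup.mem_map_of_mem f hx) (Subgroup.mem_map_of_mem f hy)]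
  · rw [map_pow, map_one, h.2 he _ (Subgroup.mem_map_of_mem f hx)]

theorem exists_isMaxIn [Finite G] (p : ℕ) (e : Prop) (S : Subgroup G) : ∃ A, IsMaxIn p e S A := by
  obtain ⟨A, hA, hmax⟩ := Set.exists_max_image {A : Subgroup G | A ≤ S ∧ Sml p e A}
    (fun A => Nat.card A) (Set.toFinite _) ⟨⊥, bot_le, sml_bot⟩
  exact ⟨A, hA.1, hA.2, fun B hB hBe => hmax B ⟨hB, hBe⟩⟩

theorem le_jSub {S A : Subgroup G} (hA : IsMaxIn p e S A) : A ≤ jSub p e S := le_sSup hA

theorem jSub_le (S : Subgroup G) : jSub p e S ≤ S := sSup_le fun _ hA => hA.1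

theorem zJ_le (S : Subgroup G) : zJ p e S ≤ S := inf_le_left.trans (jSub_le S)

theorem zJ_comm {S : Subgroup G} {x y : G} (hx : x ∈ zJ p e S) (hy : y ∈ zJ p e S) :
    x * y = y * x := hy.2 x hx.1

theorem commute_of_mem_zJ {S A : Subgroup G} (hA : IsMaxIn p e S A) {z a : G}
    (hz : z ∈ zJ p e S) (ha : a ∈ A) : a * z = z * a := hz.2 a (le_jSub hA ha)

theorem mem_of_centralizes [Finite G] {S A : Subgroup G} (hA : IsMaxIn p e S A) {x : G}
    (hxS : x ∈ S) (hx : ∀ a ∈ A, a * x = x * a) (hxp : e → x ^ p = 1) : x ∈ A := by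
  set B := Subgroup.closure ((A : Set G) ∪ {x}) with hB
  have hle : A ≤ B := fun a ha => Subgroup.subset_closure (Or.inl ha)
  have hBS : B ≤ S := by
    rw [hB, Subgroup.closure_le, Set.union_subset_iff]
    exact ⟨hA.1, Set.singleton_subset_iff.2 hxS⟩
  have hc : IsMulCommutative B := by
    refine Subgroup.isMulCommutative_closure ?_
    rintro a (ha | ha) b (hb | hb)
    · exact hA.2.1.comm ha hb
    · rw [Set.mem_singleton_iff.1 hb]; exact hx a ha
    · rw [Set.mem_singleton_iff.1 ha]; exact (hx b hb).symm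
    · rw [Set.mem_singleton_iff.1 ha, Set.mem_singleton_iff.1 hb]
  have hBs : Sml p e B := ⟨hc, fun he b hb => by
    have hcomm : ∀ u ∈ B, ∀ v ∈ B, u * v = v * u := fun u hu v hv =>
      congrArg Subtype.val (hc.is_comm.comm ⟨u, hu⟩ ⟨v, hv⟩)
    induction hb using Subgroup.closure_induction with
    | mem y hy =>
      rcases hy with hy | hy
      · exact hA.2.1.2 he y hy
      · rw [Set.mem_singleton_iff.1 hy]; exact hxp he
    | one => exact one_pow p
    | mul u v hu hv ihu ihv => rw [Commute.mul_pow (hcomm u hu v hv), ihu, ihv, one_mul]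
    | inv u _ ihu => rw [inv_pow, ihu, inv_one]⟩
  rw [Subgroup.eq_of_le_of_card_ge hle (hA.2.2 B hBS hBs)]
  exact Subgroup.subset_closure (Or.inr rfl)

theorem mem_zCore_iff [Finite G] {S : Subgroup G} {x : G} :
    x ∈ zCore p e S ↔ x ∈ zJ p e S ∧ (e → x ^ p = 1) := by
  obtain ⟨A₀, hA₀⟩ := exists_isMaxIn p e S
  rw [zCore, Subgroup.mem_sInf]
  constructor
  · intro h
    refine ⟨⟨le_jSub hA₀ (h A₀ hA₀), fun j hj => ?_⟩, fun he => hA₀.2.1.2 he x (h A₀ hA₀)⟩
    have hle : jSub p e S ≤ Subgroup.centralizer {x} := sSup_le fun A hA a ha => by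
      rw [Subgroup.mem_centralizer_singleton_iff]
      exact hA.2.1.comm ha (h A hA)
    exact Subgroup.mem_centralizer_singleton_iff.1 (hle hj)
  · intro h A hA
    exact mem_of_centralizes hA (zJ_le S h.1) (fun a ha => commute_of_mem_zJ hA h.1 ha) h.2

theorem zCore_le_zJ [Finite G] (S : Subgroup G) : zCore p e S ≤ zJ p e S :=
  fun _ hx => (mem_zCore_iff.1 hx).1

theorem zCore_le_of_isMaxIn {S A : Subgroup G} (hA : IsMaxIn p e S A) : zCore p e S ≤ A :=
  sInf_le hA

theorem zCore_eq_zJ [Finite G] (he : ¬ e) (S : Subgroup G) : zCore p e S = zJ p e S := by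
  ext x
  rw [mem_zCore_iff]
  exact ⟨fun h => h.1, fun h => ⟨h, fun h' => absurd h' he⟩⟩

theorem isMaxIn_map_iff {S A : Subgroup G} (f : G →* H) (hf : Set.InjOn f S) (hA : A ≤ S) :
    IsMaxIn p e (S.map f) (A.map f) ↔ IsMaxIn p e S A := by
  have hcard : ∀ B, B ≤ S → Nat.card (B.map f) = Nat.card B := fun B hB =>
    Nat.card_image_of_injOn (hf.mono (SetLike.coe_subset_coe.2 hB))
  constructor
  · rintro ⟨-, hAs, hmax⟩
    refine ⟨hA, sml_of_map (hf.mono hA) hAs, fun B hB hBs => ?_⟩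
    rw [← hcard A hA, ← hcard B hB]
    exact hmax _ (Subgroup.map_mono hB) (hBs.map f)
  · rintro ⟨-, hAs, hmax⟩
    refine ⟨Subgroup.map_mono hA, hAs.map f, fun B hB hBs => ?_⟩
    have h : (S ⊓ B.comap f).map f = B := by
      refine le_antisymm (Subgroup.map_le_iff_le_comap.2 inf_le_right) fun b hb => ?_
      obtain ⟨s, hs, rfl⟩ := hB hb
      exact ⟨s, ⟨hs, hb⟩, rfl⟩
    rw [hcard A hA, ← h, hcard _ inf_le_left]
    exact hmax _ inf_le_left
      (sml_of_map (hf.mono (SetLike.coe_subset_coe.2 inf_le_left)) (by rwa [h]))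

theorem jSub_map {S : Subgroup G} (f : G →* H) (hf : Set.InjOn f S) :
    (jSub p e S).map f = jSub p e (S.map f) := by
  rw [jSub, jSub, sSup_eq_iSup' {A | IsMaxIn p e S A}, Subgroup.map_iSup]
  refine le_antisymm (iSup_le fun A => le_sSup ((isMaxIn_map_iff f hf A.2.1).2 A.2))
    (sSup_le fun B hB => ?_)
  have h : (S ⊓ B.comap f).map f = B := by
    refine le_antisymm (Subgroup.map_le_iff_le_comap.2 inf_le_right) fun b hb => ?_
    obtain ⟨s, hs, rfl⟩ := hB.1 hb
    exact ⟨s, ⟨hs, hb⟩, rfl⟩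
  refine h.ge.trans (le_iSup (fun A : ↥{A | IsMaxIn p e S A} => (A : Subgroup G).map f)
    ⟨_, (isMaxIn_map_iff f hf inf_le_left).1 (by rwa [h])⟩)

theorem inf_centralizer_map {J : Subgroup G} (f : G →* H) (hf : Set.InjOn f J) :
    (J ⊓ Subgroup.centralizer (J : Set G)).map f =
      J.map f ⊓ Subgroup.centralizer ((J.map f : Subgroup H) : Set H) := by
  refine le_antisymm ?_ ?_
  · rintro _ ⟨x, hx, rfl⟩
    refine ⟨Subgroup.mem_map_of_mem f hx.1, ?_⟩
    rintro _ ⟨y, hy, rfl⟩
    rw [← map_mul, ← map_mul, hx.2 y hy]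
  · rintro _ ⟨⟨x, hx, rfl⟩, hc⟩
    refine ⟨x, ⟨hx, fun y hy => hf (J.mul_mem hy hx) (J.mul_mem hx hy) ?_⟩, rfl⟩
    rw [map_mul, map_mul]
    exact hc _ (Subgroup.mem_map_of_mem f hy)

theorem zJ_map {S : Subgroup G} (f : G →* H) (hf : Set.InjOn f S) :
    (zJ p e S).map f = zJ p e (S.map f) := by
  rw [zJ, zJ, inf_centralizer_map f (hf.mono (SetLike.coe_subset_coe.2 (jSub_le S))),
    jSub_map f hf]

theorem zCore_map [Finite G] [Finite H] {S : Subgroup G} (f : G →* H) (hf : Set.InjOn f S) :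
    (zCore p e S).map f = zCore p e (S.map f) := by
  ext y
  rw [mem_zCore_iff, ← zJ_map f hf]
  constructor
  · rintro ⟨x, hx, rfl⟩
    refine ⟨Subgroup.mem_map_of_mem f (zCore_le_zJ S hx), fun he => ?_⟩
    rw [← map_pow, (mem_zCore_iff.1 hx).2 he, map_one]
  · rintro ⟨⟨x, hx, rfl⟩, hp⟩
    refine ⟨x, mem_zCore_iff.2 ⟨hx, fun he => hf (S.pow_mem (zJ_le S hx) p) S.one_mem ?_⟩, rfl⟩
    rw [map_pow, map_one, hp he]

theorem normalizer_le_normalizer_jSub (S : Subgroup G) :
    Subgroup.normalizer (S : Set G) ≤ Subgroup.normalizer (jSub p e S : Set G) := by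
  intro g hg
  rw [Subgroup.mem_normalizer_iff_map_conj_eq] at hg ⊢
  exact (jSub_map _ (MulAut.conj g).injective.injOn).trans
    (congrArg (jSub p e) hg)

theorem normalizer_jSub_le_normalizer_zJ (S : Subgroup G) :
    Subgroup.normalizer (jSub p e S : Set G) ≤ Subgroup.normalizer (zJ p e S : Set G) := by
  intro g hg
  rw [Subgroup.mem_normalizer_iff_map_conj_eq] at hg ⊢
  exact (inf_centralizer_map _ (MulAut.conj g).injective.injOn).trans
    (congrArg (fun J => J ⊓ Subgroup.centralizer ((J : Subgroup G) : Set G)) hg)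

theorem normalizer_zJ_le_normalizer_zCore [Finite G] (S : Subgroup G) :
    Subgroup.normalizer (zJ p e S : Set G) ≤ Subgroup.normalizer (zCore p e S : Set G) := by
  intro g hg
  rw [Subgroup.mem_normalizer_iff] at hg ⊢
  intro x
  rw [mem_zCore_iff, mem_zCore_iff, ← hg, conj_pow]
  simp [conj_eq_one_iff]

theorem normalizer_le_normalizer_zJ (S : Subgroup G) :
    Subgroup.normalizer (S : Set G) ≤ Subgroup.normalizer (zJ p e S : Set G) :=
  (normalizer_le_normalizer_jSub S).trans (normalizer_jSub_le_normalizer_zJ S)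

theorem le_normalizer_zJ (S : Subgroup G) : S ≤ Subgroup.normalizer (zJ p e S : Set G) :=
  Subgroup.le_normalizer.trans (normalizer_le_normalizer_zJ S)

theorem zCore_ne_bot [Finite G] [hp : Fact p.Prime] {S : Subgroup G} (hS : IsPGroup p S)
    (h : S ≠ ⊥) : zCore p e S ≠ ⊥ := by
  haveI : Nontrivial S := (Subgroup.nontrivial_iff_ne_bot S).2 h
  haveI := hS.center_nontrivial
  obtain ⟨k, hk0, hk⟩ := (IsPGroup.nontrivial_iff_card (hS.to_subgroup _)).1
    (inferInstance : Nontrivial (Subgroup.center S))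
  obtain ⟨z, hz⟩ := exists_prime_orderOf_dvd_card' (G := Subgroup.center S) p
    (hk ▸ dvd_pow_self p hk0.ne')
  intro hbot
  have hmem : ((z : S) : G) ∈ zCore p e S := by
    rw [zCore, Subgroup.mem_sInf]
    intro A hA
    refine mem_of_centralizes hA (z : S).2 (fun a ha => ?_) fun _ => ?_
    · exact congrArg Subtype.val (Subgroup.mem_center_iff.1 z.2 ⟨a, hA.1 ha⟩)
    · rw [← hz, ← SubmonoidClass.coe_pow, ← SubmonoidClass.coe_pow, pow_orderOf_eq_one]
      rfl
  rw [hbot, Subgroup.mem_bot] at hmem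
  have hz1 : z = 1 := Subtype.ext (Subtype.ext hmem)
  rw [hz1, orderOf_one] at hz
  exact hp.out.one_lt.ne hz

/-- Replacement preserves the class of subgroups considered. -/
theorem sml_star [Finite G] [hp : Fact p.Prime] (hp2 : p ≠ 2) {T : Subgroup G} {A B : Subgroup T}
    {b : T} (h : GReplacement.Setup A B b p) (hA : Sml p e (A.map T.subtype)) :
    Sml p e ((GReplacement.star A b).map T.subtype) := by
  have hA0 : Sml p e A := sml_of_map Subtype.coe_injective.injOn hA
  refine Sml.map ⟨h.star_comm, fun he y hy => ?_⟩ _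
  exact h.pow_eq_one hp2 (E := p) (hA0.2 he) (hp.out.odd_of_ne_two hp2) hy

/-- The `p`-stability used in the `ZJ`-theorem. -/
def IsQuad (p : ℕ) (G : Type*) [Group G] : Prop :=
  ∀ (B : Subgroup G) [B.Normal] (a : G), IsPGroup p B → IsPGroup p (Subgroup.zpowers a) →
    ⁅⁅B, Subgroup.zpowers a⁆, Subgroup.zpowers a⁆ = ⊥ →
      (QuotientGroup.mk a : G ⧸ Subgroup.centralizer (B : Set G)) ∈
        Cfsg.pCore p (G ⧸ Subgroup.centralizer (B : Set G))

theorem isQuad_of_isPStableOn
    (h : ∀ (P : Subgroup G) [P.Normal], IsPGroup p P → Cfsg.IsPStableOn p P) : IsQuad p G :=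
  fun B _ a hB _ hq => h B hB a hq

/-- The preimage of `O_p(G/C(B))`. -/
def stab (p : ℕ) (B : Subgroup G) [B.Normal] : Subgroup G :=
  (Cfsg.pCore p (G ⧸ Subgroup.centralizer (B : Set G))).comap
    (QuotientGroup.mk' (Subgroup.centralizer (B : Set G)))

instance stab_normal (p : ℕ) (B : Subgroup G) [B.Normal] : (stab p B).Normal :=
  (Cfsg.pCore_normal p _).comap _

theorem quadratic_of_le_normalizer {B A : Subgroup G} (hAc : ∀ x ∈ A, ∀ y ∈ A, x * y = y * x)
    (hB : B ≤ Subgroup.normalizer (A : Set G)) {a : G} (ha : a ∈ A) :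
    ⁅⁅B, Subgroup.zpowers a⁆, Subgroup.zpowers a⁆ = ⊥ := by
  have hz : Subgroup.zpowers a ≤ A := Subgroup.zpowers_le.2 ha
  have h1 : ⁅B, Subgroup.zpowers a⁆ ≤ A := by
    rw [Subgroup.commutator_le]
    intro b hb c hc
    rw [commutatorElement_def]
    exact A.mul_mem ((Subgroup.mem_normalizer_iff.1 (hB hb) c).1 (hz hc)) (A.inv_mem (hz hc))
  rw [Subgroup.commutator_eq_bot_iff_le_centralizer]
  exact fun x hx y hy => hAc y (hz hy) x (h1 hx)

theorem mem_stab (hq : IsQuad p G) {B A : Subgroup G} [B.Normal] (hB : IsPGroup p B)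
    (hA : IsPGroup p A) (hAc : ∀ x ∈ A, ∀ y ∈ A, x * y = y * x)
    (hBA : B ≤ Subgroup.normalizer (A : Set G)) : A ≤ stab p B := fun a ha =>
  hq B a hB (hA.to_le (Subgroup.zpowers_le.2 ha)) (quadratic_of_le_normalizer hAc hBA ha)

theorem stab_le_normalizer [Finite G] [hp : Fact p.Prime] (S : Sylow p G) (B : Subgroup G)
    [B.Normal] {W : Subgroup G} (hWB : W ≤ B)
    (hSW : (S : Subgroup G) ≤ Subgroup.normalizer (W : Set G)) :
    stab p B ≤ Subgroup.normalizer (W : Set G) := by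
  set C := Subgroup.centralizer (B : Set G) with hC
  set f := QuotientGroup.mk' C with hf
  have hfs : Function.Surjective f := QuotientGroup.mk'_surjective C
  have hle : stab p B ≤ C ⊔ (S : Subgroup G) := by
    intro x hx
    have h1 : f x ∈ (S : Subgroup G).map f := by
      have h2 := PBasic.pCore_le_sylow (p := p) (S.mapSurjective hfs) hx
      rwa [Sylow.coe_mapSurjective] at h2
    obtain ⟨s, hs, hsx⟩ := h1
    have h3 : s⁻¹ * x ∈ C := QuotientGroup.eq.1 hsx
    rw [show x = s * (s⁻¹ * x) by group]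
    exact mul_mem (Subgroup.mem_sup_right hs) (Subgroup.mem_sup_left h3)
  refine hle.trans (sup_le ?_ hSW)
  exact (Subgroup.centralizer_le (SetLike.coe_subset_coe.2 hWB)).trans
    (Subgroup.centralizer_le_normalizer _)

/-- A normal `p`-subgroup lies in every Sylow `p`-subgroup. -/
theorem le_sylow [Finite G] [Fact p.Prime] (S : Sylow p G) {B : Subgroup G} [B.Normal]
    (hB : IsPGroup p B) : B ≤ (S : Subgroup G) :=
  (PBasic.le_pCore inferInstance hB).trans (PBasic.pCore_le_sylow S)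

theorem comap_normalizer_eq {S A : Subgroup G} (hAS : A ≤ S) (x : S) :
    x ∈ Subgroup.normalizer (A.subgroupOf S : Set S) ↔
      (x : G) ∈ Subgroup.normalizer (A : Set G) := by
  rw [Subgroup.mem_normalizer_iff, Subgroup.mem_normalizer_iff]
  constructor
  · intro h y
    by_cases hy : y ∈ S
    · simpa [Subgroup.mem_subgroupOf] using h ⟨y, hy⟩
    · refine ⟨fun hyA => absurd (hAS hyA) hy, fun hyA => absurd ?_ hy⟩
      have := S.mul_mem (S.mul_mem (S.inv_mem x.2) (hAS hyA)) x.2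
      simpa [mul_assoc] using this
  · intro h y
    simp only [Subgroup.mem_subgroupOf, Subgroup.coe_mul, Subgroup.coe_inv]
    exact h y

/-- The replacement step: a member not normalized by `V` gives one with larger intersection. -/
theorem exists_better [Finite G] [hp : Fact p.Prime] (hp2 : p ≠ 2) {S A V : Subgroup G}
    (hS : IsPGroup p S) [V.Normal] (hVS : V ≤ S) (hA : IsMaxIn p e S A) (hVA : ⁅V, V⁆ ≤ A)
    (hnot : ¬ V ≤ Subgroup.normalizer (A : Set G)) :
    ∃ A' : Subgroup G, IsMaxIn p e S A' ∧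
      Nat.card ↥(A ⊓ V) < Nat.card ↥(A' ⊓ V) ∧ ¬ V ≤ A' := by
  set A0 := A.subgroupOf S with hA0
  set V0 := V.subgroupOf S with hV0
  have hmA : A0.map S.subtype = A := Subgroup.map_subgroupOf_eq_of_le hA.1
  have hmV : V0.map S.subtype = V := Subgroup.map_subgroupOf_eq_of_le hVS
  have hA0s : Sml p e A0 := sml_of_map Subtype.coe_injective.injOn (by rw [hmA]; exact hA.2.1)
  haveI : V0.Normal := Subgroup.normal_subgroupOf
  have hBA : ⁅V0, V0⁆ ≤ A0 := by
    rw [← Subgroup.map_le_map_iff_of_injective S.subtype_injective, Subgroup.map_commutator,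
      hmV, hmA]
    exact hVA
  have hnot0 : ¬ V0 ≤ Subgroup.normalizer (A0 : Set S) := fun h => hnot fun v hv =>
    (comap_normalizer_eq hA.1 ⟨v, hVS hv⟩).1 (h (show (⟨v, hVS hv⟩ : S) ∈ V0 from hv))
  set N := Subgroup.normalizer (A0 : Set S) with hN
  have hlt : N < V0 ⊔ N := lt_of_le_of_ne le_sup_right fun h => hnot0 (h ▸ le_sup_left)
  obtain ⟨x, hx, hxN⟩ := SetLike.exists_of_lt
    (Fusion.lt_inf_normalizer (hS.to_subgroup _).isNilpotent hlt)
  obtain ⟨hxP, hxn⟩ := Subgroup.mem_inf.1 hx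
  rw [← SetLike.mem_coe, Subgroup.normal_mul] at hxP
  obtain ⟨b, hb, n, hn, rfl⟩ := Set.mem_mul.1 hxP
  have hbN : b ∈ Subgroup.normalizer (N : Set S) := by
    have := mul_mem hxn (Subgroup.inv_mem _ (Subgroup.le_normalizer hn))
    rwa [mul_inv_cancel_right] at this
  have h : GReplacement.Setup A0 V0 b p :=
    ⟨hS, inferInstance, fun h2 => absurd h2 hp2, hA0s.1, hBA, hb, hbN,
      fun hbA => hxN (N.mul_mem hbA hn)⟩
  refine ⟨(GReplacement.star A0 b).map S.subtype,
    ⟨Subgroup.map_subtype_le _, sml_star hp2 h (by rw [hmA]; exact hA.2.1), fun B hB hBs => ?_⟩,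
    ?_, ?_⟩
  · rw [Subgroup.card_map_of_injective Subtype.coe_injective, h.star_card,
      ← Subgroup.card_map_of_injective (K := A0) S.subtype_injective, hmA]
    exact hA.2.2 B hB hBs
  · rw [← hmA, ← hmV, ← Subgroup.map_inf _ _ _ S.subtype_injective,
      ← Subgroup.map_inf _ _ _ S.subtype_injective,
      Subgroup.card_map_of_injective S.subtype_injective,
      Subgroup.card_map_of_injective S.subtype_injective]
    exact Set.ncard_lt_ncard (SetLike.coe_ssubset_coe.2 h.inf_lt) (Set.toFinite _)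
  · intro hle
    refine h.inf_lt_B.ne (inf_eq_right.2 ?_)
    rw [← Subgroup.map_le_map_iff_of_injective S.subtype_injective, hmV]
    exact hle

/-- The heart of the `ZJ`-theorem. -/
theorem normal_of_replacement [Finite G] [hp : Fact p.Prime] (hp2 : p ≠ 2) (S : Sylow p G)
    (e : Prop) (B V W : Subgroup G) [B.Normal] [V.Normal] (hB : IsPGroup p B) (hVB : V ≤ B)
    (hWB : W ≤ B) (hgen : Subgroup.normalClosure (W : Set G) = B)
    (hJ : Subgroup.normalizer (jSub p e (S : Subgroup G) : Set G) ≤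
      Subgroup.normalizer (W : Set G))
    (hW : W ≤ Subgroup.centralizer (jSub p e (S : Subgroup G) : Set G))
    (hVV : ∀ A, IsMaxIn p e (S : Subgroup G) A → ⁅V, V⁆ ≤ A)
    (hVe : e → ∀ v ∈ V, v ^ p = 1)
    (hVN : ∀ A, IsMaxIn p e (S : Subgroup G) A → V ≤ Subgroup.normalizer (A : Set G) →
      A ≤ stab p B) : W.Normal := by
  rw [← Subgroup.normalizer_eq_top_iff]
  set L := (Subgroup.normalizer (W : Set G)).normalCore with hL
  have hLW : L ≤ Subgroup.normalizer (W : Set G) := Subgroup.normalCore_le _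
  have hSW : (S : Subgroup G) ≤ Subgroup.normalizer (W : Set G) :=
    (Subgroup.le_normalizer.trans (normalizer_le_normalizer_jSub _)).trans hJ
  have hML : stab p B ≤ L := Subgroup.normal_le_normalCore.2 (stab_le_normalizer S B hWB hSW)
  obtain ⟨TL, hTL⟩ := PBasic.exists_sylow_subgroupOf S L
  set T := (S : Subgroup G) ⊓ L with hT
  have hTmap : (TL : Subgroup L).map L.subtype = T := by
    rw [hTL, Subgroup.subgroupOf_map_subtype]
  have hfr : Subgroup.normalizer (T : Set G) ⊔ L = ⊤ := by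
    rw [← hTmap]; exact Sylow.normalizer_sup_eq_top TL
  have hgen' : ∀ g : G, ∃ n ∈ Subgroup.normalizer (T : Set G), ∃ l ∈ L, g = n * l := by
    intro g
    have hg : g ∈ Subgroup.normalizer (T : Set G) ⊔ L := hfr ▸ Subgroup.mem_top g
    rw [← SetLike.mem_coe, Subgroup.mul_normal] at hg
    obtain ⟨n, hn, l, hl, rfl⟩ := Set.mem_mul.1 hg
    exact ⟨n, hn, l, hl, rfl⟩
  by_cases hall : ∀ A, IsMaxIn p e (S : Subgroup G) A → A ≤ L
  · have hJT : jSub p e T = jSub p e (S : Subgroup G) := by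
      rw [jSub, jSub]
      congr 1
      ext A
      obtain ⟨A₀, hA₀⟩ := exists_isMaxIn p e (S : Subgroup G)
      have hA₀T : A₀ ≤ T := le_inf hA₀.1 (hall A₀ hA₀)
      exact ⟨fun hA => ⟨hA.1.trans inf_le_left, hA.2.1,
          fun C hC hCs => (hA₀.2.2 C hC hCs).trans (hA.2.2 A₀ hA₀T hA₀.2.1)⟩,
        fun hA => ⟨le_inf hA.1 (hall A hA), hA.2.1,
          fun C hC hCs => hA.2.2 C (hC.trans inf_le_left) hCs⟩⟩
    rw [eq_top_iff, ← hfr]
    exact sup_le ((normalizer_le_normalizer_jSub T).trans (hJT ▸ hJ)) hLW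
  exfalso
  push Not at hall
  obtain ⟨A, ⟨hA, hAL⟩, hmax⟩ := Set.exists_max_image
    {A | IsMaxIn p e (S : Subgroup G) A ∧ ¬ A ≤ L} (fun A => Nat.card ↥(A ⊓ V))
    (Set.toFinite _) hall
  have hBS : B ≤ (S : Subgroup G) := le_sylow S hB
  by_cases hVA : V ≤ Subgroup.normalizer (A : Set G)
  · exact hAL ((hVN A hA hVA).trans hML)
  obtain ⟨A', hA', hlt, hnle⟩ := exists_better hp2 S.isPGroup' (hVB.trans hBS) hA (hVV A hA) hVA
  have hA'L : A' ≤ L := by
    by_contra h
    exact absurd (hmax A' ⟨hA', h⟩) (not_le.2 hlt)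
  refine hnle fun v hv => mem_of_centralizes hA' (hBS (hVB hv)) (fun a ha => ?_) fun he => hVe he v hv
  have hA'T : IsMaxIn p e T A' := ⟨le_inf hA'.1 hA'L, hA'.2.1,
    fun C hC hCs => hA'.2.2 C (hC.trans inf_le_left) hCs⟩
  set X := Subgroup.centralizer (jSub p e T : Set G) with hX
  have hWX : W ≤ X := hW.trans (Subgroup.centralizer_le (SetLike.coe_subset_coe.2
    (sSup_le fun C hC => le_jSub ⟨hC.1.trans inf_le_left, hC.2.1,
      fun D hD hDs => (hA'.2.2 D hD hDs).trans (hC.2.2 A' hA'T.1 hA'.2.1)⟩)))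
  have hBX : B ≤ X := by
    rw [← hgen, Subgroup.normalClosure, Subgroup.closure_le]
    intro y hy
    obtain ⟨w, hw, hwy⟩ := Group.mem_conjugatesOfSet_iff.1 hy
    obtain ⟨g, rfl⟩ := isConj_iff.1 hwy
    obtain ⟨n, hn, l, hl, rfl⟩ := hgen' g
    have h1 : l * w * l⁻¹ ∈ W := (Subgroup.mem_normalizer_iff.1 (hLW hl) w).1 hw
    have h2 : n ∈ Subgroup.normalizer (jSub p e T : Set G) := normalizer_le_normalizer_jSub T hn
    intro j hj
    have h3 : n⁻¹ * j * n ∈ jSub p e T := by
      have := (Subgroup.mem_normalizer_iff.1 (inv_mem h2) j).1 hj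
      rwa [inv_inv] at this
    have h4 := hWX h1 _ h3
    calc j * (n * l * w * (n * l)⁻¹)
        = n * ((n⁻¹ * j * n) * (l * w * l⁻¹)) * n⁻¹ := by group
      _ = n * ((l * w * l⁻¹) * (n⁻¹ * j * n)) * n⁻¹ := by rw [h4]
      _ = n * l * w * (n * l)⁻¹ * j := by group
  exact hBX (hVB hv) a (le_jSub hA'T ha)

/-- An element of order prime to `p` that centralizes `V` and all `p`-th powers centralizes `B`,
when `V` contains the elements of order `p` among quotients of two `p`-th roots. -/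
theorem mem_centralizer_of_series [Finite G] [hp : Fact p.Prime] {B V : Subgroup G} [B.Normal]
    {x : G} (hx : (orderOf x).Coprime p) (hxV : x ∈ Subgroup.centralizer (V : Set G))
    (hq : ∀ y ∈ B, y⁻¹ * (x * y * x⁻¹) ∈ V ∧ (y⁻¹ * (x * y * x⁻¹)) ^ p = 1) :
    x ∈ Subgroup.centralizer (B : Set G) := by
  intro y hy
  obtain ⟨hv, hvp⟩ := hq y hy
  set v := y⁻¹ * (x * y * x⁻¹) with hvdef
  have hxy : x * y * x⁻¹ = y * v := by rw [hvdef]; group
  have hxv : x * v * x⁻¹ = v := by rw [← hxV v hv, mul_inv_cancel_right]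
  have hn : ∀ n : ℕ, x ^ n * y * (x ^ n)⁻¹ = y * v ^ n := by
    intro n
    induction n with
    | zero => simp
    | succ n ih =>
      calc x ^ (n + 1) * y * (x ^ (n + 1))⁻¹
          = x * (x ^ n * y * (x ^ n)⁻¹) * x⁻¹ := by rw [pow_succ']; group
        _ = (x * y * x⁻¹) * (x * v ^ n * x⁻¹) := by rw [ih]; group
        _ = y * v ^ (n + 1) := by rw [hxy, ← conj_pow, hxv, pow_succ', mul_assoc]
  have h1 : v ^ orderOf x = 1 := by
    have := hn (orderOf x)
    rw [pow_orderOf_eq_one, one_mul, inv_one, mul_one, left_eq_mul] at this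
    exact this
  have h2 : v = 1 := by
    rw [← orderOf_eq_one_iff, ← Nat.dvd_one, ← (Nat.coprime_iff_gcd_eq_one.1 hx)]
    exact Nat.dvd_gcd (orderOf_dvd_of_pow_eq_one h1) (orderOf_dvd_of_pow_eq_one hvp)
  rw [h2, mul_one, mul_inv_eq_iff_eq_mul] at hxy
  exact hxy.symm

/-- In a group of class two and odd `p`, with derived group of exponent `p`. -/
theorem mul_pow_of_class_two [hp : Fact p.Prime] (hp2 : p ≠ 2) {B : Subgroup G}
    (hBB : ∀ u ∈ B, ∀ v ∈ B, ∀ w ∈ B, Commute ⁅u, v⁆ w)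
    (hBp : ∀ u ∈ B, ∀ v ∈ B, ⁅u, v⁆ ^ p = 1) {u v : G} (hu : u ∈ B) (hv : v ∈ B) :
    (u * v) ^ p = u ^ p * v ^ p := by
  have hz : v * u = u * v * ⁅v⁻¹, u⁻¹⁆ := by rw [commutatorElement_def]; group
  rw [LEOmega.mul_pow_class_two hz (hBB _ (B.inv_mem hv) _ (B.inv_mem hu) u hu)
    (hBB _ (B.inv_mem hv) _ (B.inv_mem hu) v hv)]
  have hdvd : p ∣ p.choose 2 :=
    hp.out.dvd_choose_self (by norm_num) (lt_of_le_of_ne hp.out.two_le (Ne.symm hp2))
  obtain ⟨m, hm⟩ := hdvd
  rw [hm, pow_mul, hBp _ (B.inv_mem hv) _ (B.inv_mem hu), one_pow, mul_one]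

theorem pow_eq_one_of_closure [hp : Fact p.Prime] (hp2 : p ≠ 2) {B : Subgroup G} {W : Set G}
    (hgen : Subgroup.closure W = B)
    (hBB : ∀ u ∈ B, ∀ v ∈ B, ∀ w ∈ B, Commute ⁅u, v⁆ w)
    (hBp : ∀ u ∈ B, ∀ v ∈ B, ⁅u, v⁆ ^ p = 1) (hW : ∀ w ∈ W, w ^ p = 1) :
    ∀ y ∈ B, y ^ p = 1 := by
  intro y hy
  rw [← hgen] at hy
  induction hy using Subgroup.closure_induction with
  | mem y hy => exact hW y hy
  | one => exact one_pow p
  | mul u v hu hv ihu ihv =>
    rw [mul_pow_of_class_two hp2 hBB hBp (hgen ▸ hu) (hgen ▸ hv), ihu, ihv, one_mul]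
  | inv u _ ihu => rw [inv_pow, ihu, inv_one]

/-- If conjugates of `W` commute modulo the normal subgroup `N`, then `[B,B] ≤ N` for
`B = ⟨W^G⟩`. -/
theorem commutator_normalClosure_le {W : Subgroup G} {N B : Subgroup G} [N.Normal] [B.Normal]
    (hgen : Subgroup.normalClosure (W : Set G) = B)
    (h : ∀ z ∈ W, ∀ y ∈ B, ⁅z, y⁆ ∈ N) : ⁅B, B⁆ ≤ N := by
  set f := QuotientGroup.mk' N with hf
  haveI : (B.map f).Normal := ‹B.Normal›.map f (QuotientGroup.mk'_surjective N)
  have hmem : ∀ {z y : G}, ⁅z, y⁆ ∈ N ↔ f z * f y = f y * f z := by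
    intro z y
    rw [← commutatorElement_eq_one_iff_mul_comm, ← map_commutatorElement, hf,
      QuotientGroup.mk'_apply, QuotientGroup.eq_one_iff]
  have hle : B ≤ (Subgroup.centralizer (B.map f : Set (G ⧸ N))).comap f := by
    refine hgen.ge.trans (Subgroup.normalClosure_le_normal fun z hz => ?_)
    rintro _ ⟨y, hy, rfl⟩
    exact (hmem.1 (h z hz y hy)).symm
  rw [Subgroup.commutator_le]
  intro u hu v hv
  exact hmem.2 (hle hu (f v) (Subgroup.mem_map_of_mem f hv)).symm

variable (hp2 : p ≠ 2)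

include hp2

/-- `Z ∩ B` is normal for every normal `p`-subgroup `B`, `Z` the intersection of the abelian
(resp. elementary abelian) subgroups of largest order of a Sylow subgroup. -/
theorem zCore_inf_normal [Finite G] [hp : Fact p.Prime] (hq : IsQuad p G) (S : Sylow p G)
    (e : Prop) (B : Subgroup G) [B.Normal] (hB : IsPGroup p B) :
    (zCore p e (S : Subgroup G) ⊓ B).Normal := by
  induction hn : Nat.card B using Nat.strong_induction_on generalizing B with
  | _ n ih =>
    set Z := zCore p e (S : Subgroup G) with hZ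
    set W := Z ⊓ B with hW
    have hZS : Z ≤ zJ p e (S : Subgroup G) := zCore_le_zJ _
    have hcl : Subgroup.normalClosure (W : Set G) ≤ B :=
      Subgroup.normalClosure_le_normal inf_le_right
    rcases lt_or_eq_of_le hcl with hlt | heq
    · have := ih _ (hn ▸ Set.ncard_lt_ncard (SetLike.coe_ssubset_coe.2 hlt) (Set.toFinite _))
        (Subgroup.normalClosure (W : Set G)) (hB.to_le hcl) rfl
      have h2 : Z ⊓ Subgroup.normalClosure (W : Set G) = W :=
        le_antisymm (inf_le_inf_left _ hcl) (le_inf inf_le_left Subgroup.le_normalClosure)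
      rwa [h2] at this
    by_cases hB1 : B = ⊥
    · rw [hW, hB1, inf_bot_eq]; infer_instance
    have hlt : ⁅B, B⁆ < B := lt_of_le_of_ne (Subgroup.commutator_le_right B B) fun h =>
      hB1 (le_bot_iff.1 (Fusion.le_of_le_commutator_sup hB.isNilpotent le_rfl bot_le
        (by rw [Subgroup.normalizer_eq_top]; exact le_top) (by rw [h, sup_bot_eq])))
    haveI hD : (Z ⊓ ⁅B, B⁆).Normal := ih _
      (hn ▸ Set.ncard_lt_ncard (SetLike.coe_ssubset_coe.2 hlt) (Set.toFinite _)) ⁅B, B⁆
      (hB.to_le hlt.le) rfl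
    have hBS : B ≤ (S : Subgroup G) := le_sylow S hB
    have hSZ : (S : Subgroup G) ≤ Subgroup.normalizer (Z : Set G) :=
      (le_normalizer_zJ _).trans (normalizer_zJ_le_normalizer_zCore _)
    have hBZ : ⁅B, B⁆ ≤ Z := by
      refine (commutator_normalClosure_le (N := Z ⊓ ⁅B, B⁆) heq fun z hz y hy => ⟨?_, ?_⟩).trans
        inf_le_left
      · rw [commutatorElement_def, mul_assoc, mul_assoc, ← mul_assoc y]
        exact Z.mul_mem hz.1 ((Subgroup.mem_normalizer_iff.1 (hSZ (hBS hy)) _).1 (Z.inv_mem hz.1))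
      · exact Subgroup.commutator_mem_commutator hz.2 hy
    have hBC : B ≤ Subgroup.centralizer ((⁅B, B⁆ : Subgroup G) : Set G) := by
      refine heq.ge.trans (Subgroup.normalClosure_le_normal fun z hz d hd => ?_)
      exact zJ_comm (hZS (hBZ hd)) (hZS hz.1)
    have hBB : ∀ u ∈ B, ∀ v ∈ B, ∀ w ∈ B, Commute ⁅u, v⁆ w := fun u hu v hv w hw =>
      hBC hw _ (Subgroup.commutator_mem_commutator hu hv)
    have hBe : e → ∀ y ∈ B, y ^ p = 1 := fun he => by
      refine pow_eq_one_of_closure hp2 (W := Group.conjugatesOfSet (W : Set G)) heq hBB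
        (fun u hu v hv => (mem_zCore_iff.1 (hBZ (Subgroup.commutator_mem_commutator hu hv))).2 he)
        fun w hw => ?_
      obtain ⟨z, hz, hzw⟩ := Group.mem_conjugatesOfSet_iff.1 hw
      obtain ⟨g, rfl⟩ := isConj_iff.1 hzw
      rw [conj_pow, (mem_zCore_iff.1 hz.1).2 he, mul_one, mul_inv_cancel]
    refine normal_of_replacement hp2 S e B B W hB le_rfl inf_le_right heq ?_ ?_
      (fun A hA => hBZ.trans (zCore_le_of_isMaxIn hA)) hBe
      (fun A hA hBA => mem_stab hq hB (S.isPGroup'.to_le hA.1) (fun x hx y hy => hA.2.1.comm hx hy) hBA)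
    · intro g hg
      have h1 : g ∈ Subgroup.normalizer (Z : Set G) :=
        normalizer_zJ_le_normalizer_zCore _ (normalizer_jSub_le_normalizer_zJ _ hg)
      exact Subgroup.inf_normalizer_le_normalizer_inf
        ⟨h1, by rw [Subgroup.normalizer_eq_top]; exact Subgroup.mem_top g⟩
    · exact inf_le_left.trans (hZS.trans inf_le_right)

omit hp2 in
/-- `Z(J(S))` lies in `O_p(G)`. -/
theorem zJ_le_pCore [Finite G] [hp : Fact p.Prime] (hq : IsQuad p G)
    (hc : Subgroup.centralizer (Cfsg.pCore p G : Set G) ≤ Cfsg.pCore p G) (S : Sylow p G) :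
    zJ p e (S : Subgroup G) ≤ Cfsg.pCore p G := by
  set U := Cfsg.pCore p G with hU
  haveI : U.Normal := Cfsg.pCore_normal p G
  have h1 : zJ p e (S : Subgroup G) ≤ stab p U :=
    mem_stab hq (PBasic.pCore_isPGroup p G) (S.isPGroup'.to_le (zJ_le _))
      (fun x hx y hy => zJ_comm hx hy) ((PBasic.pCore_le_sylow S).trans (le_normalizer_zJ _))
  refine h1.trans (PBasic.le_pCore inferInstance ?_)
  refine (PBasic.pCore_isPGroup p _).comap_of_ker_isPGroup _ ?_
  rw [QuotientGroup.ker_mk']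
  exact (PBasic.pCore_isPGroup p G).to_le hc

theorem zCore_normal [Finite G] [hp : Fact p.Prime] (hq : IsQuad p G)
    (hc : Subgroup.centralizer (Cfsg.pCore p G : Set G) ≤ Cfsg.pCore p G) (S : Sylow p G)
    (e : Prop) : (zCore p e (S : Subgroup G)).Normal := by
  haveI := Cfsg.pCore_normal p G
  have h := zCore_inf_normal hp2 hq S e (Cfsg.pCore p G) (PBasic.pCore_isPGroup p G)
  rwa [inf_eq_left.2 ((zCore_le_zJ _).trans (zJ_le_pCore hq hc S))] at h

/-- `Z(J(S))` is normal, also for the elementary version of `J`. -/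
theorem zJ_normal [Finite G] [hp : Fact p.Prime] (hq : IsQuad p G)
    (hc : Subgroup.centralizer (Cfsg.pCore p G : Set G) ≤ Cfsg.pCore p G) (S : Sylow p G)
    (e : Prop) : (zJ p e (S : Subgroup G)).Normal := by
  have hZ1 := zCore_normal hp2 hq hc S e
  by_cases he : e
  swap
  · rwa [← zCore_eq_zJ he]
  set Z := zJ p e (S : Subgroup G) with hZ
  set U := Cfsg.pCore p G with hU
  haveI : U.Normal := Cfsg.pCore_normal p G
  have hZU : Z ≤ U := zJ_le_pCore hq hc S
  have hUS : U ≤ (S : Subgroup G) := PBasic.pCore_le_sylow S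
  let Zk : ℕ → Subgroup G := fun k =>
    { carrier := {x | x ∈ Z ∧ x ^ p ^ k = 1}
      one_mem' := ⟨Z.one_mem, one_pow _⟩
      mul_mem' := fun {a b} ha hb => ⟨Z.mul_mem ha.1 hb.1, by
        rw [Commute.mul_pow (zJ_comm ha.1 hb.1), ha.2, hb.2, one_mul]⟩
      inv_mem' := fun {a} ha => ⟨Z.inv_mem ha.1, by rw [inv_pow, ha.2, inv_one]⟩ }
  have hmem : ∀ {k : ℕ} {x : G}, x ∈ Zk k ↔ x ∈ Z ∧ x ^ p ^ k = 1 := Iff.rfl
  suffices h : ∀ k, (Zk k).Normal by
    obtain ⟨k, hk⟩ := IsPGroup.iff_card.1 (S.isPGroup'.to_le (zJ_le _) : IsPGroup p Z)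
    have hZk : Zk k = Z := by
      ext x
      refine ⟨fun hx => hx.1, fun hx => ⟨hx, ?_⟩⟩
      rw [← hk]
      exact congrArg Subtype.val (pow_card_eq_one' (x := (⟨x, hx⟩ : Z)))
    exact hZk ▸ h k
  intro k
  induction k with
  | zero =>
    have h0 : Zk 0 = ⊥ := by
      rw [Subgroup.eq_bot_iff_forall]
      intro x hx
      have := hx.2
      rwa [pow_zero, pow_one] at this
    rw [h0]; infer_instance
  | succ k ihk =>
    haveI := ihk
    rcases Nat.eq_zero_or_pos k with rfl | hk0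
    · have h1 : Zk 1 = zCore p e (S : Subgroup G) := by
        ext x
        rw [hmem, mem_zCore_iff, pow_one]
        exact ⟨fun h => ⟨h.1, fun _ => h.2⟩, fun h => ⟨h.1, h.2 he⟩⟩
      rw [zero_add, h1]; exact hZ1
    haveI := hZ1
    set Z1 := zCore p e (S : Subgroup G) with hZ1def
    set W := Zk (k + 1) with hW
    set B := Subgroup.normalClosure (W : Set G) with hBdef
    have hWU : W ≤ U := fun x hx => hZU hx.1
    have hBU : B ≤ U := Subgroup.normalClosure_le_normal hWU
    have hB : IsPGroup p B := (PBasic.pCore_isPGroup p G).to_le hBU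
    have hBS : B ≤ (S : Subgroup G) := hBU.trans hUS
    have hnorm : ∀ {u z : G}, u ∈ U → z ∈ Z → u * z * u⁻¹ ∈ Z := fun hu hz =>
      (Subgroup.mem_normalizer_iff.1 (le_normalizer_zJ _ (hUS hu)) _).1 hz
    have hkey : ∀ z ∈ W, ∀ y ∈ B, ⁅z, y⁆ ∈ Z1 := by
      intro z hz
      set f := QuotientGroup.mk' Z1 with hf
      have hiff : ∀ {y : G}, ⁅z, y⁆ ∈ Z1 ↔ f z * f y = f y * f z := by
        intro y
        rw [← commutatorElement_eq_one_iff_mul_comm, ← map_commutatorElement, hf,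
          QuotientGroup.mk'_apply, QuotientGroup.eq_one_iff]
      suffices hB' : B ≤ (Subgroup.centralizer ({f z} : Set (G ⧸ Z1))).comap f from fun y hy =>
        hiff.2 (Subgroup.mem_centralizer_singleton_iff.1 (hB' hy)).symm
      rw [hBdef, Subgroup.normalClosure, Subgroup.closure_le]
      intro y hy
      obtain ⟨w, hw, hwy⟩ := Group.mem_conjugatesOfSet_iff.1 hy
      obtain ⟨g, rfl⟩ := isConj_iff.1 hwy
      rw [SetLike.mem_coe, Subgroup.mem_comap, Subgroup.mem_centralizer_singleton_iff]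
      refine (hiff.1 ?_).symm
      set y := g * w * g⁻¹ with hy'
      set c := ⁅z, y⁆ with hc'
      have hyU : y ∈ U := Subgroup.Normal.conj_mem inferInstance w (hWU hw) g
      have hzU : z ∈ U := hWU hz
      have hzgU : g⁻¹ * z * g ∈ U := by
        have := Subgroup.Normal.conj_mem inferInstance z hzU g⁻¹ (H := U)
        rwa [inv_inv] at this
      have hcZ : c ∈ Z := by
        rw [hc', commutatorElement_def, mul_assoc, mul_assoc, ← mul_assoc y]
        exact Z.mul_mem hz.1 (hnorm hyU (Z.inv_mem hz.1))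
      have hcg : g⁻¹ * c * g ∈ Z := by
        have e1 : g⁻¹ * c * g = (g⁻¹ * z * g) * w * (g⁻¹ * z * g)⁻¹ * w⁻¹ := by
          rw [hc', hy', commutatorElement_def]; group
        rw [e1]
        exact Z.mul_mem (hnorm hzgU hw.1) (Z.inv_mem hw.1)
      have hcy : Commute c y := by
        have h1 := zJ_comm hcg hw.1
        show c * y = y * c
        calc c * y = g * ((g⁻¹ * c * g) * w) * g⁻¹ := by rw [hy']; group
          _ = g * (w * (g⁻¹ * c * g)) * g⁻¹ := by rw [h1]
          _ = y * c := by rw [hy']; group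
      have hcz : Commute c z := zJ_comm hcZ hz.1
      have hn : ∀ n : ℕ, z ^ n * y * (z ^ n)⁻¹ = c ^ n * y := by
        intro n
        induction n with
        | zero => simp
        | succ n ih =>
          calc z ^ (n + 1) * y * (z ^ (n + 1))⁻¹
              = z * (z ^ n * y * (z ^ n)⁻¹) * z⁻¹ := by rw [pow_succ']; group
            _ = (z * c ^ n) * y * z⁻¹ := by rw [ih]; group
            _ = c ^ n * (z * y * z⁻¹) := by rw [(hcz.pow_left n).symm.eq]; group
            _ = c ^ n * (c * y) := by rw [hc', commutatorElement_def]; group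
            _ = c ^ (n + 1) * y := by rw [pow_succ, mul_assoc]
      have hzp : z ^ p ∈ Zk k := ⟨Z.pow_mem hz.1 p, by rw [← pow_mul, ← pow_succ']; exact hz.2⟩
      have hzy : z ^ p * y * (z ^ p)⁻¹ = y := by
        have h1 := Subgroup.Normal.conj_mem inferInstance _ hzp g⁻¹ (H := Zk k)
        rw [inv_inv] at h1
        have h2 := zJ_comm h1.1 hw.1
        calc z ^ p * y * (z ^ p)⁻¹
            = g * ((g⁻¹ * z ^ p * g) * w) * (g⁻¹ * z ^ p * g)⁻¹ * g⁻¹ := by rw [hy']; group
          _ = g * (w * (g⁻¹ * z ^ p * g)) * (g⁻¹ * z ^ p * g)⁻¹ * g⁻¹ := by rw [h2]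
          _ = y := by rw [hy']; group
      have hcp : c ^ p = 1 := by
        have h1 := hn p
        rw [hzy, right_eq_mul] at h1
        exact h1
      exact mem_zCore_iff.2 ⟨hcZ, fun _ => hcp⟩
    have hBZ1 : ⁅B, B⁆ ≤ Z1 := commutator_normalClosure_le rfl hkey
    have hBC : B ≤ Subgroup.centralizer (Z1 : Set G) :=
      Subgroup.normalClosure_le_normal fun z hz d hd => zJ_comm (zCore_le_zJ _ hd) hz.1
    have hBB : ∀ u ∈ B, ∀ v ∈ B, ∀ w ∈ B, Commute ⁅u, v⁆ w := fun u hu v hv w hw =>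
      hBC hw _ (hBZ1 (Subgroup.commutator_mem_commutator hu hv))
    have hBp : ∀ u ∈ B, ∀ v ∈ B, ⁅u, v⁆ ^ p = 1 := fun u hu v hv =>
      (mem_zCore_iff.1 (hBZ1 (Subgroup.commutator_mem_commutator hu hv))).2 he
    let V : Subgroup G :=
      { carrier := {x | x ∈ B ∧ x ^ p = 1}
        one_mem' := ⟨B.one_mem, one_pow _⟩
        mul_mem' := fun {a b} ha hb => ⟨B.mul_mem ha.1 hb.1, by
          rw [mul_pow_of_class_two hp2 hBB hBp ha.1 hb.1, ha.2, hb.2, one_mul]⟩
        inv_mem' := fun {a} ha => ⟨B.inv_mem ha.1, by rw [inv_pow, ha.2, inv_one]⟩ }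
    have hVn : V.Normal := ⟨fun x hx g => ⟨Subgroup.Normal.conj_mem inferInstance x hx.1 g, by
      rw [conj_pow, hx.2, mul_one, mul_inv_cancel]⟩⟩
    haveI := hVn
    have hVB : V ≤ B := fun x hx => hx.1
    have hBpow : ∀ y ∈ B, y ^ p ∈ Zk k := by
      intro y hy
      have hy' : y ∈ Subgroup.closure (Group.conjugatesOfSet (W : Set G)) := hy
      induction hy' using Subgroup.closure_induction with
      | mem w hw =>
        obtain ⟨z, hz, hzw⟩ := Group.mem_conjugatesOfSet_iff.1 hw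
        obtain ⟨g, rfl⟩ := isConj_iff.1 hzw
        rw [conj_pow]
        exact Subgroup.Normal.conj_mem inferInstance _
          (show z ^ p ∈ Zk k from ⟨Z.pow_mem hz.1 p, by rw [← pow_mul, ← pow_succ']; exact hz.2⟩) g
      | one => rw [one_pow]; exact one_mem _
      | mul u v hu hv ihu ihv =>
        rw [mul_pow_of_class_two hp2 hBB hBp hu hv]
        exact mul_mem (ihu hu) (ihv hv)
      | inv u hu ihu => rw [inv_pow]; exact inv_mem (ihu hu)
    refine normal_of_replacement hp2 S e B V W hB hVB Subgroup.le_normalClosure rfl ?_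
      (fun x hx => hx.1.2)
      (fun A hA => (Subgroup.commutator_mono hVB hVB).trans (hBZ1.trans (zCore_le_of_isMaxIn hA)))
      (fun _ v hv => hv.2) ?_
    · intro g hg
      have h1 := normalizer_jSub_le_normalizer_zJ _ hg
      rw [Subgroup.mem_normalizer_iff] at h1 ⊢
      intro x
      rw [hW, hmem, hmem, conj_pow, h1 x]
      simp [conj_eq_one_iff, hZ]
    · intro A hA hVA
      set N := stab p V ⊓ Subgroup.centralizer (Zk k : Set G) with hN
      have hAN : A ≤ N := le_inf (mem_stab hq (hB.to_le hVB) (S.isPGroup'.to_le hA.1)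
        (fun x hx y hy => hA.2.1.comm hx hy) hVA) fun a ha z hz => (commute_of_mem_zJ hA hz.1 ha).symm
      refine hAN.trans ?_
      haveI : N.Normal := Subgroup.normal_inf_normal _ _
      have hNC : ∀ x ∈ N, (orderOf x).Coprime p → x ∈ Subgroup.centralizer (B : Set G) := by
        intro x hx hxo
        refine mem_centralizer_of_series (V := V) hxo ?_ fun y hy => ?_
        · rw [← QuotientGroup.eq_one_iff]
          have h3 : (QuotientGroup.mk x : G ⧸ Subgroup.centralizer (V : Set G)) ∈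
              Cfsg.pCore p (G ⧸ Subgroup.centralizer (V : Set G)) := hx.1
          exact PBasic.eq_one_of_isPGroup_of_coprime (PBasic.pCore_isPGroup p _) h3
            (Nat.Coprime.coprime_dvd_left
              (orderOf_map_dvd (QuotientGroup.mk' (Subgroup.centralizer (V : Set G))) x) hxo)
        · have hyB : x * y * x⁻¹ ∈ B := Subgroup.Normal.conj_mem inferInstance y hy x
          have hvp : (y⁻¹ * (x * y * x⁻¹)) ^ p = 1 := by
            rw [mul_pow_of_class_two hp2 hBB hBp (B.inv_mem hy) hyB, conj_pow, inv_pow,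
              ← hx.2 _ (hBpow y hy), mul_inv_cancel_right, inv_mul_cancel]
          exact ⟨⟨B.mul_mem (B.inv_mem hy) hyB, hvp⟩, hvp⟩
      rw [stab, ← Subgroup.map_le_iff_le_comap]
      refine PBasic.le_pCore (Subgroup.Normal.map inferInstance _ (QuotientGroup.mk'_surjective _)) ?_
      refine PBasic.isPGroup_iff_forall_coprime.2 ?_
      intro y ho
      obtain ⟨x, hx, hxy⟩ := y.2
      rw [← Subgroup.orderOf_coe, ← hxy] at ho
      obtain ⟨s, m, hm, hxm⟩ : ∃ s m : ℕ, m.Coprime p ∧ orderOf x = p ^ s * m := by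
        obtain ⟨s, m, hm, hxm⟩ := Nat.exists_eq_pow_mul_and_not_dvd (orderOf_pos x).ne' p hp.out.ne_one
        exact ⟨s, m, (hp.out.coprime_iff_not_dvd.2 hm).symm, hxm⟩
      have hxs : x ^ p ^ s ∈ Subgroup.centralizer (B : Set G) := by
        refine hNC _ (N.pow_mem hx _) ?_
        rwa [orderOf_pow, hxm, Nat.gcd_mul_right_left, Nat.mul_div_cancel_left _ (pow_pos hp.out.pos s)]
      obtain ⟨j, hj⟩ := exists_pow_eq_self_of_coprime
        (x := QuotientGroup.mk' (Subgroup.centralizer (B : Set G)) x) (n := p ^ s)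
        (Nat.Coprime.pow_left s ho.symm)
      apply Subtype.ext
      rw [← hxy, OneMemClass.coe_one, ← hj, ← map_pow, show (QuotientGroup.mk' (Subgroup.centralizer (B : Set G))) (x ^ p ^ s) = 1
        from (QuotientGroup.eq_one_iff _).2 hxs, one_pow]

/-- Glauberman's `ZJ`-theorem. -/
theorem zJ_characteristic [Finite G] [hp : Fact p.Prime] (hq : IsQuad p G)
    (hc : Subgroup.centralizer (Cfsg.pCore p G : Set G) ≤ Cfsg.pCore p G) (S : Sylow p G)
    (e : Prop) : (zJ p e (S : Subgroup G)).Characteristic := by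
  rw [Subgroup.characteristic_iff_map_eq]
  intro φ
  obtain ⟨g, hg⟩ := MulAction.exists_smul_eq G S
    (S.mapSurjective (f := φ.toMonoidHom) φ.surjective)
  have hS : (S : Subgroup G).map φ.toMonoidHom =
      (S : Subgroup G).map (MulAut.conj g).toMonoidHom := by
    rw [← Sylow.coe_mapSurjective φ.surjective S, ← hg]
    rfl
  rw [zJ_map _ φ.injective.injOn, hS, ← zJ_map _ (MulAut.conj g).injective.injOn]
  haveI := zJ_normal hp2 hq hc S e
  exact Subgroup.mem_normalizer_iff_map_conj_eq.1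
    ((Subgroup.normalizer_eq_top (zJ p e (S : Subgroup G))).symm ▸ Subgroup.mem_top g)

theorem zCore_characteristic [Finite G] [hp : Fact p.Prime] (hq : IsQuad p G)
    (hc : Subgroup.centralizer (Cfsg.pCore p G : Set G) ≤ Cfsg.pCore p G) (S : Sylow p G)
    (e : Prop) : (zCore p e (S : Subgroup G)).Characteristic := by
  rw [Subgroup.characteristic_iff_map_eq]
  intro φ
  haveI := zJ_characteristic hp2 hq hc S e
  have h := Subgroup.characteristic_iff_map_eq.1 this φ
  ext y
  rw [Subgroup.mem_map_equiv, mem_zCore_iff, mem_zCore_iff]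
  have h' : φ.symm y ∈ zJ p e (S : Subgroup G) ↔ y ∈ zJ p e (S : Subgroup G) := by
    rw [← Subgroup.mem_map_equiv, h]
  rw [h', ← map_pow, EmbeddingLike.map_eq_one_iff]

omit hp2

/-! ### Comparison with the definitions of the list -/

theorem centerThompsonAOf_eq (P : Subgroup G) : Cfsg.centerThompsonAOf P = zJ p False P := by
  have h : Cfsg.thompsonSubgroupAOf P = jSub p False P := by
    rw [Cfsg.thompsonSubgroupAOf, Cfsg.thompsonSubgroupA, sSup_eq_iSup', Subgroup.map_iSup]
    refine le_antisymm (iSup_le fun A => le_sSup ⟨Subgroup.map_subtype_le _,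
      Sml.map (e := False) (p := p) ⟨A.2.1, False.elim⟩ _, fun B hB hBs => ?_⟩)
      (sSup_le fun A hA => ?_)
    · rw [← Subgroup.map_subgroupOf_eq_of_le hB, Subgroup.card_map_of_injective Subtype.coe_injective,
        Subgroup.card_map_of_injective Subtype.coe_injective]
      refine A.2.2 _ (sml_of_map (p := p) (e := False) (f := P.subtype) Subtype.coe_injective.injOn ?_).1
      rwa [Subgroup.map_subgroupOf_eq_of_le hB]
    · have h : (A.subgroupOf P).map P.subtype = A := Subgroup.map_subgroupOf_eq_of_le hA.1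
      have hm : A.subgroupOf P ∈ Cfsg.maxAbelianSubgroups P := by
        refine ⟨(sml_of_map (p := p) (e := False) (f := P.subtype) Subtype.coe_injective.injOn
          (by rw [h]; exact hA.2.1)).1, fun B hB => ?_⟩
        have := hA.2.2 _ (Subgroup.map_subtype_le B)
          (Sml.map (p := p) (e := False) ⟨hB, False.elim⟩ _)
        rwa [Subgroup.card_map_of_injective Subtype.coe_injective, ← h,
          Subgroup.card_map_of_injective Subtype.coe_injective] at this
      exact h.ge.trans (le_iSup (fun B : ↥(Cfsg.maxAbelianSubgroups P) =>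
        (B : Subgroup P).map P.subtype) ⟨_, hm⟩)
  rw [Cfsg.centerThompsonAOf, zJ, h]

theorem jSub_true_eq (P : Subgroup G) : jSub p True P = Cfsg.thompsonSubgroupOf p P := by
  rw [Thompson.thompsonSubgroupOf_eq, jSub]
  congr 1
  ext A
  exact ⟨fun h => ⟨h.1, ⟨h.2.1.1, h.2.1.2 trivial⟩, fun B hB hBs => h.2.2 B hB ⟨hBs.1, fun _ => hBs.2⟩⟩,
    fun h => ⟨h.1, ⟨h.2.1.1, fun _ => h.2.1.2⟩, fun B hB hBs => h.2.2 B hB ⟨hBs.1, hBs.2 trivial⟩⟩⟩

theorem centerThompsonOf_eq (P : Subgroup G) : Cfsg.centerThompsonOf p P = zJ p True P := by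
  rw [Cfsg.centerThompsonOf, zJ, jSub_true_eq]

theorem omegaOne_zJ [Finite G] (P : Subgroup G) :
    Cfsg.omegaOne p (zJ p True P) = zCore p True P := by
  refine le_antisymm ?_ fun x hx => ?_
  · rw [Cfsg.omegaOne, Subgroup.closure_le]
    exact fun x hx => mem_zCore_iff.2 ⟨hx.1, fun _ => hx.2⟩
  · exact Subgroup.subset_closure ⟨(mem_zCore_iff.1 hx).1, (mem_zCore_iff.1 hx).2 trivial⟩

end Cfsg.Agent.ZJ
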