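import Mathlib.GroupTheory.PGroup
import Mathlib.GroupTheory.Sylow
import Mathlib.GroupTheory.Index
import Mathlib.Algebra.Group.Pointwise.Set.Card
import Mathlib.GroupTheory.Subgroup.Centralizer
import Mathlib.GroupTheory.QuotientGroup.Basic
import Mathlib.GroupTheory.OrderOfElement
import Mathlib.Data.ZMod.Basic
import Mathlib.Algebra.Field.ZMod
import Mathlib.RingTheory.Int.Basic
import Mathlib.GroupTheory.Coset.Card
import Mathlib.Algebra.BigOperators.Group.Finset.Basic

/-!
The module-theoretic core of Thompson's normal `p`-complement theorem: for odd `p`, an offender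
on an elementary abelian `p`-group centralizes every normal abelian `p'`-subgroup of a faithful
group.
-/

set_option autoImplicit false
set_option linter.style.haveILetI false

namespace Cfsg.Agent.OffenderAction

variable {p : ℕ}

/-- A nontrivial `p`-group on which a `p`-group acts by automorphisms has a nontrivial fixed point. -/
theorem exists_fixed [hp : Fact p.Prime] {A V : Type*} [Group A] [Group V] [Finite A] [Finite V]
    (hA : IsPGroup p A) (ρ : A →* MulAut V) (W : Subgroup V) (hWp : IsPGroup p W) (hW : W ≠ ⊥)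
    (hinv : ∀ a : A, ∀ w ∈ W, ρ a w ∈ W) :
    ∃ w ∈ W, w ≠ 1 ∧ ∀ a : A, ρ a w = w := by
  letI act : MulAction A W :=
    { smul := fun a w => ⟨ρ a w, hinv a w w.2⟩
      one_smul := fun w => Subtype.ext (by change ρ 1 (w : V) = w; rw [map_one]; rfl)
      mul_smul := fun a b w => Subtype.ext (by
        change ρ (a * b) (w : V) = ρ a (ρ b (w : V)); rw [map_mul]; rfl) }
  haveI : Nontrivial W := (Subgroup.nontrivial_iff_ne_bot W).2 hW
  have hdvd : p ∣ Nat.card W := by
    rcases hWp.card_eq_or_dvd with h | h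
    · exact absurd h (Finite.one_lt_card (α := W)).ne'
    · exact h
  have h1 : (1 : W) ∈ MulAction.fixedPoints A W := fun a => Subtype.ext (map_one (ρ a))
  obtain ⟨b, hb, hne⟩ := hA.exists_fixed_point_of_prime_dvd_card_of_fixed_point W hdvd h1
  exact ⟨b, b.2, fun h => hne (Subtype.ext h.symm), fun a => congrArg Subtype.val (hb a)⟩

/-- An automorphism stabilizing a step fixes everything, if its order is prime to `p`. -/
theorem fixed_of_fixed_quot [hp : Fact p.Prime] {V : Type*} [Group V] (hV : IsPGroup p V)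
    (σ : MulAut V) (hσ : (orderOf σ).Coprime p) (u : V) (h : σ (u⁻¹ * σ u) = u⁻¹ * σ u) :
    σ u = u := by
  set v := u⁻¹ * σ u with hv
  have hu : σ u = u * v := by rw [hv, mul_inv_cancel_left]
  have hpow : ∀ n : ℕ, (σ ^ n) u = u * v ^ n := by
    intro n
    induction n with
    | zero => simp
    | succ n ih => rw [pow_succ', MulAut.mul_apply, ih, map_mul, map_pow, h, hu, mul_assoc,
        ← pow_succ']
  have h1 := hpow (orderOf σ)
  rw [pow_orderOf_eq_one, MulAut.one_apply, left_eq_mul] at h1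
  obtain ⟨k, hk⟩ := IsPGroup.iff_orderOf.1 hV v
  have h2 := Nat.Coprime.coprime_dvd_left (orderOf_dvd_of_pow_eq_one h1) hσ
  have h3 : orderOf v = 1 := by
    have h4 := Nat.Coprime.pow_right k h2
    rw [hk, Nat.coprime_self] at h4
    rw [hk, h4]
  rw [hu, orderOf_eq_one_iff.1 h3, mul_one]

/-- In an abelian group, `g` of `p`-power order and `x` of order prime to `p`: `[g, x]` is not a
nontrivial fixed point of `g`. -/
theorem comm_eq_one_of_commute [hp : Fact p.Prime] {Γ : Type*} [Group Γ] [Finite Γ]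
    {K : Subgroup Γ} (hK : (Nat.card K).Coprime p) {b x : Γ} (hb : b ^ p = 1) (hx : x ∈ K)
    (hr : b * x * b⁻¹ * x⁻¹ ∈ K) (hrb : b * (b * x * b⁻¹ * x⁻¹) = (b * x * b⁻¹ * x⁻¹) * b)
    (hrx : x * (b * x * b⁻¹ * x⁻¹) = (b * x * b⁻¹ * x⁻¹) * x) :
    b * x * b⁻¹ * x⁻¹ = 1 := by
  set r := b * x * b⁻¹ * x⁻¹ with hr'
  have h0 : b * x * b⁻¹ = r * x := by rw [hr']; group
  have hpow : ∀ n : ℕ, b ^ n * x * (b ^ n)⁻¹ = r ^ n * x := by
    intro n
    induction n with
    | zero => simp
    | succ n ih =>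
      have hc : Commute b (r ^ n) := Commute.pow_right hrb n
      calc b ^ (n + 1) * x * (b ^ (n + 1))⁻¹ = b * (b ^ n * x * (b ^ n)⁻¹) * b⁻¹ := by
            rw [pow_succ']; group
        _ = b * r ^ n * x * b⁻¹ := by rw [ih]; group
        _ = r ^ n * (b * x * b⁻¹) := by rw [hc.eq]; group
        _ = r ^ (n + 1) * x := by rw [h0, pow_succ]; group
  have h1 := hpow p
  rw [hb, inv_one, mul_one, one_mul, right_eq_mul] at h1
  have h2 : orderOf r ∣ Nat.card K := Subgroup.orderOf_dvd_natCard K hr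
  rw [← orderOf_eq_one_iff]
  exact Nat.eq_one_of_dvd_coprimes hK h2 (orderOf_dvd_of_pow_eq_one h1)

/-- The two-dimensional computation: a transvection `a` and `s = a r a⁻¹` commuting with `r`. -/
theorem transvection_commute [hp : Fact p.Prime] (hp2 : p ≠ 2) {E : Type*} [CommGroup E] [Finite E]
    (hexp : ∀ v : E, v ^ p = 1) (hE : Nat.card E ≤ p ^ 2) (a r : MulAut E) (C : Subgroup E)
    (hC : ∀ c, c ∈ C ↔ a c = c) (hquot : ∀ v, v⁻¹ * a v ∈ C)
    (hcomm : (a * r * a⁻¹) * r = r * (a * r * a⁻¹))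
    (hr : (orderOf r).Coprime p) (hs : (orderOf (a * r * a⁻¹)).Coprime p) :
    a * r * a⁻¹ = r := by
  set s := a * r * a⁻¹ with hs'
  have hEp : IsPGroup p E := fun v => ⟨1, by rw [pow_one, hexp]⟩
  by_cases hinv : ∀ c ∈ C, r c ∈ C
  · have hsc : ∀ c ∈ C, s c = r c := by
      intro c hc
      have h1 : (a⁻¹ : MulAut E) c = c := by
        conv_lhs => rw [← (hC c).1 hc]
        exact MulAut.inv_apply_self E a c
      rw [hs', MulAut.mul_apply, MulAut.mul_apply, h1, (hC _).1 (hinv c hc)]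
    have hamod : ∀ v, ∃ c ∈ C, a v = v * c := fun v =>
      ⟨_, hquot v, by rw [mul_inv_cancel_left]⟩
    have hsmod : ∀ v, ∃ c ∈ C, s v = r v * c := by
      intro v
      obtain ⟨c1, hc1, h1⟩ := hamod (a⁻¹ v)
      rw [MulAut.apply_inv_self] at h1
      obtain ⟨c2, hc2, h2⟩ := hamod (r (a⁻¹ v))
      refine ⟨(r c1)⁻¹ * c2, C.mul_mem (C.inv_mem (hinv c1 hc1)) hc2, ?_⟩
      have e : r v = r (a⁻¹ v) * r c1 := by rw [← map_mul, ← h1]
      rw [hs', MulAut.mul_apply, MulAut.mul_apply, h2, e]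
      group
    set δ := r⁻¹ * s with hδ
    have hδC : ∀ c ∈ C, δ c = c := fun c hc => by
      rw [hδ, MulAut.mul_apply, hsc c hc, MulAut.inv_apply_self]
    have hrinv : ∀ c ∈ C, (r⁻¹ : MulAut E) c ∈ C := by
      intro c hc
      have himg : C.map r.toMonoidHom = C := by
        refine Subgroup.eq_of_le_of_card_ge ?_ (le_of_eq ?_)
        · rintro _ ⟨d, hd, rfl⟩
          exact hinv d hd
        · exact (Subgroup.card_map_of_injective r.injective).symm
      obtain ⟨d, hd, hdc⟩ := himg.ge hc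
      rw [← hdc]
      have : (r⁻¹ : MulAut E) (r d) = d := MulAut.inv_apply_self E r d
      rw [MulEquiv.coe_toMonoidHom, this]
      exact hd
    have hδmod : ∀ v, v⁻¹ * δ v ∈ C := by
      intro v
      obtain ⟨c, hc, h⟩ := hsmod v
      rw [hδ, MulAut.mul_apply, h, map_mul, MulAut.inv_apply_self, inv_mul_cancel_left]
      exact hrinv c hc
    have hδo : (orderOf δ).Coprime p := by
      have hc : Commute r⁻¹ s := Commute.inv_left (show Commute r s from hcomm.symm)
      refine Nat.Coprime.coprime_dvd_left (hc.orderOf_mul_dvd_lcm.trans (Nat.lcm_dvd_mul _ _)) ?_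
      rw [orderOf_inv]
      exact Nat.Coprime.mul_left hr hs
    have hδ1 : δ = 1 := by
      ext v
      exact fixed_of_fixed_quot hEp δ hδo v (hδC _ (hδmod v))
    rw [hδ, inv_mul_eq_one] at hδ1
    exact hδ1.symm
  · push Not at hinv
    obtain ⟨c, hc, hrc⟩ := hinv
    exfalso
    set v := r c with hv
    have hc1 : c ≠ 1 := fun h => hrc (by rw [hv, h, map_one]; exact C.one_mem)
    have hoc : orderOf c = p := orderOf_eq_prime (hexp c) hc1
    have hlt : Subgroup.zpowers c < Subgroup.zpowers c ⊔ Subgroup.zpowers v := by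
      refine lt_of_le_of_ne le_sup_left fun h => hrc ?_
      have h' : v ∈ Subgroup.zpowers c :=
        h.ge (Subgroup.mem_sup_right (Subgroup.mem_zpowers v))
      exact (Subgroup.zpowers_le.2 hc) h'
    have htop : Subgroup.zpowers c ⊔ Subgroup.zpowers v = ⊤ := by
      refine Subgroup.eq_top_of_le_card _ (hE.trans ?_)
      have h1 : Nat.card (Subgroup.zpowers c) < Nat.card ↥(Subgroup.zpowers c ⊔ Subgroup.zpowers v) := by
        rcases lt_or_ge (Nat.card (Subgroup.zpowers c))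
          (Nat.card ↥(Subgroup.zpowers c ⊔ Subgroup.zpowers v)) with h | h
        · exact h
        · exact absurd (Subgroup.eq_of_le_of_card_ge hlt.le h) hlt.ne
      obtain ⟨n, hn⟩ := IsPGroup.iff_card.1
        (hEp.to_subgroup (Subgroup.zpowers c ⊔ Subgroup.zpowers v))
      rw [Nat.card_zpowers, hoc, hn] at h1
      rw [hn]
      refine Nat.pow_le_pow_right hp.out.pos ?_
      by_contra h
      rw [not_le, Nat.lt_succ_iff] at h
      exact absurd h1 (not_lt.2 ((Nat.pow_le_pow_right hp.out.pos h).trans (pow_one p).le))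
    have hgen : ∀ u : E, ∃ i j : ℤ, c ^ i * v ^ j = u := by
      intro u
      have hu : u ∈ Subgroup.zpowers c ⊔ Subgroup.zpowers v := htop ▸ Subgroup.mem_top u
      rw [Subgroup.mem_sup] at hu
      obtain ⟨_, ⟨i, rfl⟩, _, ⟨j, rfl⟩, h⟩ := hu
      exact ⟨i, j, h⟩
    have hindep : ∀ i j : ℤ, v ^ j = c ^ i → (p : ℤ) ∣ j := by
      intro i j h
      by_contra hj
      have hov : orderOf v = p := orderOf_eq_prime (hexp v) (fun h1 => hrc (h1 ▸ C.one_mem))
      have hcop : IsCoprime (p : ℤ) j := by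
        rw [(Nat.prime_iff_prime_int.1 hp.out).coprime_iff_not_dvd]
        exact hj
      obtain ⟨x, y, hxy⟩ := hcop
      have : v = (c ^ i) ^ y := by
        rw [← h, ← zpow_mul]
        conv_lhs => rw [← zpow_one v, ← hxy, zpow_add, mul_comm x, zpow_mul, zpow_natCast, hexp,
          one_zpow, one_mul, mul_comm y]
      apply hrc
      rw [this]
      exact C.zpow_mem (C.zpow_mem hc i) y
    obtain ⟨t, j₀, ht₀⟩ := hgen (v⁻¹ * a v)
    have hj₀ : v ^ j₀ ∈ C := by
      have h1 := C.mul_mem (C.inv_mem (C.zpow_mem hc t)) (hquot v)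
      rwa [← ht₀, inv_mul_cancel_left] at h1
    have hj₀1 : v ^ j₀ = 1 := by
      by_cases hd : (p : ℤ) ∣ j₀
      · obtain ⟨k, rfl⟩ := hd
        rw [zpow_mul, zpow_natCast, hexp, one_zpow]
      · exfalso
        have hcop : IsCoprime (p : ℤ) j₀ := by
          rw [(Nat.prime_iff_prime_int.1 hp.out).coprime_iff_not_dvd]; exact hd
        obtain ⟨x, y, hxy⟩ := hcop
        apply hrc
        have : v = (v ^ j₀) ^ y := by
          rw [← zpow_mul]
          conv_lhs => rw [← zpow_one v, ← hxy, zpow_add, mul_comm x, zpow_mul, zpow_natCast, hexp,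
            one_zpow, one_mul, mul_comm y]
        rw [this]
        exact C.zpow_mem hj₀ y
    rw [hj₀1, mul_one] at ht₀
    have hav : a v = v * c ^ t := by rw [ht₀, mul_inv_cancel_left]
    have hac : a c = c := (hC c).1 hc
    have hct : c ^ t ≠ 1 := fun h => hrc ((hC v).2 (by rw [hav, h, mul_one]))
    obtain ⟨α, β, hrv⟩ := hgen (r v)
    have hainvc : (a⁻¹ : MulAut E) c = c := by
      conv_lhs => rw [← hac]
      exact MulAut.inv_apply_self E a c
    have hainvv : (a⁻¹ : MulAut E) v = v * c ^ (-t) := by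
      apply a.injective
      rw [MulAut.apply_inv_self, map_mul, map_zpow, hac, hav, mul_assoc, ← zpow_add,
        add_neg_cancel, zpow_zero, mul_one]
    have hsc : s c = v * c ^ t := by
      rw [hs', MulAut.mul_apply, MulAut.mul_apply, hainvc, ← hv, hav]
    have hsv1 : s v = (c ^ α * v ^ β) * v ^ t := by
      have e : s v = r (s c) := by
        have := congrArg (fun σ : MulAut E => σ c) hcomm
        simpa [hv] using this
      rw [e, hsc, map_mul, map_zpow, ← hv, hrv]
    have hsv2 : s v = c ^ α * (v * c ^ t) ^ β * (v * c ^ t) ^ (-t) := by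
      rw [hs', MulAut.mul_apply, MulAut.mul_apply, hainvv, map_mul, map_zpow, ← hv, ← hrv]
      rw [map_mul, map_mul, map_zpow, map_zpow, map_zpow, hac, hav]
    have h2t : v ^ (t + t) = c ^ (t * β - t * t) := by
      have h := hsv1.symm.trans hsv2
      rw [mul_zpow, mul_zpow, ← zpow_mul, ← zpow_mul] at h
      have h' : v ^ t = c ^ (t * β) * (v ^ (-t) * c ^ (t * -t)) := by
        rw [mul_assoc (c ^ α), mul_assoc (c ^ α), mul_assoc (v ^ β)] at h
        exact mul_left_cancel (mul_left_cancel h)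
      calc v ^ (t + t) = v ^ t * v ^ t := zpow_add v t t
        _ = c ^ (t * β) * (v ^ (-t) * c ^ (t * -t)) * v ^ t := congrArg (· * v ^ t) h'
        _ = c ^ (t * β) * c ^ (t * -t) := by
          rw [mul_assoc, mul_assoc (a := v ^ (-t)), mul_comm (c ^ (t * -t)) (v ^ t),
            ← mul_assoc (v ^ (-t)), ← zpow_add, neg_add_cancel, zpow_zero, one_mul]
        _ = c ^ (t * β - t * t) := by rw [← zpow_add]; congr 1; ring
    have hdvd := hindep _ _ h2t
    rw [← two_mul] at hdvd
    have : (p : ℤ) ∣ t := by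
      refine (IsCoprime.dvd_of_dvd_mul_left ?_ hdvd)
      rw [(Nat.prime_iff_prime_int.1 hp.out).coprime_iff_not_dvd]
      intro h
      have h' : p ∣ 2 := Int.natCast_dvd_natCast.1 (by exact_mod_cast h)
      exact hp2 ((Nat.prime_dvd_prime_iff_eq hp.out Nat.prime_two).1 h')
    apply hct
    obtain ⟨k, hk⟩ := this
    rw [hk, zpow_mul, zpow_natCast, hexp, one_zpow]

open Finset in
/-- The norm identity: if everything fixed by an element of one of the lines lies in `S`, then
everything does. -/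
theorem eq_top_of_lines [hp : Fact p.Prime] {M : Type*} [CommGroup M] [Finite M]
    (hM : (Nat.card M).Coprime p) (β γ : MulAut M) (hβ : β ^ p = 1) (hγ : γ ^ p = 1)
    (hcomm : Commute β γ) (S : Subgroup M)
    (hline : ∀ y, (∀ i : ZMod p, (β * γ ^ i.val) y = y → y ∈ S) ∧ (γ y = y → y ∈ S)) :
    S = ⊤ := by
  haveI : NeZero p := ⟨hp.out.ne_zero⟩
  have hpow : ∀ (σ : MulAut M), σ ^ p = 1 → ∀ m : ℕ, σ ^ (m % p) = σ ^ m := fun σ hσ m => by
    conv_rhs => rw [← Nat.mod_add_div m p, pow_add, pow_mul, hσ, one_pow, mul_one]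
  let f : ZMod p → ZMod p → M → M := fun j k y => (β ^ j.val * γ ^ k.val) y
  have hmul : ∀ j k j' k' y, f j k (f j' k' y) = f (j + j') (k + k') y := by
    intro j k j' k' y
    simp only [f]
    rw [← MulAut.mul_apply, ZMod.val_add, ZMod.val_add, hpow β hβ, hpow γ hγ,
      pow_add, pow_add, (hcomm.symm.pow_pow k.val j'.val).mul_mul_mul_comm]
  have hβγ : ∀ (i : ZMod p) (y : M), (β * γ ^ i.val) y = f 1 i y := by
    intro i y
    simp only [f]
    rw [ZMod.val_one, pow_one]
  have hγ' : ∀ y : M, γ y = f 0 1 y := by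
    intro y
    simp only [f]
    rw [ZMod.val_zero, pow_zero, one_mul, ZMod.val_one, pow_one]
  have hadd : ∀ (j k : ZMod p) (s : Finset (ZMod p)) (g : ZMod p → M),
      f j k (∏ l ∈ s, g l) = ∏ l ∈ s, f j k (g l) := fun j k s g => map_prod _ g s
  rw [eq_top_iff]
  intro y _
  let N : ZMod p → M := fun i => ∏ j : ZMod p, f j (i * j) y
  let N' : M := ∏ k : ZMod p, f 0 k y
  have hN : ∀ i, N i ∈ S := by
    intro i
    apply (hline _).1 i
    rw [hβγ, hadd]
    refine (Fintype.prod_equiv (Equiv.addLeft 1) _ _ fun j => ?_)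
    rw [hmul, Equiv.coe_addLeft, mul_add, mul_one]
  have hN' : N' ∈ S := by
    apply (hline _).2
    rw [hγ', hadd]
    refine (Fintype.prod_equiv (Equiv.addLeft 1) _ _ fun k => ?_)
    rw [hmul, Equiv.coe_addLeft, add_zero]
  let NE : M := ∏ j : ZMod p, ∏ k : ZMod p, f j k y
  have hNE : NE ∈ S := by
    apply (hline _).2
    rw [hγ', hadd]
    refine Fintype.prod_congr _ _ fun j => ?_
    rw [hadd]
    refine (Fintype.prod_equiv (Equiv.addLeft 1) _ _ fun k => ?_)
    rw [hmul, Equiv.coe_addLeft, zero_add]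
  have key : (∏ i, N i) * N' = y ^ p * NE := by
    simp only [N, N', NE]
    rw [Finset.prod_comm, ← Finset.mul_prod_erase _ _ (Finset.mem_univ (0 : ZMod p)),
      ← Finset.mul_prod_erase _ (fun j => ∏ k, f j k y) (Finset.mem_univ (0 : ZMod p))]
    have h0 : ∀ i : ZMod p, f 0 (i * 0) y = y := by
      intro i
      simp only [f, mul_zero, ZMod.val_zero, pow_zero, one_mul, MulAut.one_apply]
    rw [Finset.prod_congr rfl fun i _ => h0 i, Finset.prod_const, Finset.card_univ, ZMod.card]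
    have herase : ∀ j ∈ (Finset.univ : Finset (ZMod p)).erase 0,
        (∏ i : ZMod p, f j (i * j) y) = ∏ k : ZMod p, f j k y := fun j hj =>
      Fintype.prod_equiv (Equiv.mulRight₀ j (Finset.ne_of_mem_erase hj)) _ _ fun i => rfl
    rw [Finset.prod_congr rfl herase, mul_assoc, mul_comm (∏ j ∈ _, _)]
  have hyp : y ^ p ∈ S := by
    have h : y ^ p = (∏ i, N i) * N' * NE⁻¹ := by rw [key, mul_inv_cancel_right]
    rw [h]
    exact S.mul_mem (S.mul_mem (Subgroup.prod_mem S fun i _ => hN i) hN') (S.inv_mem hNE)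
  obtain ⟨m, hm⟩ := exists_pow_eq_self_of_coprime (x := y) (n := p)
    (Nat.Coprime.coprime_dvd_left (orderOf_dvd_natCard y) hM).symm
  exact hm ▸ S.pow_mem hyp m


/-- The fixed points of `B` on `V`. -/
def fixedSub {Γ V : Type*} [Group Γ] [Group V] (ρ : Γ →* MulAut V) (B : Subgroup Γ) : Subgroup V where
  carrier := {v | ∀ b ∈ B, ρ b v = v}
  mul_mem' := fun {u v} hu hv b hb => by rw [map_mul, hu b hb, hv b hb]
  one_mem' := fun b _ => map_one _
  inv_mem' := fun {u} hu b hb => by rw [map_inv, hu b hb]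

theorem mem_fixedSub {Γ V : Type*} [Group Γ] [Group V] (ρ : Γ →* MulAut V) (B : Subgroup Γ) {v : V} :
    v ∈ fixedSub ρ B ↔ ∀ b ∈ B, ρ b v = v :=
  Iff.rfl

theorem fixedSub_anti {Γ V : Type*} [Group Γ] [Group V] (ρ : Γ →* MulAut V) {B B' : Subgroup Γ}
    (h : B ≤ B') : fixedSub ρ B' ≤ fixedSub ρ B :=
  fun _ hv b hb => hv b (h hb)

/-- The subgroup fixing `W` pointwise. -/
def fixer {Γ V : Type*} [Group Γ] [Group V] (ρ : Γ →* MulAut V) (W : Subgroup V) : Subgroup Γ where
  carrier := {g | ∀ w ∈ W, ρ g w = w}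
  mul_mem' := fun {g h} hg hh w hw => by rw [map_mul, MulAut.mul_apply, hh w hw, hg w hw]
  one_mem' := fun w _ => by rw [map_one, MulAut.one_apply]
  inv_mem' := fun {g} hg w hw => by
    rw [map_inv]
    conv_lhs => rw [← hg w hw]
    exact MulAut.inv_apply_self V (ρ g) w

/-- An element with an index-`p` centralizer centralizes an abelian normal `p'`-subgroup. -/
theorem commute_of_transvection [hp : Fact p.Prime] (hp2 : p ≠ 2) {Γ V : Type*} [Group Γ] [Finite Γ]
    [CommGroup V] [Finite V] (hexp : ∀ v : V, v ^ p = 1) (ρ : Γ →* MulAut V)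
    (hρ : Function.Injective ρ) (K : Subgroup Γ) [K.Normal] (hKc : ∀ x ∈ K, ∀ y ∈ K, x * y = y * x)
    (hK : (Nat.card K).Coprime p) (b : Γ) (hb : b ^ p = 1)
    (hCb : Nat.card V ≤ p * Nat.card (fixedSub ρ (Subgroup.zpowers b))) :
    ∀ x ∈ K, b * x = x * b := by
  intro x hx
  set C := fixedSub ρ (Subgroup.zpowers b) with hC
  have hVp : IsPGroup p V := fun v => ⟨1, by rw [pow_one, hexp]⟩
  have hbC : ∀ v, v ∈ C ↔ ρ b v = v := by
    refine fun v => ⟨fun h => h b (Subgroup.mem_zpowers b), fun h g hg => ?_⟩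
    obtain ⟨k, rfl⟩ := Subgroup.mem_zpowers_iff.1 hg
    have h1 : ρ b ∈ MulAction.stabilizer (MulAut V) v := h
    have h2 := (MulAction.stabilizer (MulAut V) v).zpow_mem h1 k
    rw [map_zpow]
    exact h2
  have hCidx : C.index ≤ p := by
    have h := C.card_mul_index
    rw [← h, mul_comm p] at hCb
    exact Nat.le_of_mul_le_mul_left hCb Nat.card_pos
  let δ : V →* V := MonoidHom.mk' (fun v => v⁻¹ * ρ b v) (fun u v => by
    rw [map_mul, mul_inv]; exact mul_mul_mul_comm _ _ _ _)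
  have hδker : δ.ker = C := by
    ext v
    rw [MonoidHom.mem_ker, hbC]
    change v⁻¹ * ρ b v = 1 ↔ _
    rw [inv_mul_eq_one]
    exact eq_comm
  have hδrange : ∀ v, δ v ∈ C := by
    intro v
    by_cases hbot : δ.range = ⊥
    · have : δ v ∈ δ.range := ⟨v, rfl⟩
      rw [hbot, Subgroup.mem_bot] at this
      rw [this]; exact C.one_mem
    have hbp : IsPGroup p (Subgroup.zpowers b) := by
      apply IsPGroup.of_card_dvd_pow (n := 1)
      rw [pow_one, Nat.card_zpowers]
      exact orderOf_dvd_of_pow_eq_one hb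
    obtain ⟨w, hw, hw1, hwfix⟩ := exists_fixed hbp (ρ.comp (Subgroup.zpowers b).subtype) δ.range
      (hVp.to_subgroup _) hbot (by
        rintro ⟨a, ha⟩ w ⟨u, rfl⟩
        obtain ⟨k, rfl⟩ := Subgroup.mem_zpowers_iff.1 ha
        refine ⟨ρ (b ^ k) u, ?_⟩
        change (ρ (b ^ k) u)⁻¹ * ρ b (ρ (b ^ k) u) = ρ (b ^ k) (u⁻¹ * ρ b u)
        rw [map_mul (ρ (b ^ k)), map_inv (ρ (b ^ k)), ← MulAut.mul_apply, ← MulAut.mul_apply,
          ← map_mul, ← map_mul, ← zpow_one_add, ← zpow_add_one, add_comm])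
    have hle : δ.range ≤ Subgroup.zpowers w := by
      refine le_of_eq (Subgroup.eq_of_le_of_card_ge (Subgroup.zpowers_le.2 hw) ?_).symm
      rw [← Subgroup.index_ker, hδker, Nat.card_zpowers, orderOf_eq_prime (hexp w) hw1]
      exact hCidx
    obtain ⟨k, hk⟩ := Subgroup.mem_zpowers_iff.1 (hle ⟨v, rfl⟩ : δ v ∈ Subgroup.zpowers w)
    rw [← hk]
    exact C.zpow_mem ((hbC w).2 (hwfix ⟨b, Subgroup.mem_zpowers b⟩)) k
  set r := b * x * b⁻¹ * x⁻¹ with hr
  have hrK : r ∈ K := K.mul_mem (Subgroup.Normal.conj_mem inferInstance x hx b) (K.inv_mem hx)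
  set s := b * r * b⁻¹ with hs
  have hsK : s ∈ K := Subgroup.Normal.conj_mem inferInstance r hrK b
  set W := C ⊓ C.map (ρ x).toMonoidHom with hW
  have hWidx : W.index ≤ p ^ 2 := by
    refine Subgroup.index_inf_le.trans ?_
    rw [pow_two]
    refine Nat.mul_le_mul hCidx (le_trans (le_of_eq ?_) hCidx)
    exact Subgroup.index_map_equiv C (ρ x)
  have hbW : b ∈ fixer ρ W := fun w hw => (hbC w).1 (Subgroup.mem_inf.1 hw).1
  have hxbW : x * b⁻¹ * x⁻¹ ∈ fixer ρ W := by
    intro w hw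
    obtain ⟨c, hc, rfl⟩ := (Subgroup.mem_inf.1 hw).2
    have h1 : (ρ x⁻¹) (ρ x c) = c := by rw [map_inv]; exact MulAut.inv_apply_self V _ _
    have h2 : (ρ b⁻¹) c = c := by
      have := C.inv_mem (C.inv_mem hc)
      rw [inv_inv] at this
      exact this b⁻¹ ((Subgroup.zpowers b).inv_mem (Subgroup.mem_zpowers b))
    rw [map_mul, map_mul, MulAut.mul_apply, MulAut.mul_apply, MulEquiv.coe_toMonoidHom, h1, h2]
  have hrW : r ∈ fixer ρ W := by
    have h := (fixer ρ W).mul_mem hbW hxbW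
    simpa [hr, mul_assoc] using h
  let Q : fixer ρ W →* MulAut (V ⧸ W) := MonoidHom.mk'
    (fun g => QuotientGroup.congr W W (ρ g) (by
      ext v
      constructor
      · rintro ⟨w, hw, rfl⟩
        change ρ g w ∈ W
        rw [g.2 w hw]; exact hw
      · intro hv
        exact ⟨v, hv, g.2 v hv⟩))
    (fun g h => by
      ext y
      obtain ⟨v, rfl⟩ := QuotientGroup.mk_surjective y
      simp [map_mul])
  have hQ : ∀ (g : fixer ρ W) (v : V), Q g (v : V ⧸ W) = ((ρ g v : V) : V ⧸ W) := fun g v => rfl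
  have hE : Nat.card (V ⧸ W) ≤ p ^ 2 := hWidx
  have hexpE : ∀ y : V ⧸ W, y ^ p = 1 := by
    intro y
    obtain ⟨v, rfl⟩ := QuotientGroup.mk_surjective y
    rw [← QuotientGroup.mk_pow, hexp, QuotientGroup.mk_one]
  set a := Q ⟨b, hbW⟩ with ha
  let CE : Subgroup (V ⧸ W) := MonoidHom.eqLocus a.toMonoidHom (MonoidHom.id _)
  have hsW : s ∈ fixer ρ W := (fixer ρ W).mul_mem ((fixer ρ W).mul_mem hbW hrW) ((fixer ρ W).inv_mem hbW)
  have e : a * Q ⟨r, hrW⟩ * a⁻¹ = Q ⟨s, hsW⟩ := by
    rw [ha, ← map_inv, ← map_mul, ← map_mul]; rfl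
  have hro : ∀ g (hg : g ∈ fixer ρ W), g ∈ K → (orderOf (Q ⟨g, hg⟩)).Coprime p := fun g hg hgK =>
    Nat.Coprime.coprime_dvd_left ((orderOf_map_dvd _ _).trans (by
      rw [Subgroup.orderOf_mk]; exact Subgroup.orderOf_dvd_natCard K hgK)) hK
  have hkey := transvection_commute hp2 hexpE hE a (Q ⟨r, hrW⟩) CE (fun c => Iff.rfl) (by
      intro y
      obtain ⟨v, rfl⟩ := QuotientGroup.mk_surjective y
      change a ((v : V ⧸ W)⁻¹ * a (v : V ⧸ W)) = (v : V ⧸ W)⁻¹ * a (v : V ⧸ W)
      rw [ha, hQ, ← QuotientGroup.mk_inv, ← QuotientGroup.mk_mul, hQ]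
      exact congrArg (fun t : V => (t : V ⧸ W)) ((hbC _).1 (hδrange v))) (by
      rw [e, ← map_mul, ← map_mul]
      exact congrArg Q (Subtype.ext (hKc s hsK r hrK)))
    (hro r hrW hrK) (by rw [e]; exact hro s hsW hsK)
  rw [e] at hkey
  have hδo : (orderOf (ρ (r⁻¹ * s))).Coprime p :=
    Nat.Coprime.coprime_dvd_left ((orderOf_map_dvd _ _).trans
      (Subgroup.orderOf_dvd_natCard K (K.mul_mem (K.inv_mem hrK) hsK))) hK
  have hone : r⁻¹ * s = 1 := by
    apply hρ
    rw [map_one]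
    ext v
    refine fixed_of_fixed_quot hVp _ hδo v ((fixer ρ W).mul_mem ((fixer ρ W).inv_mem hrW) hsW _ ?_)
    rw [← QuotientGroup.eq_one_iff, QuotientGroup.mk_mul, QuotientGroup.mk_inv, inv_mul_eq_one,
      map_mul, MulAut.mul_apply]
    rw [show ((ρ r⁻¹ (ρ s v) : V) : V ⧸ W) = Q (⟨r, hrW⟩⁻¹) (Q ⟨s, hsW⟩ (v : V ⧸ W)) from rfl,
      hkey, map_inv, MulAut.inv_apply_self]
  rw [inv_mul_eq_one, hs] at hone
  have hrb : b * r = r * b := eq_mul_inv_iff_mul_eq.1 hone |>.symm
  have hr1 := comm_eq_one_of_commute hK hb hx hrK hrb (hKc x hx r hrK)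
  rw [mul_inv_eq_one, mul_inv_eq_iff_eq_mul] at hr1
  exact hr1

/-- Some nontrivial element of an offender centralizes every normal abelian `p'`-subgroup. -/
theorem offender_exists_commute [hp : Fact p.Prime] (hp2 : p ≠ 2) {Γ V : Type*} [Group Γ] [Finite Γ]
    [CommGroup V] [Finite V] (hexp : ∀ v : V, v ^ p = 1) (ρ : Γ →* MulAut V)
    (hρ : Function.Injective ρ) (K : Subgroup Γ) [K.Normal] (hKc : ∀ x ∈ K, ∀ y ∈ K, x * y = y * x)
    (hK : (Nat.card K).Coprime p) (A : Subgroup Γ) (hAc : ∀ a ∈ A, ∀ b ∈ A, a * b = b * a)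
    (hAexp : ∀ a ∈ A, a ^ p = 1) (hA : A ≠ ⊥)
    (hoff : Nat.card V ≤ Nat.card A * Nat.card (fixedSub ρ A)) :
    ∃ a ∈ A, a ≠ 1 ∧ ∀ x ∈ K, a * x = x * a := by
  classical
  obtain ⟨B, ⟨hBA, hB1, hBoff⟩, hBmin⟩ := (Set.toFinite
    {B : Subgroup Γ | B ≤ A ∧ B ≠ ⊥ ∧ Nat.card V ≤ Nat.card B * Nat.card (fixedSub ρ B)}).exists_minimal
      ⟨A, le_rfl, hA, hoff⟩
  by_contra hcon
  push Not at hcon
  have hnc : ∃ x ∈ K, ∃ b ∈ B, b * x ≠ x * b := by
    obtain ⟨b, hb, hb1⟩ := (Subgroup.ne_bot_iff_exists_ne_one).1 hB1 |> fun ⟨b, hb⟩ =>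
      (⟨(b : Γ), b.2, fun h => hb (Subtype.ext h)⟩ : ∃ b ∈ B, b ≠ 1)
    obtain ⟨x, hx, hne⟩ := hcon b (hBA hb) hb1
    exact ⟨x, hx, b, hb, hne⟩
  obtain ⟨H, ⟨hHB, x, hx, hxH, bx, hbx, hbxne⟩, hHmax⟩ := (Set.toFinite
    {H : Subgroup Γ | H < B ∧ ∃ x ∈ K, (∀ h ∈ H, h * x = x * h) ∧
      ∃ b ∈ B, b * x ≠ x * b}).exists_maximal
    ⟨⊥, bot_lt_iff_ne_bot.2 hB1, by
      obtain ⟨x, hx, h⟩ := hnc
      exact ⟨x, hx, fun h hh => by rw [Subgroup.mem_bot.1 hh, one_mul, mul_one], h⟩⟩
  obtain ⟨c, hcB, hcH⟩ := SetLike.exists_of_lt hHB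
  have hBeq : H ⊔ Subgroup.zpowers c = B := by
    by_contra hne
    have hlt : H ⊔ Subgroup.zpowers c < B :=
      lt_of_le_of_ne (sup_le hHB.le (Subgroup.zpowers_le.2 hcB)) hne
    obtain ⟨b, hbB, hbH⟩ := SetLike.exists_of_lt hlt
    let M : Subgroup Γ := K ⊓ Subgroup.centralizer (H : Set Γ)
    have hMinv : ∀ d ∈ B, ∀ y ∈ M, d * y * d⁻¹ ∈ M := by
      rintro d hd y ⟨hyK, hyC⟩
      refine Subgroup.mem_inf.2 ⟨Subgroup.Normal.conj_mem inferInstance y hyK d, ?_⟩
      intro h hh
      have h1 : h * d = d * h := hAc h (hBA (hHB.le hh)) d (hBA hd)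
      have h2 : h * y = y * h := hyC h hh
      have h3 : h * d⁻¹ = d⁻¹ * h := (Commute.inv_right h1 : _)
      calc h * (d * y * d⁻¹) = (h * d) * y * d⁻¹ := by group
        _ = d * (h * y) * d⁻¹ := by rw [h1]; group
        _ = d * y * (h * d⁻¹) := by rw [h2]; group
        _ = d * y * d⁻¹ * h := by rw [h3]; group
    letI : CommGroup M := { (inferInstance : Group M) with
      mul_comm := fun u v => Subtype.ext (hKc _ (Subgroup.mem_inf.1 u.2).1 _ (Subgroup.mem_inf.1 v.2).1) }
    let conjM : B →* MulAut M := MonoidHom.mk'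
      (fun d =>
        { toFun := fun y => ⟨(d : Γ) * y * (d : Γ)⁻¹, hMinv d d.2 y y.2⟩
          invFun := fun y => ⟨(d : Γ)⁻¹ * y * (d : Γ), by
            simpa using hMinv (d : Γ)⁻¹ (B.inv_mem d.2) y y.2⟩
          left_inv := fun y => Subtype.ext (by simp [mul_assoc])
          right_inv := fun y => Subtype.ext (by simp [mul_assoc])
          map_mul' := fun y z => Subtype.ext (by simp [mul_assoc]) })
      (fun d e => by ext y; simp [mul_assoc])
    let S : Subgroup M := (Subgroup.centralizer (B : Set Γ)).subgroupOf M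
    have hpB : ∀ d : B, conjM d ^ p = 1 := by
      intro d
      rw [← map_pow, show d ^ p = 1 from Subtype.ext (by simp [hAexp _ (hBA d.2)]), map_one]
    have hfix : ∀ d : B, (d : Γ) ∉ H → H ⊔ Subgroup.zpowers (d : Γ) < B →
        ∀ y : M, conjM d y = y → y ∈ S := by
      intro d hdH hdlt y hy
      by_contra hyS
      have hy' : (d : Γ) * y = y * d := mul_inv_eq_iff_eq_mul.1 (congrArg Subtype.val hy)
      obtain ⟨b', hb'⟩ : ∃ b' ∈ B, b' * (y : Γ) ≠ y * b' := by
        by_contra hall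
        push Not at hall
        exact hyS hall
      refine absurd (hHmax ⟨hdlt, y, (Subgroup.mem_inf.1 y.2).1, ?_, b', hb'⟩ le_sup_left) ?_
      · have hle : H ⊔ Subgroup.zpowers (d : Γ) ≤ Subgroup.centralizer {(y : Γ)} := by
          refine sup_le (fun h hh z hz => ?_) (Subgroup.zpowers_le.2 fun z hz => ?_)
          · rw [Set.mem_singleton_iff.1 hz]; exact ((Subgroup.mem_inf.1 y.2).2 h hh).symm
          · rw [Set.mem_singleton_iff.1 hz]; exact hy'.symm
        exact fun h hh => (hle hh _ rfl).symm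
      · exact fun hle => hdH (hle (Subgroup.mem_sup_right (Subgroup.mem_zpowers _)))
    have hStop := eq_top_of_lines (M := M) (p := p)
      (Nat.Coprime.coprime_dvd_left (Subgroup.card_dvd_of_le inf_le_left) hK)
      (conjM ⟨b, hbB⟩) (conjM ⟨c, hcB⟩) (hpB _) (hpB _)
      (by rw [Commute, SemiconjBy, ← map_mul, ← map_mul]
          exact congrArg conjM (Subtype.ext (hAc b (hBA hbB) c (hBA hcB))))
      S (fun y => ⟨fun i hi => by
          rw [← map_pow, ← map_mul] at hi
          have hdH : b * c ^ i.val ∉ H ⊔ Subgroup.zpowers c := fun h => hbH <| by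
            have h2 := Subgroup.mul_mem _ h (Subgroup.inv_mem _
              (Subgroup.mem_sup_right (Subgroup.pow_mem _ (Subgroup.mem_zpowers c) i.val)))
            simpa using h2
          refine hfix _ (fun h => hdH (Subgroup.mem_sup_left h)) (lt_of_le_of_ne
            (sup_le hHB.le (Subgroup.zpowers_le.2 (B.mul_mem hbB (B.pow_mem hcB _)))) ?_) y hi
          intro htop
          have hcmem : c ∈ H ⊔ Subgroup.zpowers (b * c ^ i.val) := htop ▸ hcB
          haveI : (H.subgroupOf B).Normal := ⟨fun u hu g => by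
            rw [Subgroup.mem_subgroupOf] at hu ⊢
            rw [show ((g * u * g⁻¹ : B) : Γ) = u by
              simp [hAc (g : Γ) (hBA g.2) (u : Γ) (hBA u.2)]]
            exact hu⟩
          have hmem : ∃ h ∈ H, ∃ k : ℤ, h * (b * c ^ i.val) ^ k = c := by
            have h1 : c ∈ Subgroup.closure ((H : Set Γ) ∪ Subgroup.zpowers (b * c ^ i.val)) := by
              rwa [Subgroup.closure_union, Subgroup.closure_eq, Subgroup.closure_eq]
            have h2 : Subgroup.zpowers (b * c ^ i.val) ≤ Subgroup.normalizer (H : Set Γ) :=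
              (Subgroup.zpowers_le.2 (show b * c ^ i.val ∈ Subgroup.centralizer (H : Set Γ) from
                fun u hu =>
                hAc u (hBA (hHB.le hu)) _ (hBA (B.mul_mem hbB (B.pow_mem hcB _))))).trans
                (Subgroup.centralizer_le_normalizer _)
            rw [← SetLike.mem_coe, Subgroup.coe_mul_of_right_le_normalizer_left _ _ h2] at hcmem
            obtain ⟨h, hh, _, ⟨k, rfl⟩, he⟩ := Set.mem_mul.1 hcmem
            exact ⟨h, hh, k, he⟩
          obtain ⟨h, hh, k, hk⟩ := hmem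
          by_cases hd : (p : ℤ) ∣ k
          · obtain ⟨l, rfl⟩ := hd
            rw [zpow_mul, zpow_natCast, hAexp _ (hBA (B.mul_mem hbB (B.pow_mem hcB _))), one_zpow,
              mul_one] at hk
            exact hcH (hk ▸ hh)
          · have hcop : IsCoprime (p : ℤ) k := by
              rw [(Nat.prime_iff_prime_int.1 hp.out).coprime_iff_not_dvd]; exact hd
            obtain ⟨u, v, huv⟩ := hcop
            apply hdH
            have e1 : b * c ^ i.val = ((b * c ^ i.val) ^ k) ^ v := by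
              rw [← zpow_mul]
              conv_lhs => rw [← zpow_one (b * c ^ i.val), ← huv, zpow_add, mul_comm u, zpow_mul,
                zpow_natCast, hAexp _ (hBA (B.mul_mem hbB (B.pow_mem hcB _))), one_zpow, one_mul,
                mul_comm v]
            rw [e1, show (b * c ^ i.val) ^ k = h⁻¹ * c from eq_inv_mul_iff_mul_eq.2 hk]
            exact Subgroup.zpow_mem _ (Subgroup.mul_mem _ (Subgroup.inv_mem _
              (Subgroup.mem_sup_left hh)) (Subgroup.mem_sup_right (Subgroup.mem_zpowers c))) v,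
        fun hi => hfix ⟨c, hcB⟩ hcH hlt y hi⟩)
    have hxM : x ∈ M := ⟨hx, fun h hh => hxH h hh⟩
    have hxS : (⟨x, hxM⟩ : M) ∈ S := by rw [hStop]; exact Subgroup.mem_top _
    exact hbxne (hxS bx hbx)
  have hcardB : Nat.card B ≤ p * Nat.card H := by
    have hcn : Subgroup.zpowers c ≤ Subgroup.normalizer (H : Set Γ) :=
      (Subgroup.zpowers_le.2 (show c ∈ Subgroup.centralizer (H : Set Γ) from
        fun u hu => hAc u (hBA (hHB.le hu)) c (hBA hcB))).trans
        (Subgroup.centralizer_le_normalizer _)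
    rw [← hBeq, ← SetLike.coe_sort_coe, Subgroup.coe_mul_of_right_le_normalizer_left _ _ hcn]
    refine (Set.natCard_mul_le).trans ?_
    rw [mul_comm]
    refine Nat.mul_le_mul ?_ le_rfl
    rw [SetLike.coe_sort_coe, Nat.card_zpowers]
    exact Nat.le_of_dvd hp.out.pos (orderOf_dvd_of_pow_eq_one (hAexp c (hBA hcB)))
  by_cases hH1 : H = ⊥
  · rw [hH1, bot_sup_eq] at hBeq
    rw [hH1, Subgroup.card_bot, mul_one] at hcardB
    have hcomm := commute_of_transvection hp2 hexp ρ hρ K hKc hK c (hAexp c (hBA hcB))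
      (by rw [hBeq]; exact hBoff.trans (Nat.mul_le_mul_right _ hcardB))
    have hc1 : c ≠ 1 := fun h => hcH (h ▸ H.one_mem)
    obtain ⟨y, hy, hne⟩ := hcon c (hBA hcB) hc1
    exact hne (hcomm y hy)
  · have hHoff : ¬ Nat.card V ≤ Nat.card H * Nat.card (fixedSub ρ H) := fun h =>
      hHB.not_ge (hBmin ⟨hHB.le.trans hBA, hH1, h⟩ hHB.le)
    have hlt : Nat.card H * Nat.card (fixedSub ρ H) <
        Nat.card H * (p * Nat.card (fixedSub ρ B)) := by
      refine lt_of_lt_of_le (not_le.1 hHoff) (hBoff.trans ?_)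
      rw [← mul_assoc, mul_comm (Nat.card H)]
      exact Nat.mul_le_mul_right _ hcardB
    have hfixeq : fixedSub ρ B = fixedSub ρ H := by
      refine Subgroup.eq_of_le_of_card_ge (fixedSub_anti ρ hHB.le) ?_
      have hVp : IsPGroup p V := fun v => ⟨1, by rw [pow_one, hexp]⟩
      obtain ⟨i, hi⟩ := IsPGroup.iff_card.1 (hVp.to_subgroup (fixedSub ρ H))
      obtain ⟨j, hj⟩ := IsPGroup.iff_card.1 (hVp.to_subgroup (fixedSub ρ B))
      have h := Nat.lt_of_mul_lt_mul_left hlt
      rw [hi, hj, ← pow_succ', Nat.pow_lt_pow_iff_right hp.out.one_lt] at h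
      rw [hi, hj]
      exact Nat.pow_le_pow_right hp.out.pos (Nat.lt_succ_iff.1 h)
    set r := bx * x * bx⁻¹ * x⁻¹ with hr
    have hrK : r ∈ K := K.mul_mem (Subgroup.Normal.conj_mem inferInstance x hx bx) (K.inv_mem hx)
    have hrH : ∀ h ∈ H, h * r = r * h := by
      intro h hh
      have h1 : Commute h bx := hAc h (hBA (hHB.le hh)) bx (hBA hbx)
      have h2 : Commute h x := hxH h hh
      exact ((h1.mul_right h2).mul_right h1.inv_right).mul_right h2.inv_right
    have hVp : IsPGroup p V := fun v => ⟨1, by rw [pow_one, hexp]⟩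
    let D : V →* V := MonoidHom.mk' (fun v => v⁻¹ * ρ r v) (fun u v => by
      rw [map_mul, mul_inv]; exact mul_mul_mul_comm _ _ _ _)
    have hr1 : r = 1 := by
      apply hρ
      rw [map_one]
      by_contra hne
      have hD : D.range ≠ ⊥ := fun h => hne <| by
        ext v
        have h1 : D v ∈ D.range := ⟨v, rfl⟩
        rw [h, Subgroup.mem_bot] at h1
        exact (inv_mul_eq_one.1 h1).symm
      have hHp : IsPGroup p H := fun h => ⟨1, Subtype.ext (by
        simp [hAexp _ (hBA (hHB.le h.2))])⟩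
      obtain ⟨w, hw, hw1, hwfix⟩ := exists_fixed hHp (ρ.comp H.subtype) D.range
        (hVp.to_subgroup _) hD (by
          rintro ⟨h, hh⟩ _ ⟨u, rfl⟩
          refine ⟨ρ h u, ?_⟩
          change (ρ h u)⁻¹ * ρ r (ρ h u) = ρ h (u⁻¹ * ρ r u)
          rw [map_mul (ρ h), map_inv (ρ h), ← MulAut.mul_apply, ← MulAut.mul_apply, ← map_mul,
            ← map_mul, hrH h hh])
      have hwB : w ∈ fixedSub ρ B := hfixeq ▸ (fun h hh => hwfix ⟨h, hh⟩ : w ∈ fixedSub ρ H)
      have hrw : ρ r w = w := by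
        have hxH' : ρ x⁻¹ w ∈ fixedSub ρ H := by
          intro h hh
          have hc2 : Commute h x⁻¹ := Commute.inv_right (hxH h hh)
          rw [← MulAut.mul_apply, ← map_mul, hc2.eq, map_mul, MulAut.mul_apply,
            (hfixeq ▸ hwB : w ∈ fixedSub ρ H) h hh]
        rw [← hfixeq] at hxH'
        rw [hr, map_mul, map_mul, map_mul, MulAut.mul_apply, MulAut.mul_apply, MulAut.mul_apply,
          hxH' bx⁻¹ (B.inv_mem hbx), ← MulAut.mul_apply (e₁ := ρ x), ← map_mul, mul_inv_cancel, map_one,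
          MulAut.one_apply, hwB bx hbx]
      obtain ⟨u, rfl⟩ := hw
      refine hw1 ?_
      have hro : (orderOf (ρ r)).Coprime p := Nat.Coprime.coprime_dvd_left
        ((orderOf_map_dvd _ _).trans (Subgroup.orderOf_dvd_natCard K hrK)) hK
      have := fixed_of_fixed_quot hVp (ρ r) hro u hrw
      change u⁻¹ * ρ r u = 1
      rw [this, inv_mul_cancel]
    rw [hr, mul_inv_eq_one, mul_inv_eq_iff_eq_mul] at hr1
    exact hbxne hr1

end Cfsg.Agent.OffenderAction
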