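import Mathlib.GroupTheory.Solvable
import Cfsg.Agent.Lib.Transfer.Fusion
import Cfsg.Agent.Lib.Transfer.CoprimeQuotient
import Cfsg.Agent.Lib.PLocal.Thompson
import Cfsg.Agent.Lib.PLocal.OffenderAction

/-!
Thompson's normal `p`-complement theorem: for odd `p`, `G` has a normal `p`-complement as soon as
`N_G(J(P))` and `C_G(Z(P))` have one.
-/

set_option autoImplicit false
set_option linter.style.haveILetI false

open scoped Pointwise

namespace Cfsg.Agent.ThompsonNPC

open Cfsg.Agent

universe u

variable {G : Type*} [Group G] {H : Type*} [Group H] {p : ℕ}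

theorem normalizer_le_normalizer_center [hp : Fact p.Prime] (S : Subgroup G) :
    Subgroup.normalizer (S : Set G) ≤
      Subgroup.normalizer ((S ⊓ Subgroup.centralizer (S : Set G) : Subgroup G) : Set G) := by
  intro g hg
  rw [Subgroup.mem_normalizer_iff_map_conj_eq] at hg ⊢
  have h1 := CoprimeQuotient.inf_centralizer_map (p := p) (MulAut.conj g).toMonoidHom S
    (MulAut.conj g).injective.injOn
  exact h1.trans (by rw [show S.map (MulAut.conj g).toMonoidHom = S from hg])

theorem normalizer_center_le [Finite G] (S : Subgroup G) :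
    Subgroup.centralizer ((S ⊓ Subgroup.centralizer (S : Set G) : Subgroup G) : Set G) ≤
      Subgroup.normalizer ((S ⊓ Subgroup.centralizer (S : Set G) : Subgroup G) : Set G) :=
  Subgroup.centralizer_le_normalizer _

theorem center_ne_bot [Finite G] [hp : Fact p.Prime] {S : Subgroup G} (hS : IsPGroup p S)
    (h : S ≠ ⊥) : S ⊓ Subgroup.centralizer (S : Set G) ≠ ⊥ := by
  haveI : Nontrivial S := (Subgroup.nontrivial_iff_ne_bot S).2 h
  haveI := hS.center_nontrivial
  obtain ⟨z, hz1⟩ := exists_ne (1 : Subgroup.center S)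
  rw [Ne, Subgroup.eq_bot_iff_forall]
  intro hall
  apply hz1
  have := hall ((z : S) : G) ⟨(z : S).2, fun x hx =>
    congrArg Subtype.val (Subgroup.mem_center_iff.1 z.2 ⟨x, hx⟩)⟩
  exact Subtype.ext (Subtype.ext this)

theorem thompson_ne_bot [Finite G] [hp : Fact p.Prime] {S : Subgroup G} (hS : IsPGroup p S)
    (h : S ≠ ⊥) : Cfsg.thompsonSubgroupOf p S ≠ ⊥ := by
  haveI : Nontrivial S := (Subgroup.nontrivial_iff_ne_bot S).2 h
  apply Thompson.thompsonSubgroupOf_ne_bot
  rcases hS.card_eq_or_dvd with h' | h'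
  · exact absurd h' (Finite.one_lt_card (α := S)).ne'
  · exact h'

theorem npc_normalizer_of_injective [Finite H] [Fact p.Prime] (f : G →* H)
    (hf : Function.Injective f) (X : Subgroup G)
    (h : Cfsg.HasNormalPComplement p (Subgroup.normalizer ((X.map f : Subgroup H) : Set H))) :
    Cfsg.HasNormalPComplement p (Subgroup.normalizer (X : Set G)) := by
  refine PBasic.hasNormalPComplement_of_injective
    ((f.comp (Subgroup.normalizer (X : Set G)).subtype).codRestrict
      (Subgroup.normalizer ((X.map f : Subgroup H) : Set H))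
      (fun x => Subgroup.le_normalizer_map f ⟨x, x.2, rfl⟩)) ?_ h
  intro a b hab
  exact Subtype.ext (hf (congrArg Subtype.val hab))

theorem npc_centralizer_of_injective [Finite H] [Fact p.Prime] (f : G →* H)
    (hf : Function.Injective f) (X : Subgroup G)
    (h : Cfsg.HasNormalPComplement p (Subgroup.centralizer ((X.map f : Subgroup H) : Set H))) :
    Cfsg.HasNormalPComplement p (Subgroup.centralizer (X : Set G)) := by
  refine PBasic.hasNormalPComplement_of_injective
    ((f.comp (Subgroup.centralizer (X : Set G)).subtype).codRestrict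
      (Subgroup.centralizer ((X.map f : Subgroup H) : Set H))
      (fun x => ?_)) ?_ h
  · rintro _ ⟨y, hy, rfl⟩
    change f y * f x = f x * f y
    rw [← map_mul, ← map_mul, x.2 y hy]
  · intro a b hab
    exact Subtype.ext (hf (congrArg Subtype.val hab))

theorem npc_of_le [Finite G] [Fact p.Prime] {A B : Subgroup G} (h : A ≤ B)
    (hB : Cfsg.HasNormalPComplement p B) : Cfsg.HasNormalPComplement p A :=
  PBasic.hasNormalPComplement_of_injective (Subgroup.inclusion h)
    (Subgroup.inclusion_injective h) hB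

/-- The hypotheses pass to subgroups containing the Sylow subgroup in question. -/
theorem hyps_subgroup [Finite G] [Fact p.Prime] (K : Subgroup G) (S : Subgroup K)
    (hJ : Cfsg.HasNormalPComplement p
      (Subgroup.normalizer (Cfsg.thompsonSubgroupOf p (S.map K.subtype) : Set G)))
    (hZ : Cfsg.HasNormalPComplement p (Subgroup.centralizer
      ((S.map K.subtype ⊓ Subgroup.centralizer ((S.map K.subtype : Subgroup G) : Set G) :
        Subgroup G) : Set G))) :
    Cfsg.HasNormalPComplement p (Subgroup.normalizer (Cfsg.thompsonSubgroupOf p S : Set K)) ∧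
    Cfsg.HasNormalPComplement p (Subgroup.centralizer
      ((S ⊓ Subgroup.centralizer (S : Set K) : Subgroup K) : Set K)) := by
  constructor
  · refine npc_normalizer_of_injective K.subtype Subtype.coe_injective _ ?_
    rwa [← Thompson.thompsonSubgroupOf_map_of_injective S K.subtype Subtype.coe_injective]
  · refine npc_centralizer_of_injective K.subtype Subtype.coe_injective _ ?_
    rwa [CoprimeQuotient.inf_centralizer_map (p := p) K.subtype S
      Subtype.coe_injective.injOn]

theorem pow_le_of_pSubgroup_le [Finite G] [hp : Fact p.Prime] {S K : Subgroup G}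
    (hS : IsPGroup p S) (h : S ≤ K) : Nat.card S ≤ p ^ (Nat.card K).factorization p := by
  obtain ⟨k, hk⟩ := IsPGroup.iff_card.1 hS
  rw [hk]
  refine Nat.pow_le_pow_right hp.out.pos ?_
  have := Subgroup.card_dvd_of_le h
  rw [hk] at this
  exact (hp.out.pow_dvd_iff_le_factorization Nat.card_pos.ne').1 this

/-- Thompson's first reduction: a minimal counterexample has a nontrivial normal `p`-subgroup. -/
theorem exists_normal_pSubgroup [Finite G] [hp : Fact p.Prime] (P : Sylow p G)
    (hJ : Cfsg.HasNormalPComplement p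
      (Subgroup.normalizer (Cfsg.thompsonSubgroupOf p (P : Subgroup G) : Set G)))
    (hZ : Cfsg.HasNormalPComplement p (Subgroup.centralizer
      (((P : Subgroup G) ⊓ Subgroup.centralizer ((P : Subgroup G) : Set G) : Subgroup G) : Set G)))
    (hIH : ∀ K : Subgroup G, K ≠ ⊤ → ∀ S : Sylow p K,
      Cfsg.HasNormalPComplement p
        (Subgroup.normalizer (Cfsg.thompsonSubgroupOf p (S : Subgroup K) : Set K)) →
      Cfsg.HasNormalPComplement p (Subgroup.centralizer
        (((S : Subgroup K) ⊓ Subgroup.centralizer ((S : Subgroup K) : Set K) : Subgroup K) : Set K)) →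
      Cfsg.HasNormalPComplement p K)
    (hG : ¬ Cfsg.HasNormalPComplement p G) :
    ∃ U : Subgroup G, U.Normal ∧ IsPGroup p U ∧ U ≠ ⊥ := by
  classical
  have hbad : ∃ U : Subgroup G, IsPGroup p U ∧
      ¬ Cfsg.HasNormalPComplement p (Subgroup.normalizer (U : Set G)) ∧ U ≠ ⊥ := by
    by_contra h
    push Not at h
    refine hG (Fusion.hasNormalPComplement_of_frobenius fun D hD g hg hgo => ?_)
    by_cases hD1 : D = ⊥
    · intro x hx
      rw [hD1] at hx
      rw [Subgroup.mem_bot.1 hx, one_mul, mul_one]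
    · refine Fusion.mem_centralizer_of_hasNormalPComplement hD ?_ hg hgo
      by_contra hn
      exact hD1 (h D hD hn)
  obtain ⟨U, ⟨hUp, hUn, hU1⟩, hmax⟩ := Set.exists_max_image
    {U : Subgroup G | IsPGroup p U ∧
      ¬ Cfsg.HasNormalPComplement p (Subgroup.normalizer (U : Set G)) ∧ U ≠ ⊥}
    (fun U => (Nat.card (Subgroup.normalizer (U : Set G))).factorization p) (Set.toFinite _) hbad
  obtain ⟨S⟩ : Nonempty (Sylow p (Subgroup.normalizer (U : Set G))) := inferInstance
  obtain ⟨R, hR⟩ := (S.isPGroup'.map (Subgroup.normalizer (U : Set G)).subtype).exists_le_sylow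
  obtain ⟨g, hg⟩ := MulAction.exists_smul_eq G R P
  set e := (MulAut.conj g).toMonoidHom with he
  set U' := U.map e with hU'
  have hN' : (Subgroup.normalizer (U : Set G)).map e = Subgroup.normalizer (U' : Set G) :=
    Subgroup.map_equiv_normalizer_eq U (MulAut.conj g)
  set N := Subgroup.normalizer (U' : Set G) with hN
  set S' := ((S : Subgroup _).map (Subgroup.normalizer (U : Set G)).subtype).map e with hS'
  have hS'P : S' ≤ (P : Subgroup G) := by
    rw [← hg, Sylow.coe_subgroup_smul]
    exact Subgroup.map_mono hR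
  have hS'N : S' ≤ N := hN' ▸ Subgroup.map_mono (Subgroup.map_subtype_le _)
  have hS'p : IsPGroup p S' := P.isPGroup'.to_le hS'P
  have hcardN : Nat.card N = Nat.card (Subgroup.normalizer (U : Set G)) := by
    rw [← hN', Subgroup.card_map_of_injective (f := e) (MulAut.conj g).injective]
  have hcardS' : Nat.card S' = p ^ (Nat.card N).factorization p := by
    rw [hS', Subgroup.card_map_of_injective (f := e) (MulAut.conj g).injective,
      Subgroup.card_map_of_injective Subtype.coe_injective, hcardN, ← S.card_eq_multiplicity]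
  have hU'bad : ¬ Cfsg.HasNormalPComplement p N := by
    rw [← hN', ← PBasic.hasNormalPComplement_congr
      (Subgroup.equivMapOfInjective _ e (MulAut.conj g).injective)]
    exact hUn
  have hU'p : IsPGroup p U' := hUp.map e
  have hU'1 : U' ≠ ⊥ := by
    rw [hU', Ne, Subgroup.map_eq_bot_iff_of_injective _ (f := e) (MulAut.conj g).injective]
    exact hU1
  have hS'cases : S' = (P : Subgroup G) ∨ S' < (P : Subgroup G) := eq_or_lt_of_le hS'P
  let SN : Sylow p N := Sylow.ofCard (S'.subgroupOf N) (by
    rw [Nat.card_congr (Subgroup.subgroupOfEquivOfLe hS'N).toEquiv, hcardS'])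
  have hSNmap : (SN : Subgroup N).map N.subtype = S' := Subgroup.map_subgroupOf_eq_of_le hS'N
  by_cases hNtop : N = ⊤
  · exact ⟨U', Subgroup.normalizer_eq_top_iff.1 hNtop, hU'p, hU'1⟩
  exfalso
  apply hU'bad
  have key : Cfsg.HasNormalPComplement p (Subgroup.normalizer (Cfsg.thompsonSubgroupOf p S' : Set G)) ∧
      Cfsg.HasNormalPComplement p (Subgroup.centralizer
        ((S' ⊓ Subgroup.centralizer (S' : Set G) : Subgroup G) : Set G)) := by
    rcases hS'cases with heq | hlt
    · rw [heq]; exact ⟨hJ, hZ⟩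
    have hS'1 : S' ≠ ⊥ := by
      intro hbot
      have h1 : Nat.card U' ≤ Nat.card S' := by
        rw [hcardS']; exact pow_le_of_pSubgroup_le hU'p (hN ▸ Subgroup.le_normalizer)
      rw [hbot, Subgroup.card_bot] at h1
      exact hU'1 (Subgroup.card_eq_one.1 (le_antisymm h1 Nat.card_pos))
    have hgrow := Fusion.lt_inf_normalizer (Fusion.sylow_isNilpotent P) hlt
    have hgood : ∀ W : Subgroup G, W ≠ ⊥ → IsPGroup p W →
        Subgroup.normalizer (S' : Set G) ≤ Subgroup.normalizer (W : Set G) →
        Cfsg.HasNormalPComplement p (Subgroup.normalizer (W : Set G)) := by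
      intro W hW1 hWp hle
      by_contra hn
      have h1 : (Nat.card (Subgroup.normalizer (W : Set G))).factorization p ≤
          (Nat.card (Subgroup.normalizer (U : Set G))).factorization p := hmax W ⟨hWp, hn, hW1⟩
      rw [← hcardN] at h1
      have h2 := pow_le_of_pSubgroup_le (p := p) (P.isPGroup'.to_inf_left
        (K := Subgroup.normalizer (S' : Set G))) (inf_le_right.trans hle)
      have h3 : Nat.card S' < Nat.card ↥((P : Subgroup G) ⊓ Subgroup.normalizer (S' : Set G)) := by
        rcases lt_or_ge (Nat.card S')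
          (Nat.card ↥((P : Subgroup G) ⊓ Subgroup.normalizer (S' : Set G))) with h | h
        · exact h
        · exact absurd (Subgroup.eq_of_le_of_card_ge hgrow.le h) hgrow.ne
      rw [hcardS'] at h3
      exact absurd (h3.trans_le (h2.trans (Nat.pow_le_pow_right hp.out.pos h1))) (lt_irrefl _)
    refine ⟨hgood _ (thompson_ne_bot hS'p hS'1) (hS'p.to_le (Thompson.thompsonSubgroupOf_le p S'))
      (Thompson.normalizer_le_normalizer_thompsonSubgroupOf p S'), ?_⟩
    refine npc_of_le (normalizer_center_le S') ?_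
    exact hgood _ (center_ne_bot hS'p hS'1) hS'p.to_inf_left
      (normalizer_le_normalizer_center (p := p) S')
  obtain ⟨h1, h2⟩ := hyps_subgroup N (SN : Subgroup N) (by rw [hSNmap]; exact key.1)
    (by rw [hSNmap]; exact key.2)
  exact hIH N hNtop SN h1 h2

theorem eq_bot_of_inf_pResidual [Finite G] [hp : Fact p.Prime]
    (hO : Cfsg.pCore p G = ⊥) (X : Subgroup G) [X.Normal]
    (h : X ⊓ Cfsg.pResidual p G = ⊥) : X = ⊥ := by
  rw [← le_bot_iff, ← hO]
  refine PBasic.le_pCore inferInstance (PBasic.isPGroup_iff_forall_coprime.2 fun x hx => ?_)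
  apply Subtype.ext
  have : (x : G) ∈ X ⊓ Cfsg.pResidual p G :=
    ⟨x.2, PBasic.mem_pResidual (by rwa [Subgroup.orderOf_coe])⟩
  rwa [h, Subgroup.mem_bot] at this

/-- `P`-maximality makes an abelian normal `p`-complement. -/
theorem pResidual_commute_of_maximal [Finite G] [hp : Fact p.Prime] (P : Sylow p G)
    (hG : Cfsg.HasNormalPComplement p G)
    (hmax : ∀ L : Subgroup G, (P : Subgroup G) ≤ L → L ≠ ⊤ → L = (P : Subgroup G)) :
    ∀ x ∈ Cfsg.pResidual p G, ∀ y ∈ Cfsg.pResidual p G, x * y = y * x := by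
  classical
  set K := Cfsg.pResidual p G with hK
  by_cases hK1 : K = ⊥
  · intro x hx y hy
    rw [hK1] at hx
    rw [Subgroup.mem_bot.1 hx, one_mul, mul_one]
  have hKc : (Nat.card K).Coprime p := PBasic.hasNormalPComplement_iff_pResidual.1 hG
  have hKcard : Nat.card K ≠ 1 := fun h => hK1 (Subgroup.card_eq_one.1 h)
  obtain ⟨q, hq, hqd⟩ := Nat.exists_prime_and_dvd hKcard
  haveI : Fact q.Prime := ⟨hq⟩
  obtain ⟨Q⟩ : Nonempty (Sylow q K) := inferInstance
  set Q' := (Q : Subgroup K).map K.subtype with hQ'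
  set N := Subgroup.normalizer (Q' : Set G) with hN
  have hNK : N ⊔ K = ⊤ := Sylow.normalizer_sup_eq_top Q
  obtain ⟨S⟩ : Nonempty (Sylow p N) := inferInstance
  have hNidx : ¬ p ∣ N.index := by
    rw [← hp.out.coprime_iff_not_dvd, Nat.coprime_comm]
    refine Nat.Coprime.coprime_dvd_left ?_ hKc
    rw [← Subgroup.relIndex_top_right, ← hNK, PBasic.relIndex_eq_relIndex_sup_left]
    exact Subgroup.relIndex_dvd_card _ _
  have hSG : IsPGroup p ((S : Subgroup N).map N.subtype) := S.isPGroup'.map _
  let S' : Sylow p G := hSG.toSylow (by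
    rw [Subgroup.index_map_subtype]
    exact hp.out.not_dvd_mul S.not_dvd_index hNidx)
  obtain ⟨g, hg⟩ := MulAction.exists_smul_eq G S' P
  set e := (MulAut.conj g).toMonoidHom with he
  have hNe : N.map e = Subgroup.normalizer ((Q'.map e : Subgroup G) : Set G) :=
    Subgroup.map_equiv_normalizer_eq Q' (MulAut.conj g)
  have hPn : (P : Subgroup G) ≤ Subgroup.normalizer ((Q'.map e : Subgroup G) : Set G) := by
    rw [← hNe, ← hg, Sylow.coe_subgroup_smul]
    exact Subgroup.map_mono (Subgroup.map_subtype_le _)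
  have hQK : Q'.map e ≤ K :=
    (Subgroup.map_mono (Subgroup.map_subtype_le _)).trans
      (by rintro _ ⟨x, hx, rfl⟩; exact (PBasic.pResidual_normal_inst p G).conj_mem x hx g)
  have hQ1 : Q'.map e ≠ ⊥ := by
    rw [Ne, Subgroup.map_eq_bot_iff_of_injective _ (f := e) (MulAut.conj g).injective, hQ',
      Subgroup.map_eq_bot_iff_of_injective _ Subtype.coe_injective]
    exact Q.ne_bot_of_dvd_card hqd
  have htop : ∀ Y : Subgroup G, Y ≤ K → (P : Subgroup G) ≤ Subgroup.normalizer (Y : Set G) →
      Y ≠ ⊥ → K ≤ Y := by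
    intro Y hYK hPY hY1 x hx
    by_cases hL : Y ⊔ (P : Subgroup G) = ⊤
    · have hx' : x ∈ Y ⊔ (P : Subgroup G) := hL ▸ Subgroup.mem_top x
      rw [← SetLike.mem_coe, Subgroup.coe_mul_of_right_le_normalizer_left _ _ hPY] at hx'
      obtain ⟨y, hy, a, ha, rfl⟩ := Set.mem_mul.1 hx'
      have ha' : a ∈ K ⊓ (P : Subgroup G) := by
        refine Subgroup.mem_inf.2 ⟨?_, ha⟩
        simpa using K.mul_mem (K.inv_mem (hYK hy)) hx
      rw [PBasic.inf_eq_bot_of_coprime hKc P.isPGroup', Subgroup.mem_bot] at ha'
      rwa [ha', mul_one]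
    · exfalso
      have h1 := hmax _ le_sup_right hL
      have h2 : Y ≤ K ⊓ (P : Subgroup G) := le_inf hYK (h1 ▸ le_sup_left)
      rw [PBasic.inf_eq_bot_of_coprime hKc P.isPGroup', le_bot_iff] at h2
      exact hY1 h2
  have hKq : IsPGroup q K := ((Q.isPGroup'.map _).map _).to_le (htop _ hQK hPn hQ1)
  haveI := hKq.isNilpotent
  set D := (commutator K).map K.subtype with hD
  haveI : (commutator K).Characteristic := Subgroup.commutator_characteristic ⊤ ⊤
  have hDn : D.Normal := inferInstance
  by_cases hD1 : D = ⊥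
  · intro x hx y hy
    rw [hD, Subgroup.map_eq_bot_iff_of_injective _ Subtype.coe_injective] at hD1
    haveI : IsMulCommutative K := by
      rw [← commutator_eq_bot_iff]; exact hD1
    exact congrArg Subtype.val (mul_comm' (⟨x, hx⟩ : K) ⟨y, hy⟩)
  · exfalso
    have h1 := htop D (Subgroup.map_subtype_le _)
      (by rw [Subgroup.normalizer_eq_top]; exact le_top) hD1
    have h2 : (⊤ : Subgroup K) ≤ ⁅(⊤ : Subgroup K), (⊤ : Subgroup K)⁆ ⊔ ⊥ := by
      intro x _
      rw [sup_bot_eq, ← commutator_def]
      obtain ⟨y, hy, hyx⟩ := h1 x.2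
      exact (Subtype.ext hyx : y = x) ▸ hy
    have h3 := Fusion.le_of_le_commutator_sup_normal (⊤ : Subgroup K) ⊥ h2
    exact hK1 (Subgroup.card_eq_one.1 (by
      rw [← Subgroup.card_top (G := K), le_bot_iff.1 h3, Subgroup.card_bot]))

/-- The endgame: `O_{p'} = 1`, `C(O_p) ≤ O_p` and the quotient has an abelian complement. -/
theorem endgame [Finite G] [hp : Fact p.Prime] (hp2 : p ≠ 2) (P : Sylow p G)
    (hG : ¬ Cfsg.HasNormalPComplement p G)
    (hJ : Cfsg.HasNormalPComplement p
      (Subgroup.normalizer (Cfsg.thompsonSubgroupOf p (P : Subgroup G) : Set G)))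
    (hZ : Cfsg.HasNormalPComplement p (Subgroup.centralizer
      (((P : Subgroup G) ⊓ Subgroup.centralizer ((P : Subgroup G) : Set G) : Subgroup G) : Set G)))
    (hC : Subgroup.centralizer (Cfsg.pCore p G : Set G) ≤ Cfsg.pCore p G)
    (hbar : Cfsg.HasNormalPComplement p (G ⧸ Cfsg.pCore p G))
    (hmax : ∀ L : Subgroup G, (P : Subgroup G) ≤ L → L ≠ ⊤ → L = (P : Subgroup G)) : False := by
  classical
  set U := Cfsg.pCore p G with hU
  set f := QuotientGroup.mk' U with hf
  have hfs : Function.Surjective f := QuotientGroup.mk'_surjective U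
  have hUP : U ≤ (P : Subgroup G) := PBasic.pCore_le_sylow P
  set Pbar := P.mapSurjective hfs with hPbar
  have hPbarc : (Pbar : Subgroup (G ⧸ U)) = (P : Subgroup G).map f := rfl
  have hmaxbar : ∀ L : Subgroup (G ⧸ U), (Pbar : Subgroup (G ⧸ U)) ≤ L → L ≠ ⊤ →
      L = (Pbar : Subgroup (G ⧸ U)) := by
    intro L hL hLtop
    have h := hmax (L.comap f) (by rw [← Subgroup.map_le_iff_le_comap]; exact hL) (fun h => hLtop (by
      rw [← Subgroup.map_comap_eq_self_of_surjective hfs L, h,
        Subgroup.map_top_of_surjective f hfs]))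
    rw [hPbarc, ← h, Subgroup.map_comap_eq_self_of_surjective hfs]
  have hKc := pResidual_commute_of_maximal Pbar hbar hmaxbar
  set K := Cfsg.pResidual p (G ⧸ U) with hK
  have hKcard : (Nat.card K).Coprime p := PBasic.hasNormalPComplement_iff_pResidual.1 hbar
  have hO : Cfsg.pCore p (G ⧸ U) = ⊥ := PBasic.pCore_quotient_pCore p G
  let Z := U ⊓ Subgroup.centralizer (U : Set G)
  haveI hZn : Z.Normal := Subgroup.normal_inf_normal _ _
  have hZc : ∀ a ∈ Z, ∀ b ∈ Z, a * b = b * a := fun a ha b hb =>
    (Subgroup.mem_inf.1 hb).2 a (Subgroup.mem_inf.1 ha).1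
  let V : Subgroup G :=
    { carrier := {z | z ∈ Z ∧ z ^ p = 1}
      mul_mem' := fun {a b} ha hb => ⟨Z.mul_mem ha.1 hb.1, by
        rw [Commute.mul_pow (hZc a ha.1 b hb.1), ha.2, hb.2, mul_one]⟩
      one_mem' := ⟨Z.one_mem, one_pow p⟩
      inv_mem' := fun {a} ha => ⟨Z.inv_mem ha.1, by rw [inv_pow, ha.2, inv_one]⟩ }
  haveI hVn : V.Normal := ⟨fun v hv g => ⟨hZn.conj_mem v hv.1 g, by
    rw [conj_pow, hv.2, mul_one, mul_inv_cancel]⟩⟩
  have hVc : ∀ a ∈ V, ∀ b ∈ V, a * b = b * a := fun a ha b hb => hZc a ha.1 b hb.1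
  have hVU : V ≤ U := fun v hv => (Subgroup.mem_inf.1 hv.1).1
  letI : CommGroup V := { (inferInstance : Group V) with
    mul_comm := fun a b => Subtype.ext (hVc a a.2 b b.2) }
  have hVexp : ∀ v : V, v ^ p = 1 := fun v => Subtype.ext (by
    simp only [SubmonoidClass.coe_pow, Subgroup.coe_one]; exact v.2.2)
  have hUker : U ≤ (MulAut.conjNormal : G →* MulAut V).ker := by
    intro u hu
    rw [MonoidHom.mem_ker]
    ext v
    rw [MulAut.conjNormal_apply, MulAut.one_apply, (Subgroup.mem_inf.1 v.2.1).2 u hu]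
    group
  let ρ : G ⧸ U →* MulAut V := QuotientGroup.lift U MulAut.conjNormal hUker
  have hρ : ∀ (g : G) (v : V), ((ρ (f g) v : V) : G) = g * v * g⁻¹ := fun g v =>
    MulAut.conjNormal_apply g v
  haveI hkn : ρ.ker.Normal := inferInstance
  have hρinj : Function.Injective ρ := by
    rw [← MonoidHom.ker_eq_bot_iff]
    refine eq_bot_of_inf_pResidual hO ρ.ker ?_
    by_contra hne
    set Y := ρ.ker ⊓ Cfsg.pResidual p (G ⧸ U) with hY
    have hYtop : (Pbar : Subgroup (G ⧸ U)) ⊔ Y = ⊤ := by
      by_contra hL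
      have h1 := hmaxbar _ le_sup_left hL
      have h2 : Y ≤ K ⊓ (Pbar : Subgroup (G ⧸ U)) := le_inf inf_le_right (h1 ▸ le_sup_right)
      rw [PBasic.inf_eq_bot_of_coprime hKcard Pbar.isPGroup', le_bot_iff] at h2
      exact hne h2
    have hKY : K ≤ ρ.ker := by
      intro x hx
      have hx' : x ∈ (Pbar : Subgroup (G ⧸ U)) ⊔ Y := hYtop ▸ Subgroup.mem_top x
      rw [← SetLike.mem_coe, Subgroup.mul_normal] at hx'
      obtain ⟨a, ha, y, hy, rfl⟩ := Set.mem_mul.1 hx'
      have ha' : a ∈ K ⊓ (Pbar : Subgroup (G ⧸ U)) := by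
        refine Subgroup.mem_inf.2 ⟨?_, ha⟩
        simpa using K.mul_mem hx (K.inv_mem (Subgroup.mem_inf.1 hy).2)
      rw [PBasic.inf_eq_bot_of_coprime hKcard Pbar.isPGroup', Subgroup.mem_bot] at ha'
      rw [ha', one_mul]
      exact (Subgroup.mem_inf.1 hy).1
    have hres : Cfsg.pResidual p G ≤ Subgroup.centralizer
        (((P : Subgroup G) ⊓ Subgroup.centralizer ((P : Subgroup G) : Set G) : Subgroup G) : Set G) := by
      rw [Cfsg.pResidual, Subgroup.closure_le]
      intro g hg
      have hgV : ∀ v : V, g * (v : G) * g⁻¹ = v := fun v => by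
        rw [← hρ, MonoidHom.mem_ker.1 (hKY (PBasic.map_pResidual_le f
          (Subgroup.mem_map_of_mem f (PBasic.mem_pResidual hg)))), MulAut.one_apply]
      have hfix : ∀ k : ℕ, ∀ z ∈ Z, z ^ p ^ k = 1 → g * z * g⁻¹ = z := by
        intro k
        induction k with
        | zero =>
          intro z _ hzk
          rw [pow_zero, pow_one] at hzk
          rw [hzk, mul_one, mul_inv_cancel]
        | succ k ih =>
          intro z hz hzk
          have hzp : g * z ^ p * g⁻¹ = z ^ p := ih _ (Z.pow_mem hz p) (by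
            rw [← pow_mul, ← pow_succ']; exact hzk)
          have hw : z⁻¹ * (g * z * g⁻¹) ∈ V :=
            ⟨Z.mul_mem (Z.inv_mem hz) (hZn.conj_mem z hz g), by
              rw [Commute.mul_pow (hZc _ (Z.inv_mem hz) _ (hZn.conj_mem z hz g)), conj_pow, hzp,
                inv_pow, inv_mul_cancel]⟩
          have hZp : IsPGroup p Z := (PBasic.pCore_isPGroup p G).to_le inf_le_left
          have := OffenderAction.fixed_of_fixed_quot hZp (MulAut.conjNormal (H := Z) g)
            (Nat.Coprime.coprime_dvd_left (orderOf_map_dvd _ g) hg) ⟨z, hz⟩ (by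
              apply Subtype.ext
              simp only [MulAut.conjNormal_apply, Subgroup.coe_mul, Subgroup.coe_inv]
              exact hgV ⟨_, hw⟩)
          have := congrArg Subtype.val this
          simpa using this
      intro z hz
      have hzU : z ∈ U := hC (Subgroup.centralizer_le (SetLike.coe_subset_coe.2 hUP)
        (Subgroup.mem_inf.1 hz).2)
      have hzZ : z ∈ Z := ⟨hzU, fun u hu => (Subgroup.mem_inf.1 hz).2 u (hUP hu)⟩
      obtain ⟨k, hk⟩ := IsPGroup.iff_orderOf.1 (PBasic.pCore_isPGroup p G) ⟨z, hzU⟩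
      rw [Subgroup.orderOf_mk] at hk
      have := hfix k z hzZ (hk ▸ pow_orderOf_eq_one z)
      exact (mul_inv_eq_iff_eq_mul.1 this).symm
    have hPle : (P : Subgroup G) ≤ Subgroup.centralizer
        (((P : Subgroup G) ⊓ Subgroup.centralizer ((P : Subgroup G) : Set G) : Subgroup G) : Set G) :=
      fun x hx z hz => ((Subgroup.mem_inf.1 hz).2 x hx).symm
    have htop := sup_le hPle hres
    rw [PBasic.sylow_sup_pResidual P, top_le_iff] at htop
    rw [htop, PBasic.hasNormalPComplement_congr Subgroup.topEquiv] at hZ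
    exact hG hZ
  obtain ⟨A, hA, hAU⟩ : ∃ A, Thompson.IsMaxEAIn p (P : Subgroup G) A ∧ ¬ A ≤ U := by
    by_contra h
    push Not at h
    have hle : Cfsg.thompsonSubgroupOf p (P : Subgroup G) ≤ U := by
      rw [Thompson.thompsonSubgroupOf_eq]; exact sSup_le h
    have h1 : Subgroup.normalizer (Cfsg.thompsonSubgroupOf p (P : Subgroup G) : Set G) = ⊤ := by
      rw [← Thompson.thompsonSubgroupOf_eq_of_le hle hUP, eq_top_iff]
      refine le_trans ?_ (Thompson.normalizer_le_normalizer_thompsonSubgroupOf p U)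
      rw [Subgroup.normalizer_eq_top]
    rw [h1, PBasic.hasNormalPComplement_congr Subgroup.topEquiv] at hJ
    exact hG hJ
  set Abar := A.map f with hAbar
  have hAbar1 : Abar ≠ ⊥ := by
    rw [hAbar, Ne, Subgroup.map_eq_bot_iff, hf, QuotientGroup.ker_mk']
    exact hAU
  have hAc : ∀ a ∈ Abar, ∀ b ∈ Abar, a * b = b * a := by
    rintro _ ⟨a, ha, rfl⟩ _ ⟨b, hb, rfl⟩
    rw [← map_mul, ← map_mul, Thompson.commute_of_isElementaryAbelian hA.2.1 ha hb]
  have hAexp : ∀ a ∈ Abar, a ^ p = 1 := by
    rintro _ ⟨a, ha, rfl⟩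
    rw [← map_pow, hA.2.1.2 a ha, map_one]
  have hoff : Nat.card V ≤ Nat.card Abar * Nat.card (OffenderAction.fixedSub ρ Abar) := by
    set W := A ⊓ U
    have hWV : ∀ w ∈ W, ∀ v ∈ V, w * v = v * w := fun w hw v hv =>
      (Subgroup.mem_inf.1 hv.1).2 w (Subgroup.mem_inf.1 hw).2
    set B := W ⊔ V
    have hVW : V ≤ B := le_sup_right
    have hBle : Nat.card B ≤ Nat.card A := by
      refine hA.2.2 B (sup_le (inf_le_right.trans hUP) (hVU.trans hUP)) ?_
      have hBmem : ∀ b ∈ B, ∃ w ∈ W, ∃ v ∈ V, b = w * v := by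
        intro b hb
        rw [← SetLike.mem_coe, Subgroup.mul_normal] at hb
        obtain ⟨w, hw, v, hv, rfl⟩ := Set.mem_mul.1 hb
        exact ⟨w, hw, v, hv, rfl⟩
      have hcomm : ∀ a ∈ B, ∀ b ∈ B, a * b = b * a := by
        intro a ha b hb
        obtain ⟨w, hw, v, hv, rfl⟩ := hBmem a ha
        obtain ⟨w', hw', v', hv', rfl⟩ := hBmem b hb
        have e1 : Commute w w' := Thompson.commute_of_isElementaryAbelian hA.2.1
          (Subgroup.mem_inf.1 hw).1 (Subgroup.mem_inf.1 hw').1
        have e2 : Commute w v' := hWV w hw v' hv'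
        have e3 : Commute v w' := (hWV w' hw' v hv).symm
        have e4 : Commute v v' := hVc v hv v' hv'
        exact (e1.mul_right e2).mul_left (e3.mul_right e4)
      refine ⟨⟨⟨fun a b => Subtype.ext (hcomm a a.2 b b.2)⟩⟩, fun b hb => ?_⟩
      obtain ⟨w, hw, v, hv, rfl⟩ := hBmem b hb
      rw [Commute.mul_pow (hWV w hw v hv), hA.2.1.2 w (Subgroup.mem_inf.1 hw).1, hv.2, mul_one]
    have h1 : Nat.card A = Nat.card W * Nat.card Abar := by
      have hg : (f.domRestrict A).ker = U.subgroupOf A := by
        rw [MonoidHom.ker_domRestrict, hf, QuotientGroup.ker_mk']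
      have h2 := Subgroup.index_ker (f.domRestrict A)
      rw [hg] at h2
      have h3 : (f.domRestrict A).range = Abar := by
        rw [MonoidHom.domRestrict_range]
      rw [h3] at h2
      rw [← h2]
      have h4 := (U.subgroupOf A).card_mul_index
      rw [← h4]
      congr 1
      rw [← Subgroup.inf_subgroupOf_left]
      exact Nat.card_congr (Subgroup.subgroupOfEquivOfLe inf_le_left).toEquiv
    have h6 := PBasic.card_mul_relIndex hVW
    rw [Subgroup.relIndex_sup_right] at h6
    have h7 := PBasic.card_mul_relIndex (show W ⊓ V ≤ W from inf_le_left)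
    rw [Subgroup.inf_relIndex_left] at h7
    have h8 : Nat.card V * Nat.card W = Nat.card B * Nat.card ↥(W ⊓ V) := by
      rw [← h6, ← h7]; ring
    have h9 : Nat.card V * Nat.card W ≤ Nat.card W * (Nat.card Abar * Nat.card ↥(W ⊓ V)) := by
      rw [h8, ← mul_assoc, ← h1]
      exact Nat.mul_le_mul_right _ hBle
    rw [mul_comm (Nat.card V)] at h9
    refine (Nat.le_of_mul_le_mul_left h9 Nat.card_pos).trans (Nat.mul_le_mul_left _ ?_)
    refine Nat.card_le_card_of_injective
      (fun x : ↥(W ⊓ V) => (⟨⟨(x : G), (Subgroup.mem_inf.1 x.2).2⟩, ?_⟩ :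
        OffenderAction.fixedSub ρ Abar)) ?_
    · rintro _ ⟨a, ha, rfl⟩
      apply Subtype.ext
      rw [hρ]
      have := Thompson.commute_of_isElementaryAbelian hA.2.1 ha
        (Subgroup.mem_inf.1 (Subgroup.mem_inf.1 x.2).1).1
      rw [this, mul_inv_cancel_right]
    · intro x y hxy
      exact Subtype.ext (congrArg (fun t : OffenderAction.fixedSub ρ Abar => ((t : V) : G)) hxy)
  obtain ⟨a, ha, ha1, hacomm⟩ := OffenderAction.offender_exists_commute hp2 hVexp ρ hρinj K hKc
    hKcard Abar hAc hAexp hAbar1 hoff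
  set S := (Pbar : Subgroup (G ⧸ U)) ⊓ Subgroup.centralizer (K : Set (G ⧸ U)) with hS
  have hSn : S.Normal := by
    rw [← Subgroup.normalizer_eq_top_iff, eq_top_iff, ← PBasic.sylow_sup_pResidual Pbar]
    refine sup_le ?_ ?_
    · refine le_trans (le_inf Subgroup.le_normalizer ?_) Subgroup.inf_normalizer_le_normalizer_inf
      rw [Subgroup.normalizer_eq_top]; exact le_top
    · refine le_trans ?_ (Subgroup.centralizer_le_normalizer _)
      intro k hk s hs
      exact ((Subgroup.mem_inf.1 hs).2 k hk).symm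
  have hS1 : S ≤ ⊥ := hO ▸ PBasic.le_pCore hSn Pbar.isPGroup'.to_inf_left
  have haS : a ∈ S := ⟨Subgroup.map_mono hA.1 ha, fun k hk => (hacomm k hk).symm⟩
  exact ha1 (Subgroup.mem_bot.1 (hS1 haS))

/-- **Thompson's normal `p`-complement theorem.** -/
theorem hasNormalPComplement_of_thompson {G : Type u} [Group G] [Finite G] [hp : Fact p.Prime]
    (hp2 : p ≠ 2) (P : Sylow p G)
    (hJ : Cfsg.HasNormalPComplement p
      (Subgroup.normalizer (Cfsg.thompsonSubgroupOf p (P : Subgroup G) : Set G)))
    (hZ : Cfsg.HasNormalPComplement p (Subgroup.centralizer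
      (((P : Subgroup G) ⊓ Subgroup.centralizer ((P : Subgroup G) : Set G) : Subgroup G) : Set G))) :
    Cfsg.HasNormalPComplement p G := by
  suffices h : ∀ n : ℕ, ∀ (G : Type u) [Group G] [Finite G], Nat.card G = n → ∀ P : Sylow p G,
      Cfsg.HasNormalPComplement p
        (Subgroup.normalizer (Cfsg.thompsonSubgroupOf p (P : Subgroup G) : Set G)) →
      Cfsg.HasNormalPComplement p (Subgroup.centralizer
        (((P : Subgroup G) ⊓ Subgroup.centralizer ((P : Subgroup G) : Set G) : Subgroup G) : Set G)) →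
      Cfsg.HasNormalPComplement p G from h _ G rfl P hJ hZ
  intro n
  induction n using Nat.strong_induction_on with
  | _ n ih =>
    intro G _ _ hn P hJ hZ
    by_contra hG
    have hIH : ∀ K : Subgroup G, K ≠ ⊤ → ∀ S : Sylow p K,
        Cfsg.HasNormalPComplement p
          (Subgroup.normalizer (Cfsg.thompsonSubgroupOf p (S : Subgroup K) : Set K)) →
        Cfsg.HasNormalPComplement p (Subgroup.centralizer
          (((S : Subgroup K) ⊓ Subgroup.centralizer ((S : Subgroup K) : Set K) : Subgroup K) : Set K)) →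
        Cfsg.HasNormalPComplement p K := by
      intro K hK S h1 h2
      refine ih _ ?_ K rfl S h1 h2
      rw [← hn]
      exact lt_of_le_of_ne (Subgroup.card_le_card_group K) (fun h => hK (Subgroup.eq_top_of_card_eq K h))
    obtain ⟨U0, hU0n, hU0p, hU01⟩ := exists_normal_pSubgroup P hJ hZ hIH hG
    set U := Cfsg.pCore p G with hU
    have hU1 : U ≠ ⊥ := fun h => hU01 (le_bot_iff.1 (h ▸ PBasic.le_pCore hU0n hU0p))
    have hUP : U ≤ (P : Subgroup G) := PBasic.pCore_le_sylow P
    have hproper : ∀ L : Subgroup G, (P : Subgroup G) ≤ L → L ≠ ⊤ →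
        Cfsg.HasNormalPComplement p L := by
      intro L hPL hL
      have hmap : ((P.subtype hPL : Sylow p L) : Subgroup L).map L.subtype = (P : Subgroup G) :=
        Subgroup.map_subgroupOf_eq_of_le hPL
      obtain ⟨h1, h2⟩ := hyps_subgroup L ((P.subtype hPL : Sylow p L) : Subgroup L)
        (by rw [hmap]; exact hJ) (by rw [hmap]; exact hZ)
      exact hIH L hL _ h1 h2
    -- `O_{p'}(G) = 1`
    have hM : Cfsg.pPrimeCore p G = ⊥ := by
      by_contra hM1
      set M := Cfsg.pPrimeCore p G with hMdef
      set f := QuotientGroup.mk' M with hf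
      have hfs : Function.Surjective f := QuotientGroup.mk'_surjective M
      have hker : (Nat.card f.ker).Coprime p := by
        rw [hf, QuotientGroup.ker_mk']; exact PBasic.pPrimeCore_coprime p G
      have hinj : Set.InjOn f (P : Subgroup G) := CoprimeQuotient.injOn_of_coprime_ker f hker P.isPGroup'
      have hlt : Nat.card (G ⧸ M) < n := by
        rw [← hn]
        change M.index < _
        rw [← M.card_mul_index]
        exact lt_mul_of_one_lt_left (Nat.pos_of_ne_zero M.index_ne_zero_of_finite)
          (Subgroup.one_lt_card_iff_ne_bot M |>.2 hM1)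
      have hq : Cfsg.HasNormalPComplement p (G ⧸ M) := by
        refine ih _ hlt (G ⧸ M) rfl (P.mapSurjective hfs) ?_ ?_
        · rw [Sylow.coe_mapSurjective, Thompson.thompsonSubgroupOf_map f hinj,
            CoprimeQuotient.normalizer_map f hfs hker
              (P.isPGroup'.to_le (Thompson.thompsonSubgroupOf_le p _))]
          exact PBasic.hasNormalPComplement_of_surjective (f.subgroupMap _)
            (f.subgroupMap_surjective _) hJ
        · rw [Sylow.coe_mapSurjective, ← CoprimeQuotient.inf_centralizer_map (p := p) f _ hinj,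
            CoprimeQuotient.centralizer_map f hfs hker P.isPGroup'.to_inf_left]
          exact PBasic.hasNormalPComplement_of_surjective (f.subgroupMap _)
            (f.subgroupMap_surjective _) hZ
      apply hG
      rw [PBasic.hasNormalPComplement_iff_pResidual, PBasic.coprime_card_iff]
      intro x hx
      have h1 := (PBasic.mem_pResidual_iff hq).1 (PBasic.map_pResidual_le f (Subgroup.mem_map_of_mem f hx))
      have h2 : x ^ orderOf (f x) ∈ f.ker := by rw [MonoidHom.mem_ker, map_pow, pow_orderOf_eq_one]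
      have h3 : orderOf x ∣ orderOf (f x) * Nat.card f.ker :=
        orderOf_dvd_of_pow_eq_one (by
          rw [pow_mul]
          exact congrArg Subtype.val (pow_card_eq_one' (x := (⟨_, h2⟩ : f.ker))))
      exact Nat.Coprime.coprime_dvd_left h3 (Nat.Coprime.mul_left h1 hker)
    -- the quotient by `O_p(G)` has a normal complement
    set f := QuotientGroup.mk' U with hf
    have hfs : Function.Surjective f := QuotientGroup.mk'_surjective U
    have hO : Cfsg.pCore p (G ⧸ U) = ⊥ := PBasic.pCore_quotient_pCore p G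
    have hbar : Cfsg.HasNormalPComplement p (G ⧸ U) := by
      set Pbar := P.mapSurjective hfs with hPbar
      have hPbar1 : (Pbar : Subgroup (G ⧸ U)) ≠ ⊥ := by
        intro h
        rw [hPbar, Sylow.coe_mapSurjective, Subgroup.map_eq_bot_iff, hf, QuotientGroup.ker_mk'] at h
        have hPU : (P : Subgroup G) = U := le_antisymm h hUP
        have h1 : Subgroup.normalizer (Cfsg.thompsonSubgroupOf p (P : Subgroup G) : Set G) = ⊤ := by
          rw [hPU, eq_top_iff]
          refine le_trans ?_ (Thompson.normalizer_le_normalizer_thompsonSubgroupOf p U)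
          rw [Subgroup.normalizer_eq_top]
        rw [h1, PBasic.hasNormalPComplement_congr Subgroup.topEquiv] at hJ
        exact hG hJ
      have hgood : ∀ W : Subgroup (G ⧸ U), W ≠ ⊥ → IsPGroup p W →
          (Pbar : Subgroup (G ⧸ U)) ≤ Subgroup.normalizer (W : Set (G ⧸ U)) →
          Cfsg.HasNormalPComplement p (Subgroup.normalizer (W : Set (G ⧸ U))) := by
        intro W hW1 hWp hle
        set L := (Subgroup.normalizer (W : Set (G ⧸ U))).comap f with hL
        have hLtop : L ≠ ⊤ := by
          intro h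
          have h1 : Subgroup.normalizer (W : Set (G ⧸ U)) = ⊤ := by
            rw [← Subgroup.map_comap_eq_self_of_surjective hfs
              (Subgroup.normalizer (W : Set (G ⧸ U))), ← hL, h,
              Subgroup.map_top_of_surjective f hfs]
          exact hW1 (le_bot_iff.1 (hO ▸ PBasic.le_pCore (Subgroup.normalizer_eq_top_iff.1 h1) hWp))
        have h2 := hproper L (Subgroup.map_le_iff_le_comap.1 hle) hLtop
        have h3 := PBasic.hasNormalPComplement_of_surjective (f.subgroupMap L)
          (f.subgroupMap_surjective L) h2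
        rwa [hL, Subgroup.map_comap_eq_self_of_surjective hfs] at h3
      refine ih _ ?_ (G ⧸ U) rfl Pbar ?_ ?_
      · rw [← hn]
        change U.index < _
        rw [← U.card_mul_index]
        exact lt_mul_of_one_lt_left (Nat.pos_of_ne_zero U.index_ne_zero_of_finite)
          (Subgroup.one_lt_card_iff_ne_bot U |>.2 hU1)
      · exact hgood _ (thompson_ne_bot Pbar.isPGroup' hPbar1)
          (Pbar.isPGroup'.to_le (Thompson.thompsonSubgroupOf_le p _))
          (Subgroup.le_normalizer.trans (Thompson.normalizer_le_normalizer_thompsonSubgroupOf p _))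
      · exact npc_of_le (normalizer_center_le _) (hgood _ (center_ne_bot Pbar.isPGroup' hPbar1)
          Pbar.isPGroup'.to_inf_left
          (Subgroup.le_normalizer.trans (normalizer_le_normalizer_center (p := p) _)))
    -- `C(O_p(G)) ≤ O_p(G)`
    have hC : Subgroup.centralizer (U : Set G) ≤ U := by
      set C := Subgroup.centralizer (U : Set G) ⊓ (Cfsg.pResidual p (G ⧸ U)).comap f with hCdef
      haveI hCn : C.Normal := Subgroup.normal_inf_normal _ _
      obtain ⟨PC, hPC⟩ := PBasic.exists_sylow_subgroupOf P C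
      have hcen : ∀ x : C, x ∈ (PC : Subgroup C) → (x : G) ∈ U := by
        intro x hx
        rw [hPC] at hx
        have h1 : f (x : G) ∈ Cfsg.pResidual p (G ⧸ U) ⊓ (P.mapSurjective hfs : Subgroup (G ⧸ U)) :=
          Subgroup.mem_inf.2 ⟨(Subgroup.mem_inf.1 x.2).2, Subgroup.mem_map_of_mem f hx⟩
        rw [PBasic.inf_eq_bot_of_coprime (PBasic.hasNormalPComplement_iff_pResidual.1 hbar)
          (P.mapSurjective hfs).isPGroup', Subgroup.mem_bot] at h1
        exact (QuotientGroup.eq_one_iff _).1 h1
      have hCnpc : Cfsg.HasNormalPComplement p C := by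
        refine Fusion.hasNormalPComplement_of_normalizer_le_centralizer PC fun y _ x hx => ?_
        exact Subtype.ext ((Subgroup.mem_inf.1 y.2).1 (x : G) (hcen x hx))
      have hres : (Cfsg.pResidual p C).map C.subtype = ⊥ := by
        rw [← le_bot_iff, ← hM]
        refine le_trans (Subgroup.map_mono ?_) (PBasic.map_pPrimeCore_le_of_normal C)
        exact (PBasic.pPrimeCore_eq_pResidual hCnpc).ge
      rw [Subgroup.map_eq_bot_iff_of_injective _ Subtype.coe_injective] at hres
      have hCp : IsPGroup p C := by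
        refine PBasic.isPGroup_iff_forall_coprime.2 fun x hx => ?_
        rw [← Subgroup.mem_bot, ← hres]
        exact PBasic.mem_pResidual hx
      have hCU : C ≤ U := PBasic.le_pCore hCn hCp
      haveI : ((Subgroup.centralizer (U : Set G)).map f).Normal :=
        Subgroup.Normal.map inferInstance f hfs
      have h1 : (Subgroup.centralizer (U : Set G)).map f = ⊥ := by
        refine eq_bot_of_inf_pResidual hO _ ?_
        rw [Subgroup.eq_bot_iff_forall]
        rintro _ ⟨⟨g, hg, rfl⟩, h2⟩
        exact (QuotientGroup.eq_one_iff g).2 (hCU ⟨hg, h2⟩)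
      rwa [Subgroup.map_eq_bot_iff, hf, QuotientGroup.ker_mk'] at h1
    -- `P` is maximal
    have hmax : ∀ L : Subgroup G, (P : Subgroup G) ≤ L → L ≠ ⊤ → L = (P : Subgroup G) := by
      intro L hPL hL
      have hnpc := hproper L hPL hL
      refine P.is_maximal' ?_ hPL
      refine PBasic.isPGroup_iff_forall_coprime.2 fun x hx => ?_
      have h1 : (x : G) ∈ Subgroup.centralizer (U : Set G) := by
        intro u hu
        have hu' : u ∈ L := hPL (hUP hu)
        have h2 : (⟨u, hu'⟩ : L) * x * (⟨u, hu'⟩ : L)⁻¹ * x⁻¹ = 1 := by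
          refine PBasic.eq_one_of_isPGroup_of_coprime (p := p)
            (P := U.subgroupOf L) (PBasic.pCore_isPGroup p G).comap_subtype ?_ ?_
          · rw [Subgroup.mem_subgroupOf]
            simp only [Subgroup.coe_mul, Subgroup.coe_inv, mul_assoc]
            refine U.mul_mem hu ?_
            simpa [mul_assoc] using (Cfsg.pCore_normal p G).conj_mem u⁻¹ (U.inv_mem hu) (x : G)
          · refine (PBasic.mem_pResidual_iff hnpc).1 ?_
            exact Subgroup.mul_mem _
              ((PBasic.pResidual_normal_inst p L).conj_mem x (PBasic.mem_pResidual hx) _)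
              (Subgroup.inv_mem _ (PBasic.mem_pResidual hx))
        rw [mul_inv_eq_one, mul_inv_eq_iff_eq_mul] at h2
        exact congrArg Subtype.val h2
      exact Subtype.ext (PBasic.eq_one_of_isPGroup_of_coprime (PBasic.pCore_isPGroup p G) (hC h1)
        (by rwa [Subgroup.orderOf_coe]))
    exact endgame hp2 P hG hJ hZ hC hbar hmax

end Cfsg.Agent.ThompsonNPC
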