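import Mathlib.Algebra.Ring.Equiv
import Cfsg.Agent.Lib.PLocal.ZJ
import Cfsg.Agent.Lib.PLocal.ThompsonNPC

/-!
The normal `p`-complement theorem of Glauberman and Thompson.
-/

set_option autoImplicit false
set_option linter.style.haveILetI false

open scoped commutatorElement Pointwise

namespace Cfsg.Agent.ZJNPC

open Cfsg.Agent

universe u

variable {p : ℕ}

theorem ring_commute {R : Type*} [Ring R] {n k : R} {m : ℕ}
    (htwo : ∀ r : R, 2 * r = 0 → r = 0) (hm : ∀ r : R, (m : R) * r = 0 → r = 0) (hn : n * n = 0)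
    (h1 : Commute ((1 + n) * k * (1 - n)) k) (h2 : Commute ((1 - n) * k * (1 + n)) k)
    (hk : k ^ m = 1) : n * k = k * n := by
  set u := n * k - k * n with hu
  have h3 : Commute (2 * u) k := by
    have e : 2 * u = (1 + n) * k * (1 - n) - (1 - n) * k * (1 + n) := by
      rw [hu]; noncomm_ring
    rw [e]; exact h1.sub_left h2
  have h4 : u * k = k * u := by
    rw [← sub_eq_zero]
    apply htwo
    have h5 := h3.eq
    rw [mul_sub, ← mul_assoc, h5, sub_eq_zero]
    rw [two_mul, two_mul, mul_add]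
  have h6 : ∀ j : ℕ, n * k ^ (j + 1) = k ^ (j + 1) * n + ((j + 1 : ℕ) : R) * (u * k ^ j) := by
    intro j
    induction j with
    | zero => simp [hu]
    | succ j ih =>
      have hc : k ^ (j + 1) * u = u * k ^ (j + 1) := (Commute.pow_right h4 (j + 1)).eq.symm
      calc n * k ^ (j + 1 + 1) = n * k ^ (j + 1) * k := by rw [pow_succ k (j + 1), mul_assoc]
        _ = k ^ (j + 1) * (k * n + u) + ((j + 1 : ℕ) : R) * (u * k ^ (j + 1)) := by
            rw [ih, add_mul, pow_succ k j, hu]; noncomm_ring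
        _ = k ^ (j + 1 + 1) * n + ((j + 1 + 1 : ℕ) : R) * (u * k ^ (j + 1)) := by
            rw [mul_add, hc, pow_succ k (j + 1), Nat.cast_succ (j + 1)]; noncomm_ring
  rcases Nat.eq_zero_or_pos m with hm0 | hm0
  · have h0 : (m : R) * (n * k - k * n) = 0 := by simp [hm0]
    exact sub_eq_zero.1 (hm _ h0)
  obtain ⟨j, rfl⟩ := Nat.exists_eq_succ_of_ne_zero hm0.ne'
  have h7 := h6 j
  rw [Nat.succ_eq_add_one] at hk
  rw [hk, mul_one, one_mul, left_eq_add] at h7
  have h8 : u * k ^ j = 0 := hm _ h7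
  have h9 : u = 0 := by
    have := congrArg (· * k) h8
    simpa [mul_assoc, ← pow_succ, hk] using this
  exact sub_eq_zero.1 h9

/-- The endomorphism ring of the additive version, as receptacle of automorphisms. -/
def toEnd (V : Type*) [CommGroup V] : MulAut V →* AddMonoid.End (Additive V) where
  toFun α := MonoidHom.toAdditive α.toMonoidHom
  map_one' := rfl
  map_mul' _ _ := rfl

theorem act_commute {V : Type*} [CommGroup V] [hp : Fact p.Prime] (hp2 : p ≠ 2) (hV : IsPGroup p V)
    (α k : MulAut V) (hα : ∀ v, α (α v * v⁻¹) = α v * v⁻¹) (h1 : Commute (α * k * α⁻¹) k)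
    (h2 : Commute (α⁻¹ * k * α) k) {m : ℕ} (hm : m.Coprime p) (hk : k ^ m = 1) :
    Commute α k := by
  set T := toEnd V with hT
  set n := T α - 1 with hn
  have htor : ∀ j : ℕ, j.Coprime p → ∀ r : AddMonoid.End (Additive V),
      (j : AddMonoid.End (Additive V)) * r = 0 → r = 0 := by
    intro j hj r hr
    refine AddMonoidHom.ext fun v => ?_
    have h := DFunLike.congr_fun hr v
    rw [AddMonoid.End.coe_mul, Function.comp_apply, AddMonoid.End.natCast_apply] at h
    replace h : j • r v = 0 := h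
    have h' : (Additive.toMul (r v)) ^ j = 1 := h
    obtain ⟨i, hi⟩ := IsPGroup.iff_orderOf.1 hV (Additive.toMul (r v))
    have h'' : orderOf (Additive.toMul (r v)) = 1 :=
      Nat.eq_one_of_dvd_one ((Nat.coprime_iff_gcd_eq_one.1 (hj.pow_right i)) ▸
        Nat.dvd_gcd (orderOf_dvd_of_pow_eq_one h') (hi ▸ dvd_rfl))
    exact (orderOf_eq_one_iff.1 h'' : Additive.toMul (r v) = 1)
  have hnn : n * n = 0 := by
    refine AddMonoidHom.ext fun v => ?_
    have h := hα (Additive.toMul v)
    rw [← div_eq_mul_inv] at h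
    show T α (T α v - v) - (T α v - v) = 0
    exact sub_eq_zero.2 h
  have hTα : T α = 1 + n := by rw [hn, add_sub_cancel]
  have hTinv : T α⁻¹ = 1 - n := by
    have e1 : T α⁻¹ * T α = 1 := by rw [← map_mul, inv_mul_cancel, map_one]
    calc T α⁻¹ = T α⁻¹ * ((1 + n) * (1 - n)) := by
          rw [(fun r : AddMonoid.End (Additive V) => by rw [mul_sub, mul_one, add_mul, one_mul]; abel :
            ∀ r : AddMonoid.End (Additive V), (1 + r) * (1 - r) = 1 - r * r) n, hnn, sub_zero, mul_one]
      _ = 1 - n := by rw [← mul_assoc, ← hTα, e1, one_mul]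
  have key := ring_commute (n := n) (k := T k) (m := m)
    (fun r hr => htor 2 ((Nat.coprime_primes Nat.prime_two hp.out).2 (Ne.symm hp2)) r
      (by rw [Nat.cast_ofNat]; exact hr))
    (htor m hm) hnn
    (by rw [← hTα, ← hTinv, ← map_mul, ← map_mul]; exact h1.map T)
    (by rw [← hTα, ← hTinv, ← map_mul, ← map_mul]; exact h2.map T)
    (by rw [← map_pow, hk, map_one])
  have hTc : T α * T k = T k * T α := by rw [hTα, add_mul, mul_add, one_mul, mul_one, key]
  show α * k = k * α
  ext v
  exact DFunLike.congr_fun hTc (Additive.ofMul v)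

variable {G : Type*} [Group G]

/-- The kernel of the action on `B / N`. -/
theorem commutator_act [Finite G] [hp : Fact p.Prime] (hp2 : p ≠ 2) (U B N : Subgroup G) [B.Normal]
    [N.Normal] (hB : IsPGroup p B) (hBB : ⁅B, B⁆ ≤ N) (hBU : ⁅B, U⁆ ≤ N) {a x : G} {m : ℕ}
    (hm : m.Coprime p) (hxm : x ^ m ∈ U) (h1 : ⁅a * x * a⁻¹, x⁆ ∈ U) (h2 : ⁅a⁻¹ * x * a, x⁆ ∈ U)
    (hq : ⁅⁅B, Subgroup.zpowers a⁆, Subgroup.zpowers a⁆ ≤ N) :
    ∀ y ∈ B, ⁅⁅a, x⁆, y⁆ ∈ N := by
  set f := QuotientGroup.mk' N with hf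
  set V := B.map f with hV
  haveI : V.Normal := ‹B.Normal›.map f (QuotientGroup.mk'_surjective N)
  have hfN : ∀ {g : G}, f g = 1 ↔ g ∈ N := fun {g} => QuotientGroup.eq_one_iff g
  have hc : ∀ u v : V, u * v = v * u := by
    rintro ⟨_, u, hu, rfl⟩ ⟨_, v, hv, rfl⟩
    apply Subtype.ext
    change f u * f v = f v * f u
    rw [← commutatorElement_eq_one_iff_mul_comm, ← map_commutatorElement, hfN]
    exact hBB (Subgroup.commutator_mem_commutator hu hv)
  letI : CommGroup V := { (inferInstance : Group V) with mul_comm := hc }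
  set ρ : G →* MulAut V := (MulAut.conjNormal (H := V)).comp f with hρ
  have hρv : ∀ (g : G) (y : G) (hy : y ∈ B),
      (ρ g ⟨f y, Subgroup.mem_map_of_mem f hy⟩ : G ⧸ N) = f (g * y * g⁻¹) := by
    intro g y hy
    rw [hρ, MonoidHom.comp_apply, MulAut.conjNormal_apply, map_mul, map_mul, map_inv]
  have hU : ∀ g ∈ U, ρ g = 1 := by
    intro g hg
    refine MulEquiv.ext ?_
    rintro ⟨_, y, hy, rfl⟩
    apply Subtype.ext
    rw [hρv g y hy, MulAut.one_apply]
    change f (g * y * g⁻¹) = f y
    have h : f ⁅y, g⁆ = 1 := hfN.2 (hBU (Subgroup.commutator_mem_commutator hy hg))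
    rw [map_commutatorElement, commutatorElement_eq_one_iff_mul_comm] at h
    rw [map_mul, map_mul, map_inv, ← h, mul_inv_cancel_right]
  have hα : ∀ v, ρ a (ρ a v * v⁻¹) = ρ a v * v⁻¹ := by
    rintro ⟨_, y, hy, rfl⟩
    apply Subtype.ext
    have e : (ρ a ⟨f y, Subgroup.mem_map_of_mem f hy⟩ * (⟨f y, Subgroup.mem_map_of_mem f hy⟩ : V)⁻¹ : V)
        = ⟨f (a * y * a⁻¹ * y⁻¹), Subgroup.mem_map_of_mem f
          (B.mul_mem (‹B.Normal›.conj_mem y hy a) (B.inv_mem hy))⟩ := by
      apply Subtype.ext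
      rw [Subgroup.coe_mul, hρv a y hy, Subgroup.coe_inv, ← map_inv, ← map_mul]
    rw [e, hρv _ _ (B.mul_mem (‹B.Normal›.conj_mem y hy a) (B.inv_mem hy))]
    change f (a * (a * y * a⁻¹ * y⁻¹) * a⁻¹) = f (a * y * a⁻¹ * y⁻¹)
    have h : f ⁅a * y * a⁻¹ * y⁻¹, a⁆ = 1 := by
      refine hfN.2 (hq (Subgroup.commutator_mem_commutator ?_ (Subgroup.mem_zpowers a)))
      rw [show a * y * a⁻¹ * y⁻¹ = ⁅a, y⁆ by rw [commutatorElement_def], ← commutatorElement_inv]
      exact Subgroup.inv_mem _ (Subgroup.commutator_mem_commutator hy (Subgroup.mem_zpowers a))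
    rw [map_commutatorElement, commutatorElement_eq_one_iff_mul_comm] at h
    rw [map_mul _ _ a⁻¹, map_mul f a, map_inv, ← h, mul_inv_cancel_right]
  have hcomm := act_commute hp2 (hB.map f) (ρ a) (ρ x) hα
    (by rw [← map_inv, ← map_mul, ← map_mul, ← commutatorElement_eq_one_iff_commute,
      ← map_commutatorElement]; exact hU _ h1)
    (by rw [← map_inv, ← map_mul, ← map_mul, ← commutatorElement_eq_one_iff_commute,
      ← map_commutatorElement]; exact hU _ h2)
    hm (by rw [← map_pow]; exact hU _ hxm)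
  intro y hy
  rw [← commutatorElement_eq_one_iff_commute, ← map_commutatorElement] at hcomm
  have h : f (⁅a, x⁆ * y * ⁅a, x⁆⁻¹) = f y := by
    rw [← hρv ⁅a, x⁆ y hy, hcomm]; rfl
  rw [← hfN, commutatorElement_def ⁅a, x⁆ y, map_mul, h, map_inv, mul_inv_cancel]

/-- An element of order prime to `p` centralizing `N` and `B / N` centralizes `B`. -/
theorem mem_centralizer_of_factor [Finite G] [hp : Fact p.Prime] {B N : Subgroup G}
    (hB : IsPGroup p B) (hNB : N ≤ B) {x : G} (hx : (orderOf x).Coprime p)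
    (hxN : x ∈ Subgroup.centralizer (N : Set G)) (h : ∀ y ∈ B, y⁻¹ * (x * y * x⁻¹) ∈ N) :
    x ∈ Subgroup.centralizer (B : Set G) := by
  intro y hy
  set v := y⁻¹ * (x * y * x⁻¹) with hvdef
  have hv : v ∈ N := h y hy
  have hxy : x * y * x⁻¹ = y * v := by rw [hvdef]; group
  have hxv : x * v * x⁻¹ = v := by rw [← hxN v hv, mul_inv_cancel_right]
  have hn : ∀ n : ℕ, x ^ n * y * (x ^ n)⁻¹ = y * v ^ n := by
    intro n
    induction n with
    | zero => simp
    | succ n ih =>
      calc x ^ (n + 1) * y * (x ^ (n + 1))⁻¹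
          = x * (x ^ n * y * (x ^ n)⁻¹) * x⁻¹ := by rw [pow_succ']; group
        _ = (x * y * x⁻¹) * (x * v ^ n * x⁻¹) := by rw [ih]; group
        _ = y * v ^ (n + 1) := by rw [hxy, ← conj_pow, hxv, pow_succ', mul_assoc]
  have h1 : v ^ orderOf x = 1 := by
    have := hn (orderOf x)
    rw [pow_orderOf_eq_one, one_mul, inv_one, mul_one, left_eq_mul] at this
    exact this
  have h2 : v = 1 := PBasic.eq_one_of_isPGroup_of_coprime hB (hNB hv)
    (Nat.Coprime.coprime_dvd_left (orderOf_dvd_of_pow_eq_one h1) hx)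
  rw [h2, mul_one, mul_inv_eq_iff_eq_mul] at hxy
  exact hxy.symm

/-- The kernel of `B / N` meets `stab N` inside `stab B`. -/
theorem mem_stab_of_factor [Finite G] [hp : Fact p.Prime] {B N : Subgroup G} [B.Normal] [N.Normal]
    (hB : IsPGroup p B) (hNB : N ≤ B) {c : G} (hc : c ∈ ZJ.stab p N)
    (hcB : ∀ y ∈ B, ⁅c, y⁆ ∈ N) : c ∈ ZJ.stab p B := by
  set f := QuotientGroup.mk' N with hf
  haveI : (B.map f).Normal := ‹B.Normal›.map f (QuotientGroup.mk'_surjective N)
  set X := ZJ.stab p N ⊓ (Subgroup.centralizer (B.map f : Set (G ⧸ N))).comap f with hX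
  haveI : X.Normal := Subgroup.normal_inf_normal _ _
  have hcX : c ∈ X := by
    refine ⟨hc, ?_⟩
    rintro _ ⟨y, hy, rfl⟩
    have h : f ⁅c, y⁆ = 1 := (QuotientGroup.eq_one_iff _).2 (hcB y hy)
    rw [map_commutatorElement, commutatorElement_eq_one_iff_mul_comm] at h
    exact h.symm
  have hXC : ∀ x ∈ X, (orderOf x).Coprime p → x ∈ Subgroup.centralizer (B : Set G) := by
    intro x hx hxo
    refine mem_centralizer_of_factor hB hNB hxo ?_ fun y hy => ?_
    · rw [← QuotientGroup.eq_one_iff]
      exact PBasic.eq_one_of_isPGroup_of_coprime (PBasic.pCore_isPGroup p _) hx.1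
        (Nat.Coprime.coprime_dvd_left
          (orderOf_map_dvd (QuotientGroup.mk' (Subgroup.centralizer (N : Set G))) x) hxo)
    · have h := hx.2 (f y) (Subgroup.mem_map_of_mem f hy)
      rw [← QuotientGroup.eq_one_iff]
      change f (y⁻¹ * (x * y * x⁻¹)) = 1
      rw [map_mul, map_mul, map_mul, map_inv, map_inv, ← h, mul_inv_cancel_right, inv_mul_cancel]
  refine (show X ≤ ZJ.stab p B from ?_) hcX
  rw [ZJ.stab, ← Subgroup.map_le_iff_le_comap]
  refine PBasic.le_pCore (Subgroup.Normal.map inferInstance _ (QuotientGroup.mk'_surjective _)) ?_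
  refine PBasic.isPGroup_iff_forall_coprime.2 ?_
  intro y ho
  obtain ⟨x, hx, hxy⟩ := y.2
  rw [← Subgroup.orderOf_coe, ← hxy] at ho
  obtain ⟨u, v, huv, -, hv, ⟨k, hk⟩, hvo⟩ := PBasic.exists_pPart_mul (p := p) x
  have hvX : v ∈ X := Subgroup.zpowers_le.2 hx hv
  have hu1 : QuotientGroup.mk' (Subgroup.centralizer (B : Set G)) v = 1 :=
    (QuotientGroup.eq_one_iff _).2 (hXC v hvX hvo)
  rw [← huv, map_mul, hu1, mul_one] at ho
  have hu2 : orderOf (QuotientGroup.mk' (Subgroup.centralizer (B : Set G)) u) = 1 := by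
    obtain ⟨i, -, hi⟩ := (Nat.dvd_prime_pow hp.out).1 (hk ▸
      orderOf_map_dvd (QuotientGroup.mk' (Subgroup.centralizer (B : Set G))) u)
    rw [hi] at ho ⊢
    rcases Nat.eq_zero_or_pos i with hi0 | hi0
    · rw [hi0, pow_zero]
    · exact absurd ((Nat.coprime_pow_left_iff hi0 p p).1 ho)
        (fun h => hp.out.one_lt.ne' ((Nat.coprime_self p).1 h))
  apply Subtype.ext
  rw [← hxy, ← huv, map_mul, hu1, mul_one, orderOf_eq_one_iff.1 hu2]
  rfl

/-- An abelian normal `p`-complement modulo `O_p(G)` gives the stability used by the `ZJ`-theorem. -/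
theorem isQuad_of_abelian_residual [Finite G] [hp : Fact p.Prime] (hp2 : p ≠ 2)
    (hbar : Cfsg.HasNormalPComplement p (G ⧸ Cfsg.pCore p G))
    (hK : ∀ x ∈ Cfsg.pResidual p (G ⧸ Cfsg.pCore p G),
      ∀ y ∈ Cfsg.pResidual p (G ⧸ Cfsg.pCore p G), x * y = y * x) : ZJ.IsQuad p G := by
  intro B _ a hB ha hq
  set U := Cfsg.pCore p G with hU
  set f := QuotientGroup.mk' U with hf
  haveI hRn := PBasic.pResidual_normal_inst p G
  have hBU : B ≤ U := PBasic.le_pCore ‹B.Normal› hB
  have key : ∀ x ∈ Cfsg.pResidual p G, ⁅a, x⁆ ∈ ZJ.stab p B := by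
    intro x hx
    obtain ⟨m, hm, hxm⟩ : ∃ m : ℕ, m.Coprime p ∧ x ^ m ∈ U := by
      refine ⟨orderOf (f x), (PBasic.mem_pResidual_iff hbar).1
        (PBasic.map_pResidual_le f (Subgroup.mem_map_of_mem f hx)), ?_⟩
      rw [← QuotientGroup.eq_one_iff]
      change f (x ^ orderOf (f x)) = 1
      rw [map_pow, pow_orderOf_eq_one]
    have hcU : ∀ g : G, ⁅g * x * g⁻¹, x⁆ ∈ U := by
      intro g
      rw [← QuotientGroup.eq_one_iff]
      change f ⁅g * x * g⁻¹, x⁆ = 1
      rw [map_commutatorElement, commutatorElement_eq_one_iff_mul_comm]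
      exact hK _ (PBasic.map_pResidual_le f (Subgroup.mem_map_of_mem f (hRn.conj_mem x hx g))) _
        (PBasic.map_pResidual_le f (Subgroup.mem_map_of_mem f hx))
    suffices H : ∀ (Y : Subgroup G) [Y.Normal], Y ≤ B → ⁅a, x⁆ ∈ ZJ.stab p Y from H B le_rfl
    intro Y
    induction hn : Nat.card Y using Nat.strong_induction_on generalizing Y with
    | _ n ih =>
      intro _ hYB
      by_cases hY1 : Y = ⊥
      · rw [ZJ.stab, Subgroup.mem_comap]
        have h : (QuotientGroup.mk' (Subgroup.centralizer (Y : Set G))) ⁅a, x⁆ = 1 := by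
          refine (QuotientGroup.eq_one_iff _).2 fun y hy => ?_
          rw [hY1, SetLike.mem_coe, Subgroup.mem_bot] at hy
          rw [hy, one_mul, mul_one]
        rw [h]; exact one_mem _
      obtain ⟨N, ⟨hNn, hNY⟩, hNmax⟩ := Set.exists_max_image
        {N : Subgroup G | N.Normal ∧ N < Y} (fun N => Nat.card N) (Set.toFinite _)
        ⟨⊥, inferInstance, bot_lt_iff_ne_bot.2 hY1⟩
      haveI := hNn
      have hYU : Y ≤ U := hYB.trans hBU
      have hfac : ∀ C : Subgroup G, [C.Normal] → C ≤ U → ⁅Y, C⁆ ≤ N := by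
        intro C _ hCU
        by_contra hnle
        have hle : ⁅Y, C⁆ ⊔ N ≤ Y := sup_le (Subgroup.commutator_le_left Y C) hNY.le
        have heq : ⁅Y, C⁆ ⊔ N = Y := by
          rcases eq_or_lt_of_le hle with h | h
          · exact h
          refine absurd (hNmax _ ⟨Subgroup.sup_normal _ _, h⟩) (not_le.2 ?_)
          exact Set.ncard_lt_ncard (SetLike.coe_ssubset_coe.2
            (lt_of_le_of_ne le_sup_right fun h' => hnle (h' ▸ le_sup_left))) (Set.toFinite _)
        refine hNY.not_ge (Fusion.le_of_le_commutator_sup (PBasic.pCore_isPGroup p G).isNilpotent hYU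
          (hNY.le.trans hYU) (by rw [Subgroup.normalizer_eq_top]; exact le_top) ?_)
        exact heq.ge.trans (sup_le_sup_right (Subgroup.commutator_mono le_rfl hCU) N)
      refine mem_stab_of_factor (hB.to_le hYB) hNY.le
        (ih _ (hn ▸ Set.ncard_lt_ncard (SetLike.coe_ssubset_coe.2 hNY) (Set.toFinite _)) N rfl
          (hNY.le.trans hYB)) ?_
      refine commutator_act hp2 U Y N (hB.to_le hYB) (hfac Y hYU) (hfac U le_rfl) hm hxm (hcU a)
        (by simpa using hcU a⁻¹) ?_
      exact (Subgroup.commutator_mono (Subgroup.commutator_mono hYB le_rfl) le_rfl).trans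
        (hq.le.trans bot_le)
  -- `a` centralizes the residual modulo `stab`
  set g1 := QuotientGroup.mk' (Subgroup.centralizer (B : Set G)) with hg1
  set Hq := G ⧸ Subgroup.centralizer (B : Set G) with hHq
  set g2 := QuotientGroup.mk' (Cfsg.pCore p Hq) with hg2
  set g := g2.comp g1 with hg
  have hgs : Function.Surjective g :=
    (QuotientGroup.mk'_surjective _).comp (QuotientGroup.mk'_surjective _)
  have hgstab : ∀ c, c ∈ ZJ.stab p B → g c = 1 := fun c hc => (QuotientGroup.eq_one_iff _).2 hc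
  obtain ⟨S, hS⟩ := (ha.map g).exists_le_sylow
  set K := Cfsg.pResidual p (Hq ⧸ Cfsg.pCore p Hq) with hKdef
  have hKeq : (Cfsg.pResidual p G).map g = K := PBasic.map_pResidual_eq g hgs
  set X := (S : Subgroup (Hq ⧸ Cfsg.pCore p Hq)) ⊓ Subgroup.centralizer (K : Set _) with hXdef
  have hXn : X.Normal := by
    rw [← Subgroup.normalizer_eq_top_iff, eq_top_iff, ← PBasic.sylow_sup_pResidual S]
    refine sup_le ?_ ?_
    · refine le_trans (le_inf Subgroup.le_normalizer ?_) Subgroup.inf_normalizer_le_normalizer_inf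
      haveI := PBasic.pResidual_normal_inst p (Hq ⧸ Cfsg.pCore p Hq)
      rw [Subgroup.normalizer_eq_top]; exact le_top
    · refine le_trans ?_ (Subgroup.centralizer_le_normalizer _)
      intro k hk s hs
      exact ((Subgroup.mem_inf.1 hs).2 k hk).symm
  have hX1 : X ≤ ⊥ :=
    PBasic.pCore_quotient_pCore p Hq ▸ PBasic.le_pCore hXn S.isPGroup'.to_inf_left
  have haX : g a ∈ X := by
    refine ⟨hS (Subgroup.mem_map_of_mem g (Subgroup.mem_zpowers a)), ?_⟩
    rw [← hKeq]
    rintro _ ⟨x, hx, rfl⟩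
    have h := hgstab _ (key x hx)
    rw [map_commutatorElement, commutatorElement_eq_one_iff_mul_comm] at h
    exact h.symm
  exact (QuotientGroup.eq_one_iff _).1 (Subgroup.mem_bot.1 (hX1 haX))

theorem exists_normal_pSubgroup [Finite G] [hp : Fact p.Prime] (e : Prop) (P : Sylow p G)
    (hJ : Cfsg.HasNormalPComplement p
      (Subgroup.normalizer (ZJ.zJ p e (P : Subgroup G) : Set G)))
    (hIH : ∀ K : Subgroup G, K ≠ ⊤ → ∀ S : Sylow p K,
      Cfsg.HasNormalPComplement p
        (Subgroup.normalizer (ZJ.zJ p e (S : Subgroup K) : Set K)) →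
      Cfsg.HasNormalPComplement p K)
    (hG : ¬ Cfsg.HasNormalPComplement p G) :
    ∃ U : Subgroup G, U.Normal ∧ IsPGroup p U ∧ U ≠ ⊥ := by
  classical
  have hbad : ∃ U : Subgroup G, IsPGroup p U ∧
      ¬ Cfsg.HasNormalPComplement p (Subgroup.normalizer (U : Set G)) ∧ U ≠ ⊥ := by
    by_contra h
    push Not at h
    refine hG (Fusion.hasNormalPComplement_of_frobenius fun D hD g hg hgo => ?_)
    by_cases hD1 : D = ⊥
    · intro x hx
      rw [hD1] at hx
      rw [Subgroup.mem_bot.1 hx, one_mul, mul_one]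
    · refine Fusion.mem_centralizer_of_hasNormalPComplement hD ?_ hg hgo
      by_contra hn
      exact hD1 (h D hD hn)
  obtain ⟨U, ⟨hUp, hUn, hU1⟩, hmax⟩ := Set.exists_max_image
    {U : Subgroup G | IsPGroup p U ∧
      ¬ Cfsg.HasNormalPComplement p (Subgroup.normalizer (U : Set G)) ∧ U ≠ ⊥}
    (fun U => (Nat.card (Subgroup.normalizer (U : Set G))).factorization p) (Set.toFinite _) hbad
  obtain ⟨S⟩ : Nonempty (Sylow p (Subgroup.normalizer (U : Set G))) := inferInstance
  obtain ⟨R, hR⟩ := (S.isPGroup'.map (Subgroup.normalizer (U : Set G)).subtype).exists_le_sylow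
  obtain ⟨g, hg⟩ := MulAction.exists_smul_eq G R P
  set c := (MulAut.conj g).toMonoidHom with hc
  set U' := U.map c with hU'
  have hN' : (Subgroup.normalizer (U : Set G)).map c = Subgroup.normalizer (U' : Set G) :=
    Subgroup.map_equiv_normalizer_eq U (MulAut.conj g)
  set N := Subgroup.normalizer (U' : Set G) with hN
  set S' := ((S : Subgroup _).map (Subgroup.normalizer (U : Set G)).subtype).map c with hS'
  have hS'P : S' ≤ (P : Subgroup G) := by
    rw [← hg, Sylow.coe_subgroup_smul]
    exact Subgroup.map_mono hR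
  have hS'N : S' ≤ N := hN' ▸ Subgroup.map_mono (Subgroup.map_subtype_le _)
  have hS'p : IsPGroup p S' := P.isPGroup'.to_le hS'P
  have hcardN : Nat.card N = Nat.card (Subgroup.normalizer (U : Set G)) := by
    rw [← hN', Subgroup.card_map_of_injective (f := c) (MulAut.conj g).injective]
  have hcardS' : Nat.card S' = p ^ (Nat.card N).factorization p := by
    rw [hS', Subgroup.card_map_of_injective (f := c) (MulAut.conj g).injective,
      Subgroup.card_map_of_injective Subtype.coe_injective, hcardN, ← S.card_eq_multiplicity]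
  have hU'bad : ¬ Cfsg.HasNormalPComplement p N := by
    rw [← hN', ← PBasic.hasNormalPComplement_congr
      (Subgroup.equivMapOfInjective _ c (MulAut.conj g).injective)]
    exact hUn
  have hU'p : IsPGroup p U' := hUp.map c
  have hU'1 : U' ≠ ⊥ := by
    rw [hU', Ne, Subgroup.map_eq_bot_iff_of_injective _ (f := c) (MulAut.conj g).injective]
    exact hU1
  let SN : Sylow p N := Sylow.ofCard (S'.subgroupOf N) (by
    rw [Nat.card_congr (Subgroup.subgroupOfEquivOfLe hS'N).toEquiv, hcardS'])
  have hSNmap : (SN : Subgroup N).map N.subtype = S' := Subgroup.map_subgroupOf_eq_of_le hS'N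
  by_cases hNtop : N = ⊤
  · exact ⟨U', Subgroup.normalizer_eq_top_iff.1 hNtop, hU'p, hU'1⟩
  exfalso
  apply hU'bad
  have key : Cfsg.HasNormalPComplement p (Subgroup.normalizer (ZJ.zJ p e S' : Set G)) := by
    rcases eq_or_lt_of_le hS'P with heq | hlt
    · rw [heq]; exact hJ
    have hS'1 : S' ≠ ⊥ := by
      intro hbot
      have h1 : Nat.card U' ≤ Nat.card S' := by
        rw [hcardS']
        exact ThompsonNPC.pow_le_of_pSubgroup_le hU'p (hN ▸ Subgroup.le_normalizer)
      rw [hbot, Subgroup.card_bot] at h1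
      exact hU'1 (Subgroup.card_eq_one.1 (le_antisymm h1 Nat.card_pos))
    have hgrow := Fusion.lt_inf_normalizer (Fusion.sylow_isNilpotent P) hlt
    set W := ZJ.zJ p e S' with hW
    have hW1 : W ≠ ⊥ := fun h => ZJ.zCore_ne_bot (e := e) hS'p hS'1
      (le_bot_iff.1 (h ▸ ZJ.zCore_le_zJ S'))
    by_contra hn
    have h1 : (Nat.card (Subgroup.normalizer (W : Set G))).factorization p ≤
        (Nat.card (Subgroup.normalizer (U : Set G))).factorization p :=
      hmax W ⟨hS'p.to_le (ZJ.zJ_le S'), hn, hW1⟩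
    rw [← hcardN] at h1
    have h2 := ThompsonNPC.pow_le_of_pSubgroup_le (p := p) (P.isPGroup'.to_inf_left
      (K := Subgroup.normalizer (S' : Set G))) (inf_le_right.trans (ZJ.normalizer_le_normalizer_zJ (p := p) (e := e) S'))
    have h3 : Nat.card S' < Nat.card ↥((P : Subgroup G) ⊓ Subgroup.normalizer (S' : Set G)) :=
      Set.ncard_lt_ncard (SetLike.coe_ssubset_coe.2 hgrow) (Set.toFinite _)
    rw [hcardS'] at h3
    exact absurd (h3.trans_le (h2.trans (Nat.pow_le_pow_right hp.out.pos h1))) (lt_irrefl _)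
  refine hU'bad ?_ |>.elim
  refine hIH N hNtop SN (ThompsonNPC.npc_normalizer_of_injective N.subtype Subtype.coe_injective _ ?_)
  rw [ZJ.zJ_map N.subtype N.subtype_injective.injOn, hSNmap]
  exact key

/-- **The normal `p`-complement theorem of Glauberman and Thompson.** -/
theorem hasNormalPComplement_of_zJ {G : Type u} [Group G] [Finite G] [hp : Fact p.Prime]
    (hp2 : p ≠ 2) (e : Prop) (P : Sylow p G)
    (hJ : Cfsg.HasNormalPComplement p
      (Subgroup.normalizer (ZJ.zJ p e (P : Subgroup G) : Set G))) :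
    Cfsg.HasNormalPComplement p G := by
  suffices h : ∀ n : ℕ, ∀ (G : Type u) [Group G] [Finite G], Nat.card G = n → ∀ P : Sylow p G,
      Cfsg.HasNormalPComplement p
        (Subgroup.normalizer (ZJ.zJ p e (P : Subgroup G) : Set G)) →
      Cfsg.HasNormalPComplement p G from h _ G rfl P hJ
  intro n
  induction n using Nat.strong_induction_on with
  | _ n ih =>
    intro G _ _ hn P hJ
    by_contra hG
    have hIH : ∀ K : Subgroup G, K ≠ ⊤ → ∀ S : Sylow p K,
        Cfsg.HasNormalPComplement p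
          (Subgroup.normalizer (ZJ.zJ p e (S : Subgroup K) : Set K)) →
        Cfsg.HasNormalPComplement p K := by
      intro K hK S h1
      refine ih _ ?_ K rfl S h1
      rw [← hn]
      exact lt_of_le_of_ne (Subgroup.card_le_card_group K) (fun h => hK (Subgroup.eq_top_of_card_eq K h))
    obtain ⟨U0, hU0n, hU0p, hU01⟩ := exists_normal_pSubgroup e P hJ hIH hG
    set U := Cfsg.pCore p G with hU
    have hU1 : U ≠ ⊥ := fun h => hU01 (le_bot_iff.1 (h ▸ PBasic.le_pCore hU0n hU0p))
    have hUP : U ≤ (P : Subgroup G) := PBasic.pCore_le_sylow P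
    have hproper : ∀ L : Subgroup G, (P : Subgroup G) ≤ L → L ≠ ⊤ →
        Cfsg.HasNormalPComplement p L := by
      intro L hPL hL
      have hmap : ((P.subtype hPL : Sylow p L) : Subgroup L).map L.subtype = (P : Subgroup G) :=
        Subgroup.map_subgroupOf_eq_of_le hPL
      refine hIH L hL (P.subtype hPL)
        (ThompsonNPC.npc_normalizer_of_injective L.subtype Subtype.coe_injective _ ?_)
      rw [ZJ.zJ_map L.subtype L.subtype_injective.injOn, hmap]
      exact hJ
    -- `O_{p'}(G) = 1`
    have hM : Cfsg.pPrimeCore p G = ⊥ := by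
      by_contra hM1
      set M := Cfsg.pPrimeCore p G with hMdef
      set f := QuotientGroup.mk' M with hf
      have hfs : Function.Surjective f := QuotientGroup.mk'_surjective M
      have hker : (Nat.card f.ker).Coprime p := by
        rw [hf, QuotientGroup.ker_mk']; exact PBasic.pPrimeCore_coprime p G
      have hinj : Set.InjOn f (P : Subgroup G) := CoprimeQuotient.injOn_of_coprime_ker f hker P.isPGroup'
      have hlt : Nat.card (G ⧸ M) < n := by
        rw [← hn]
        change M.index < _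
        rw [← M.card_mul_index]
        exact lt_mul_of_one_lt_left (Nat.pos_of_ne_zero M.index_ne_zero_of_finite)
          (Subgroup.one_lt_card_iff_ne_bot M |>.2 hM1)
      have hq : Cfsg.HasNormalPComplement p (G ⧸ M) := by
        refine ih _ hlt (G ⧸ M) rfl (P.mapSurjective hfs) ?_
        rw [Sylow.coe_mapSurjective, ← ZJ.zJ_map f hinj,
          CoprimeQuotient.normalizer_map f hfs hker (P.isPGroup'.to_le (ZJ.zJ_le _))]
        exact PBasic.hasNormalPComplement_of_surjective (f.subgroupMap _)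
          (f.subgroupMap_surjective _) hJ
      apply hG
      rw [PBasic.hasNormalPComplement_iff_pResidual, PBasic.coprime_card_iff]
      intro x hx
      have h1 := (PBasic.mem_pResidual_iff hq).1 (PBasic.map_pResidual_le f (Subgroup.mem_map_of_mem f hx))
      have h2 : x ^ orderOf (f x) ∈ f.ker := by rw [MonoidHom.mem_ker, map_pow, pow_orderOf_eq_one]
      have h3 : orderOf x ∣ orderOf (f x) * Nat.card f.ker :=
        orderOf_dvd_of_pow_eq_one (by
          rw [pow_mul]
          exact congrArg Subtype.val (pow_card_eq_one' (x := (⟨_, h2⟩ : f.ker))))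
      exact Nat.Coprime.coprime_dvd_left h3 (Nat.Coprime.mul_left h1 hker)
    -- the quotient by `O_p(G)` has a normal complement
    set f := QuotientGroup.mk' U with hf
    have hfs : Function.Surjective f := QuotientGroup.mk'_surjective U
    have hO : Cfsg.pCore p (G ⧸ U) = ⊥ := PBasic.pCore_quotient_pCore p G
    have hbar : Cfsg.HasNormalPComplement p (G ⧸ U) := by
      set Pbar := P.mapSurjective hfs with hPbar
      have hPbar1 : (Pbar : Subgroup (G ⧸ U)) ≠ ⊥ := by
        intro h
        rw [hPbar, Sylow.coe_mapSurjective, Subgroup.map_eq_bot_iff, hf, QuotientGroup.ker_mk'] at h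
        have hPU : (P : Subgroup G) = U := le_antisymm h hUP
        have h1 : Subgroup.normalizer (ZJ.zJ p e (P : Subgroup G) : Set G) = ⊤ := by
          rw [hPU, eq_top_iff]
          refine le_trans ?_ (ZJ.normalizer_le_normalizer_zJ U)
          rw [Subgroup.normalizer_eq_top]
        rw [h1, PBasic.hasNormalPComplement_congr Subgroup.topEquiv] at hJ
        exact hG hJ
      refine ih _ ?_ (G ⧸ U) rfl Pbar ?_
      · rw [← hn]
        change U.index < _
        rw [← U.card_mul_index]
        exact lt_mul_of_one_lt_left (Nat.pos_of_ne_zero U.index_ne_zero_of_finite)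
          (Subgroup.one_lt_card_iff_ne_bot U |>.2 hU1)
      set W := ZJ.zJ p e (Pbar : Subgroup (G ⧸ U)) with hW
      have hW1 : W ≠ ⊥ := fun h => ZJ.zCore_ne_bot (e := e) Pbar.isPGroup' hPbar1
        (le_bot_iff.1 (h ▸ ZJ.zCore_le_zJ _))
      have hWp : IsPGroup p W := Pbar.isPGroup'.to_le (ZJ.zJ_le _)
      set L := (Subgroup.normalizer (W : Set (G ⧸ U))).comap f with hL
      have hLtop : L ≠ ⊤ := by
        intro h
        have h1 : Subgroup.normalizer (W : Set (G ⧸ U)) = ⊤ := by
          rw [← Subgroup.map_comap_eq_self_of_surjective hfs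
            (Subgroup.normalizer (W : Set (G ⧸ U))), ← hL, h,
            Subgroup.map_top_of_surjective f hfs]
        exact hW1 (le_bot_iff.1 (hO ▸ PBasic.le_pCore (Subgroup.normalizer_eq_top_iff.1 h1) hWp))
      have h2 := hproper L (Subgroup.map_le_iff_le_comap.1 (ZJ.le_normalizer_zJ _)) hLtop
      have h3 := PBasic.hasNormalPComplement_of_surjective (f.subgroupMap L)
        (f.subgroupMap_surjective L) h2
      rwa [hL, Subgroup.map_comap_eq_self_of_surjective hfs] at h3
    -- `C(O_p(G)) ≤ O_p(G)`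
    have hC : Subgroup.centralizer (U : Set G) ≤ U := by
      set C := Subgroup.centralizer (U : Set G) ⊓ (Cfsg.pResidual p (G ⧸ U)).comap f with hCdef
      haveI hCn : C.Normal := Subgroup.normal_inf_normal _ _
      obtain ⟨PC, hPC⟩ := PBasic.exists_sylow_subgroupOf P C
      have hcen : ∀ x : C, x ∈ (PC : Subgroup C) → (x : G) ∈ U := by
        intro x hx
        rw [hPC] at hx
        have h1 : f (x : G) ∈ Cfsg.pResidual p (G ⧸ U) ⊓ (P.mapSurjective hfs : Subgroup (G ⧸ U)) :=
          Subgroup.mem_inf.2 ⟨(Subgroup.mem_inf.1 x.2).2, Subgroup.mem_map_of_mem f hx⟩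
        rw [PBasic.inf_eq_bot_of_coprime (PBasic.hasNormalPComplement_iff_pResidual.1 hbar)
          (P.mapSurjective hfs).isPGroup', Subgroup.mem_bot] at h1
        exact (QuotientGroup.eq_one_iff _).1 h1
      have hCnpc : Cfsg.HasNormalPComplement p C := by
        refine Fusion.hasNormalPComplement_of_normalizer_le_centralizer PC fun y _ x hx => ?_
        exact Subtype.ext ((Subgroup.mem_inf.1 y.2).1 (x : G) (hcen x hx))
      have hres : (Cfsg.pResidual p C).map C.subtype = ⊥ := by
        rw [← le_bot_iff, ← hM]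
        refine le_trans (Subgroup.map_mono ?_) (PBasic.map_pPrimeCore_le_of_normal C)
        exact (PBasic.pPrimeCore_eq_pResidual hCnpc).ge
      rw [Subgroup.map_eq_bot_iff_of_injective _ Subtype.coe_injective] at hres
      have hCp : IsPGroup p C := by
        refine PBasic.isPGroup_iff_forall_coprime.2 fun x hx => ?_
        rw [← Subgroup.mem_bot, ← hres]
        exact PBasic.mem_pResidual hx
      have hCU : C ≤ U := PBasic.le_pCore hCn hCp
      haveI : ((Subgroup.centralizer (U : Set G)).map f).Normal :=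
        Subgroup.Normal.map inferInstance f hfs
      have h1 : (Subgroup.centralizer (U : Set G)).map f = ⊥ := by
        refine ThompsonNPC.eq_bot_of_inf_pResidual hO _ ?_
        rw [Subgroup.eq_bot_iff_forall]
        rintro _ ⟨⟨g, hg, rfl⟩, h2⟩
        exact (QuotientGroup.eq_one_iff g).2 (hCU ⟨hg, h2⟩)
      rwa [Subgroup.map_eq_bot_iff, hf, QuotientGroup.ker_mk'] at h1
    -- `P` is maximal
    have hmax : ∀ L : Subgroup G, (P : Subgroup G) ≤ L → L ≠ ⊤ → L = (P : Subgroup G) := by
      intro L hPL hL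
      have hnpc := hproper L hPL hL
      refine P.is_maximal' ?_ hPL
      refine PBasic.isPGroup_iff_forall_coprime.2 fun x hx => ?_
      have h1 : (x : G) ∈ Subgroup.centralizer (U : Set G) := by
        intro u hu
        have hu' : u ∈ L := hPL (hUP hu)
        have h2 : (⟨u, hu'⟩ : L) * x * (⟨u, hu'⟩ : L)⁻¹ * x⁻¹ = 1 := by
          refine PBasic.eq_one_of_isPGroup_of_coprime (p := p)
            (P := U.subgroupOf L) (PBasic.pCore_isPGroup p G).comap_subtype ?_ ?_
          · rw [Subgroup.mem_subgroupOf]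
            simp only [Subgroup.coe_mul, Subgroup.coe_inv, mul_assoc]
            refine U.mul_mem hu ?_
            simpa [mul_assoc] using (Cfsg.pCore_normal p G).conj_mem u⁻¹ (U.inv_mem hu) (x : G)
          · refine (PBasic.mem_pResidual_iff hnpc).1 ?_
            exact Subgroup.mul_mem _
              ((PBasic.pResidual_normal_inst p L).conj_mem x (PBasic.mem_pResidual hx) _)
              (Subgroup.inv_mem _ (PBasic.mem_pResidual hx))
        rw [mul_inv_eq_one, mul_inv_eq_iff_eq_mul] at h2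
        exact congrArg Subtype.val h2
      exact Subtype.ext (PBasic.eq_one_of_isPGroup_of_coprime (PBasic.pCore_isPGroup p G) (hC h1)
        (by rwa [Subgroup.orderOf_coe]))
    -- the end
    have hmaxbar : ∀ L : Subgroup (G ⧸ U), (P.mapSurjective hfs : Subgroup (G ⧸ U)) ≤ L → L ≠ ⊤ →
        L = (P.mapSurjective hfs : Subgroup (G ⧸ U)) := by
      intro L hL hLtop
      have h := hmax (L.comap f) (by rw [← Subgroup.map_le_iff_le_comap]; exact hL) (fun h => hLtop (by
        rw [← Subgroup.map_comap_eq_self_of_surjective hfs L, h,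
          Subgroup.map_top_of_surjective f hfs]))
      rw [Sylow.coe_mapSurjective, ← h, Subgroup.map_comap_eq_self_of_surjective hfs]
    have hK := ThompsonNPC.pResidual_commute_of_maximal (P.mapSurjective hfs) hbar hmaxbar
    haveI := ZJ.zJ_normal hp2 (isQuad_of_abelian_residual hp2 hbar hK) hC P e
    rw [Subgroup.normalizer_eq_top, PBasic.hasNormalPComplement_congr Subgroup.topEquiv] at hJ
    exact hG hJ

end Cfsg.Agent.ZJNPC
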