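import Mathlib.GroupTheory.Solvable
import Mathlib.GroupTheory.QuotientGroup.Basic
import Mathlib.GroupTheory.Transfer
import Mathlib.Data.Fin.Tuple.Basic
import Cfsg.Prelude.Def_Local
import Cfsg.Agent.Lib.Transfer.Fusion

/-!
`p`-soluble groups: closure properties, Hall–Higman 1.2.3, `p`-constraint.
-/

set_option autoImplicit false
set_option linter.style.haveILetI false

open scoped Pointwise

namespace Cfsg.Agent.PSolvable

open Cfsg.Agent

universe u

variable {G : Type*} [Group G] {H : Type*} [Group H] {p : ℕ}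

theorem relIndex_map_dvd (f : G →* H) (A B : Subgroup G) :
    (A.map f).relIndex (B.map f) ∣ A.relIndex B := by
  have h1 : (B.map f) = (f.comp B.subtype).range := by
    rw [MonoidHom.range_comp, Subgroup.range_subtype]
  rw [h1, ← Subgroup.index_comap]
  refine Subgroup.index_dvd_of_le fun x hx => ?_
  exact Subgroup.mem_map_of_mem f hx

theorem relIndex_inf_dvd_of_normal {A : Subgroup G} [hA : A.Normal] {B : Subgroup G} (R : Subgroup G) :
    A.relIndex (B ⊓ R) ∣ A.relIndex B := by
  have h := Subgroup.relIndex_dvd_index_of_normal (A.subgroupOf B) ((B ⊓ R).subgroupOf B)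
  rwa [Subgroup.relIndex_subgroupOf inf_le_left] at h

theorem of_surjective (f : G →* H) (hf : Function.Surjective f) [hp : Fact p.Prime]
    (h : Cfsg.IsPSolvable p G) : Cfsg.IsPSolvable p H := by
  obtain ⟨n, K, h0, hlast, hmono, hnorm, hfac⟩ := h
  refine ⟨n, fun i => (K i).map f, by simp [h0], ?_, fun i j hij => Subgroup.map_mono (hmono hij),
    fun i => (hnorm i).map f hf, fun i => ?_⟩
  · change (K (Fin.last n)).map f = ⊤
    rw [hlast, Subgroup.map_top_of_surjective f hf]
  · rcases hfac i with ⟨m, hm⟩ | hc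
    · obtain ⟨j, -, hj⟩ := (Nat.dvd_prime_pow hp.out).1
        (hm ▸ relIndex_map_dvd f (K i.castSucc) (K i.succ))
      exact Or.inl ⟨j, hj⟩
    · exact Or.inr (Nat.Coprime.coprime_dvd_left (relIndex_map_dvd f _ _) hc)

theorem of_injective (f : H →* G) (hf : Function.Injective f) [hp : Fact p.Prime]
    (h : Cfsg.IsPSolvable p G) :
    Cfsg.IsPSolvable p H := by
  obtain ⟨n, K, h0, hlast, hmono, hnorm, hfac⟩ := h
  refine ⟨n, fun i => (K i).comap f, by simp [h0, (MonoidHom.ker_eq_bot_iff f).2 hf], by simp [hlast],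
    fun i j hij => Subgroup.comap_mono (hmono hij), fun i => (hnorm i).comap f, fun i => ?_⟩
  have hdvd : ((K i.castSucc).comap f).relIndex ((K i.succ).comap f) ∣
      (K i.castSucc).relIndex (K i.succ) := by
    rw [Subgroup.relIndex_comap, Subgroup.map_comap_eq, inf_comm]
    haveI := hnorm i.castSucc
    exact relIndex_inf_dvd_of_normal f.range
  rcases hfac i with ⟨m, hm⟩ | hc
  · obtain ⟨j, -, hj⟩ := (Nat.dvd_prime_pow hp.out).1 (hm ▸ hdvd)
    exact Or.inl ⟨j, hj⟩
  · exact Or.inr (Nat.Coprime.coprime_dvd_left hdvd hc)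

theorem subgroup (K : Subgroup G) [Fact p.Prime] (h : Cfsg.IsPSolvable p G) :
    Cfsg.IsPSolvable p K :=
  of_injective K.subtype Subtype.coe_injective h

theorem quotient (N : Subgroup G) [N.Normal] [Fact p.Prime] (h : Cfsg.IsPSolvable p G) :
    Cfsg.IsPSolvable p (G ⧸ N) :=
  of_surjective _ (QuotientGroup.mk'_surjective N) h

theorem congr (e : G ≃* H) [Fact p.Prime] : Cfsg.IsPSolvable p G ↔ Cfsg.IsPSolvable p H :=
  ⟨of_surjective e.toMonoidHom e.surjective, of_surjective e.symm.toMonoidHom e.symm.surjective⟩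

theorem of_card_cases [Finite G] [Fact p.Prime]
    (h : (∃ m, Nat.card G = p ^ m) ∨ (Nat.card G).Coprime p) : Cfsg.IsPSolvable p G := by
  refine ⟨1, ![⊥, ⊤], rfl, rfl, ?_, ?_, ?_⟩
  · intro i j hij
    fin_cases i <;> fin_cases j <;> simp_all
  · intro i
    fin_cases i
    · exact (inferInstance : (⊥ : Subgroup G).Normal)
    · exact (inferInstance : (⊤ : Subgroup G).Normal)
  · intro i
    fin_cases i
    simpa [Subgroup.relIndex_bot_left] using h

theorem of_isPGroup [Finite G] [Fact p.Prime] (h : IsPGroup p G) : Cfsg.IsPSolvable p G :=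
  of_card_cases (Or.inl (IsPGroup.iff_card.1 h))

theorem of_coprime [Finite G] [Fact p.Prime] (h : (Nat.card G).Coprime p) :
    Cfsg.IsPSolvable p G :=
  of_card_cases (Or.inr h)

/-- Prepend a normal `p`- or `p'`-subgroup. -/
theorem of_quotient (N : Subgroup G) [hN : N.Normal] [Fact p.Prime]
    (hNc : (∃ m, Nat.card N = p ^ m) ∨ (Nat.card N).Coprime p) (h : Cfsg.IsPSolvable p (G ⧸ N)) :
    Cfsg.IsPSolvable p G := by
  obtain ⟨n, K, h0, hlast, hmono, hnorm, hfac⟩ := h
  have hsurj := QuotientGroup.mk'_surjective N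
  have hN0 : (K 0).comap (QuotientGroup.mk' N) = N := by
    rw [h0, MonoidHom.comap_bot, QuotientGroup.ker_mk']
  let L : Fin (n + 2) → Subgroup G := Fin.cons ⊥ fun i => (K i).comap (QuotientGroup.mk' N)
  have hL0 : L 0 = ⊥ := rfl
  have hLs : ∀ i, L i.succ = (K i).comap (QuotientGroup.mk' N) := fun i => Fin.cons_succ _ _ i
  refine ⟨n + 1, L, hL0, ?_, ?_, ?_, ?_⟩
  · rw [← Fin.succ_last, hLs, hlast, Subgroup.comap_top]
  · intro i j hij
    induction i using Fin.cases with
    | zero => rw [hL0]; exact bot_le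
    | succ i =>
      induction j using Fin.cases with
      | zero => simp [Fin.le_def] at hij
      | succ j => rw [hLs, hLs]; exact Subgroup.comap_mono (hmono (Fin.succ_le_succ_iff.1 hij))
  · intro i
    induction i using Fin.cases with
    | zero => rw [hL0]; infer_instance
    | succ i => rw [hLs]; exact (hnorm i).comap _
  · intro i
    induction i using Fin.cases with
    | zero =>
      rw [Fin.castSucc_zero, hL0, hLs, hN0, Subgroup.relIndex_bot_left]
      exact hNc
    | succ i =>
      rw [← Fin.succ_castSucc, hLs, hLs, Subgroup.relIndex_comap,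
        Subgroup.map_comap_eq_self_of_surjective hsurj]
      exact hfac i

theorem exists_core_ne_bot [Finite G] [Nontrivial G] [hp : Fact p.Prime]
    (h : Cfsg.IsPSolvable p G) : Cfsg.pCore p G ≠ ⊥ ∨ Cfsg.pPrimeCore p G ≠ ⊥ := by
  obtain ⟨n, K, h0, hlast, hmono, hnorm, hfac⟩ := h
  by_contra hcon
  push Not at hcon
  have hall : ∀ i, K i = ⊥ := by
    intro i
    induction i using Fin.induction with
    | zero => exact h0
    | succ i ih =>
      have hi := hfac i
      rw [ih, Subgroup.relIndex_bot_left] at hi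
      rcases hi with ⟨m, hm⟩ | hc
      · exact le_bot_iff.1 (hcon.1 ▸ PBasic.le_pCore (hnorm _) (IsPGroup.of_card hm))
      · exact le_bot_iff.1 (hcon.2 ▸ PBasic.le_pPrimeCore (hnorm _) hc)
  exact top_ne_bot (α := Subgroup G) (hlast ▸ hall _)

/-- An extension of `p`-soluble groups is `p`-soluble. -/
theorem of_extension {G : Type u} [Group G] [Finite G] [hp : Fact p.Prime] (N : Subgroup G)
    [N.Normal] (hN : Cfsg.IsPSolvable p N) (hQ : Cfsg.IsPSolvable p (G ⧸ N)) :
    Cfsg.IsPSolvable p G := by
  suffices h : ∀ n : ℕ, ∀ (G : Type u) [Group G] [Finite G], Nat.card G = n → ∀ (N : Subgroup G)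
      [N.Normal], Cfsg.IsPSolvable p N → Cfsg.IsPSolvable p (G ⧸ N) → Cfsg.IsPSolvable p G from
    h _ G rfl N hN hQ
  intro n
  induction n using Nat.strong_induction_on with
  | _ n ih =>
    intro G _ _ hn N _ hN hQ
    by_cases hN1 : N = ⊥
    · subst hN1
      exact (congr (QuotientGroup.quotientBot (G := G))).1 hQ
    haveI : Nontrivial N := (Subgroup.nontrivial_iff_ne_bot N).2 hN1
    have hex : ∃ M : Subgroup G, M.Normal ∧ M ≤ N ∧ M ≠ ⊥ ∧
        ((∃ m, Nat.card M = p ^ m) ∨ (Nat.card M).Coprime p) := by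
      rcases exists_core_ne_bot hN with h | h
      · haveI := PBasic.pCore_characteristic p N
        refine ⟨(Cfsg.pCore p N).map N.subtype, inferInstance, Subgroup.map_subtype_le _, ?_,
          Or.inl (IsPGroup.iff_card.1 ((PBasic.pCore_isPGroup p N).map _))⟩
        rwa [Ne, Subgroup.map_eq_bot_iff_of_injective _ Subtype.coe_injective]
      · haveI := PBasic.pPrimeCore_characteristic p N
        refine ⟨(Cfsg.pPrimeCore p N).map N.subtype, inferInstance, Subgroup.map_subtype_le _, ?_,
          Or.inr (Nat.Coprime.coprime_dvd_left (Subgroup.card_map_dvd _ _)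
            (PBasic.pPrimeCore_coprime p N))⟩
        rwa [Ne, Subgroup.map_eq_bot_iff_of_injective _ Subtype.coe_injective]
    obtain ⟨M, hMn, hMN, hM1, hMc⟩ := hex
    haveI := hMn
    refine of_quotient M hMc (ih _ ?_ (G ⧸ M) rfl (N.map (QuotientGroup.mk' M)) ?_ ?_)
    · rw [← hn]
      change M.index < _
      rw [← M.card_mul_index]
      exact lt_mul_of_one_lt_left (Nat.pos_of_ne_zero M.index_ne_zero_of_finite)
        (Subgroup.one_lt_card_iff_ne_bot M |>.2 hM1)
    · exact of_surjective ((QuotientGroup.mk' M).subgroupMap N)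
        (MonoidHom.subgroupMap_surjective _ N) hN
    · exact (congr (QuotientGroup.quotientQuotientEquivQuotient M N hMN)).2 hQ

theorem of_solvable {G : Type u} [Group G] [Finite G] [hp : Fact p.Prime]
    (h : Group.IsSolvable G) : Cfsg.IsPSolvable p G := by
  suffices h' : ∀ n : ℕ, ∀ (G : Type u) [Group G] [Finite G], Nat.card G = n → Group.IsSolvable G →
      Cfsg.IsPSolvable p G from h' _ G rfl h
  intro n
  induction n using Nat.strong_induction_on with
  | _ n ih =>
    intro G _ _ hn hs
    haveI := hs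
    by_cases hGp : IsPGroup p G
    · exact of_isPGroup hGp
    by_cases hab : ∀ a b : G, a * b = b * a
    · refine of_quotient (Cfsg.pResidual p G) (Or.inr ?_) (of_isPGroup (PBasic.quotient_pResidual_isPGroup p G))
      rw [PBasic.coprime_card_iff]
      exact fun x hx => Fusion.coprime_of_mem_pResidual_of_comm hab hx
    have hG1 : Nontrivial G := by
      by_contra h
      rw [not_nontrivial_iff_subsingleton] at h
      exact hGp (IsPGroup.of_subsingleton p G)
    have hlt : commutator G < ⊤ := Group.IsSolvable.commutator_lt_top_of_nontrivial G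
    have hne : commutator G ≠ ⊥ := fun h => hab fun a b => by
      have := Subgroup.commutator_mem_commutator (Subgroup.mem_top a) (Subgroup.mem_top b)
      rw [← commutator_def, h, Subgroup.mem_bot] at this
      exact commutatorElement_eq_one_iff_mul_comm.1 this
    haveI : (commutator G).Normal := Subgroup.commutator_normal ⊤ ⊤
    refine of_extension (commutator G) (ih _ ?_ _ rfl inferInstance) (ih _ ?_ _ rfl inferInstance)
    · rw [← hn]
      exact lt_of_le_of_ne (Subgroup.card_le_card_group _)
        (fun h => hlt.ne (Subgroup.eq_top_of_card_eq _ h))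
    · rw [← hn]
      change (commutator G).index < _
      rw [← (commutator G).card_mul_index]
      exact lt_mul_of_one_lt_left (Nat.pos_of_ne_zero (commutator G).index_ne_zero_of_finite)
        (Subgroup.one_lt_card_iff_ne_bot _ |>.2 hne)

/-- Hall–Higman 1.2.3. -/
theorem centralizer_pCore_le [Finite G] [hp : Fact p.Prime] (h : Cfsg.IsPSolvable p G)
    (hO : Cfsg.pPrimeCore p G = ⊥) :
    Subgroup.centralizer (Cfsg.pCore p G : Set G) ≤ Cfsg.pCore p G := by
  set U := Cfsg.pCore p G with hU
  set f := QuotientGroup.mk' U with hf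
  have hfs : Function.Surjective f := QuotientGroup.mk'_surjective U
  set X := (Subgroup.centralizer (U : Set G)).map f with hX
  haveI hXn : X.Normal := Subgroup.Normal.map inferInstance f hfs
  suffices hX1 : X = ⊥ by rwa [hX, Subgroup.map_eq_bot_iff, hf, QuotientGroup.ker_mk'] at hX1
  by_contra hX1
  haveI : Nontrivial X := (Subgroup.nontrivial_iff_ne_bot X).2 hX1
  rcases exists_core_ne_bot (subgroup X (quotient U h)) with hc | hc
  · haveI := PBasic.pCore_characteristic p X
    have h1 := PBasic.map_pCore_le_of_normal (p := p) X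
    rw [PBasic.pCore_quotient_pCore, le_bot_iff,
      Subgroup.map_eq_bot_iff_of_injective _ Subtype.coe_injective] at h1
    exact hc h1
  · haveI := PBasic.pPrimeCore_characteristic p X
    set M := (Cfsg.pPrimeCore p X).map X.subtype with hM
    have hMc : (Nat.card M).Coprime p := Nat.Coprime.coprime_dvd_left (Subgroup.card_map_dvd _ _)
      (PBasic.pPrimeCore_coprime p X)
    set D := Subgroup.centralizer (U : Set G) ⊓ M.comap f with hD
    haveI : D.Normal := Subgroup.normal_inf_normal _ _
    obtain ⟨S⟩ : Nonempty (Sylow p D) := inferInstance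
    have hcen : ∀ x : D, x ∈ (S : Subgroup D) → (x : G) ∈ U := fun x hx => by
      rw [← QuotientGroup.eq_one_iff]
      exact PBasic.eq_one_of_isPGroup_of_coprime (p := p)
        (S.isPGroup'.map (f.comp D.subtype)) (Subgroup.mem_map_of_mem (f.comp D.subtype) hx)
        (PBasic.coprime_orderOf_of_mem hMc (Subgroup.mem_inf.1 x.2).2)
    have hnpc : Cfsg.HasNormalPComplement p D :=
      Fusion.hasNormalPComplement_of_normalizer_le_centralizer S fun y _ x hx =>
        Subtype.ext ((Subgroup.mem_inf.1 y.2).1 (x : G) (hcen x hx))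
    have hres : Cfsg.pResidual p D = ⊥ := by
      rw [← PBasic.pPrimeCore_eq_pResidual hnpc,
        ← Subgroup.map_eq_bot_iff_of_injective _ (f := D.subtype) Subtype.coe_injective,
        ← le_bot_iff, ← hO]
      exact PBasic.map_pPrimeCore_le_of_normal D
    have hDU : D ≤ U := PBasic.le_pCore inferInstance
      (PBasic.isPGroup_iff_forall_coprime.2 fun x hx => by
        rw [← Subgroup.mem_bot, ← hres]; exact PBasic.mem_pResidual hx)
    apply hc
    rw [← Subgroup.map_eq_bot_iff_of_injective _ (f := X.subtype) Subtype.coe_injective, ← hM,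
      Subgroup.eq_bot_iff_forall]
    intro y hy
    obtain ⟨g, hg, rfl⟩ := (Subgroup.map_subtype_le _ hy : y ∈ X)
    exact (QuotientGroup.eq_one_iff g).2 (hDU ⟨hg, hy⟩)

/-- If `G/O_{p'}(G)` has self-centralizing `O_p` then `G` is `p`-constrained. -/
theorem isPConstrained_of_quotient [Finite G] [hp : Fact p.Prime]
    (hc : Subgroup.centralizer (Cfsg.pCore p (G ⧸ Cfsg.pPrimeCore p G) : Set (G ⧸ Cfsg.pPrimeCore p G)) ≤
      Cfsg.pCore p (G ⧸ Cfsg.pPrimeCore p G)) :
    Cfsg.IsPConstrained p G := by
  unfold Cfsg.IsPConstrained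
  set L := Cfsg.pPrimePCore p G with hL
  intro P g hg
  set f := QuotientGroup.mk' (Cfsg.pPrimeCore p G) with hf
  refine hc ?_
  intro y hy
  obtain ⟨x, rfl⟩ := QuotientGroup.mk'_surjective (Cfsg.pPrimeCore p G) y
  have hxL : x ∈ L := hy
  set M := (Cfsg.pPrimeCore p G).subgroupOf L
  have hq : IsPGroup p (L ⧸ M) := by
    refine IsPGroup.of_injective (PBasic.pCore_isPGroup p (G ⧸ Cfsg.pPrimeCore p G))
      (QuotientGroup.lift M ((f.comp L.subtype).codRestrict _ (fun z => z.2)) ?_) ?_
    · intro z hz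
      exact Subtype.ext ((QuotientGroup.eq_one_iff (N := Cfsg.pPrimeCore p G) (z : G)).2 hz)
    · rw [← MonoidHom.ker_eq_bot_iff, Subgroup.eq_bot_iff_forall]
      intro z hz
      obtain ⟨w, rfl⟩ := QuotientGroup.mk'_surjective M z
      refine (QuotientGroup.eq_one_iff w).2 ?_
      exact (QuotientGroup.eq_one_iff (N := Cfsg.pPrimeCore p G) (w : G)).1
        (congrArg Subtype.val (hz : _ = (1 : ↥(Cfsg.pCore p (G ⧸ Cfsg.pPrimeCore p G)))))
  have hx : (⟨x, hxL⟩ : L) ∈ ((P : Subgroup L) ⊔ M : Subgroup L) := by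
    rw [PBasic.sylow_sup_eq_top P hq]; exact Subgroup.mem_top _
  rw [← SetLike.mem_coe, Subgroup.mul_normal] at hx
  obtain ⟨a, ha, m, hm, hxe⟩ := Set.mem_mul.1 hx
  have hxe' : (a : G) * (m : G) = x := congrArg Subtype.val hxe
  have hfa : f x = f (a : G) := by
    rw [← hxe', map_mul, show f (m : G) = 1 from
      (QuotientGroup.eq_one_iff (N := Cfsg.pPrimeCore p G) (m : G)).2 hm, mul_one]
  change f x * f g = f g * f x
  rw [hfa, ← map_mul, ← map_mul, hg (a : G) (Subgroup.mem_map_of_mem L.subtype ha)]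

theorem isPConstrained [Finite G] [hp : Fact p.Prime] (h : Cfsg.IsPSolvable p G) :
    Cfsg.IsPConstrained p G :=
  isPConstrained_of_quotient (centralizer_pCore_le (quotient _ h)
    (PBasic.pPrimeCore_quotient_pPrimeCore p G))

end Cfsg.Agent.PSolvable
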