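import Mathlib.GroupTheory.Nilpotent
import Cfsg.Agent.Lib.PLocal.ThompsonNPC

/-!
Thompson's theorem: a finite group with a fixed-point-free automorphism of prime order is
nilpotent.
-/

set_option autoImplicit false
set_option linter.style.haveILetI false

open scoped Pointwise commutatorElement

namespace Cfsg.Agent.FixedPointFreeThompson

open Cfsg.Agent

universe u

variable {G : Type*} [Group G]

/-- In a nilpotent group, a `p`-element commutes with an element of order prime to `p`. -/
theorem commute_of_nilpotent [Finite G] {p : ℕ} [hp : Fact p.Prime] [hG : Group.IsNilpotent G]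
    {x g : G} {k : ℕ} (hx : orderOf x = p ^ k) (hg : (orderOf g).Coprime p) : g * x = x * g := by
  obtain ⟨P⟩ : Nonempty (Sylow p G) := inferInstance
  obtain ⟨N, hN⟩ := Subgroup.nilpotent_iff_lowerCentralSeries.1 hG
  have key : ∀ m i, m + i = N → ∀ c ∈ (P : Subgroup G) ⊓ (⊤ : Subgroup G).lowerCentralSeries i,
      g * c = c * g := by
    intro m
    induction m with
    | zero =>
      intro i hi c hc
      rw [Nat.zero_add] at hi
      rw [hi, hN, inf_bot_eq, Subgroup.mem_bot] at hc
      rw [hc, mul_one, one_mul]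
    | succ m ih =>
      intro i hi c hc
      obtain ⟨hcP, hcL⟩ := Subgroup.mem_inf.1 hc
      set d := ⁅c, g⁆ with hd
      have hdP : d ∈ (P : Subgroup G) := by
        rw [hd, commutatorElement_def, mul_assoc c g, mul_assoc c]
        exact mul_mem hcP ((inferInstance : (P : Subgroup G).Normal).conj_mem _ (inv_mem hcP) g)
      have hdL : d ∈ (⊤ : Subgroup G).lowerCentralSeries (i + 1) :=
        Subgroup.commutator_mem_commutator hcL (Subgroup.mem_top g)
      have hdg : Commute g d := ih (i + 1) (by omega) d (Subgroup.mem_inf.2 ⟨hdP, hdL⟩)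
      have hpow : ∀ n : ℕ, c * g ^ n * c⁻¹ = (d * g) ^ n := by
        intro n
        rw [← conj_pow]
        congr 1
        rw [hd, commutatorElement_def]; group
      have h1 := hpow (orderOf g)
      rw [pow_orderOf_eq_one, mul_one, mul_inv_cancel, hdg.symm.mul_pow, pow_orderOf_eq_one,
        mul_one] at h1
      have hd1 : d = 1 := PBasic.eq_one_of_isPGroup_of_coprime P.isPGroup' hdP
        (Nat.Coprime.coprime_dvd_left (orderOf_dvd_of_pow_eq_one h1.symm) hg)
      rw [hd, commutatorElement_eq_one_iff_mul_comm] at hd1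
      exact hd1.symm
  obtain ⟨Q, hQ⟩ := (IsPGroup.of_card (G := Subgroup.zpowers x)
    (by rw [Nat.card_zpowers, hx])).exists_le_sylow
  haveI := Sylow.unique_of_normal P inferInstance
  rw [Subsingleton.elim Q P] at hQ
  exact key N 0 (Nat.add_zero N) x (Subgroup.mem_inf.2
    ⟨hQ (Subgroup.mem_zpowers x), by rw [Subgroup.lowerCentralSeries_zero]; exact Subgroup.mem_top x⟩)

theorem hasNormalPComplement_of_nilpotent [Finite G] {p : ℕ} [hp : Fact p.Prime]
    [hG : Group.IsNilpotent G] : Cfsg.HasNormalPComplement p G := by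
  refine Fusion.hasNormalPComplement_of_frobenius fun D hD g _ hgo x hx => ?_
  obtain ⟨k, hk⟩ := IsPGroup.iff_orderOf.1 hD ⟨x, hx⟩
  rw [Subgroup.orderOf_mk] at hk
  exact (commute_of_nilpotent hk hgo).symm

theorem center_nontrivial_of_nilpotent [hG : Group.IsNilpotent G] [Nontrivial G] :
    Nontrivial (Subgroup.center G) := by
  rw [Subgroup.nontrivial_iff_ne_bot]
  intro hbot
  obtain ⟨N, hN⟩ := Subgroup.nilpotent_iff_lowerCentralSeries.1 hG
  induction N with
  | zero => exact top_ne_bot (α := Subgroup G) hN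
  | succ n ih =>
    refine ih ?_
    rw [← le_bot_iff, ← hbot, ← Subgroup.commutator_top_right_eq_bot_iff_le_center]
    exact hN

/-! ### invariant objects -/

theorem invariant_restrict {σ : MulAut G} {H : Subgroup G} (h : H.map σ.toMonoidHom = H)
    {r : ℕ} (hr : σ ^ r = 1) (hfpf : ∀ x, σ x = x → x = 1) :
    ∃ τ : MulAut H, τ ^ r = 1 ∧ (∀ x, τ x = x → x = 1) ∧ ∀ x : H, ((τ x : H) : G) = σ x := by
  let τ : MulAut H := (σ.subgroupMap H).trans (MulEquiv.subgroupCongr h)
  have hτ : ∀ x : H, ((τ x : H) : G) = σ x := fun x => rfl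
  refine ⟨τ, ?_, fun x hx => Subtype.ext (hfpf x (by rw [← hτ, hx])), hτ⟩
  have hn : ∀ (n : ℕ) (x : H), (((τ ^ n) x : H) : G) = (σ ^ n) x := by
    intro n
    induction n with
    | zero => intro x; rfl
    | succ n ih => intro x; rw [pow_succ', pow_succ', MulAut.mul_apply, MulAut.mul_apply, hτ, ih]
  ext x
  rw [hn, hr, MulAut.one_apply, MulAut.one_apply]

theorem exists_eq_commutatorMap [Finite G] {σ : MulAut G} (hfpf : ∀ x, σ x = x → x = 1) (g : G) :
    ∃ x : G, (σ x)⁻¹ * x = g := by
  have hinj : Function.Injective fun x => (σ x)⁻¹ * x := by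
    intro x y h
    have h' : σ (y * x⁻¹) = y * x⁻¹ := by
      rw [map_mul, map_inv]
      have := congrArg (fun t => σ y * t * x⁻¹) h
      simpa [mul_assoc] using this
    exact (mul_inv_eq_one.1 (hfpf _ h')).symm
  exact Finite.injective_iff_surjective.1 hinj g

theorem map_normalizer {σ : MulAut G} {H : Subgroup G} (h : H.map σ.toMonoidHom = H) :
    (Subgroup.normalizer (H : Set G)).map σ.toMonoidHom = Subgroup.normalizer (H : Set G) :=
  (Subgroup.map_equiv_normalizer_eq H σ).trans (by rw [h])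

theorem map_centralizer {σ : MulAut G} {H : Subgroup G} (h : H.map σ.toMonoidHom = H) :
    (Subgroup.centralizer (H : Set G)).map σ.toMonoidHom = Subgroup.centralizer (H : Set G) := by
  ext y
  constructor
  · rintro ⟨x, hx, rfl⟩ z hz
    rw [SetLike.mem_coe, ← h] at hz
    obtain ⟨w, hw, rfl⟩ := hz
    rw [← map_mul, ← map_mul, hx w hw]
  · intro hy
    refine ⟨σ.symm y, fun w hw => ?_, σ.apply_symm_apply y⟩
    apply σ.injective
    rw [map_mul, map_mul, σ.apply_symm_apply]
    exact hy (σ w) (h ▸ Subgroup.mem_map_of_mem σ.toMonoidHom hw : σ.toMonoidHom w ∈ H)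

theorem exists_invariant_sylow [Finite G] {p : ℕ} [Fact p.Prime] {σ : MulAut G}
    (hfpf : ∀ x, σ x = x → x = 1) :
    ∃ P : Sylow p G, (P : Subgroup G).map σ.toMonoidHom = (P : Subgroup G) := by
  obtain ⟨P⟩ : Nonempty (Sylow p G) := inferInstance
  obtain ⟨g, hg⟩ := MulAction.exists_smul_eq G P (σ • P)
  obtain ⟨x, hx⟩ := exists_eq_commutatorMap hfpf g
  refine ⟨x • P, ?_⟩
  have h1 : ((σ • P : Sylow p G) : Subgroup G) = (P : Subgroup G).map σ.toMonoidHom := rfl
  rw [Sylow.coe_subgroup_smul]
  change ((P : Subgroup G).map (MulAut.conj x).toMonoidHom).map σ.toMonoidHom = _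
  rw [Subgroup.map_map, show σ.toMonoidHom.comp (MulAut.conj x).toMonoidHom =
    (MulAut.conj (σ x)).toMonoidHom.comp σ.toMonoidHom by ext z; simp, ← Subgroup.map_map, ← h1,
    ← hg]
  change MulAut.conj (σ x) • ((g • P : Sylow p G) : Subgroup G) = MulAut.conj x • (P : Subgroup G)
  rw [Sylow.coe_subgroup_smul, smul_smul, ← map_mul, ← hx, mul_inv_cancel_left]

theorem thompson_invariant {σ : MulAut G} {p : ℕ} {S : Subgroup G}
    (h : S.map σ.toMonoidHom = S) :
    (Cfsg.thompsonSubgroupOf p S).map σ.toMonoidHom = Cfsg.thompsonSubgroupOf p S := by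
  rw [← Thompson.thompsonSubgroupOf_map_of_injective S _ σ.injective, h]

theorem inf_invariant {σ : MulAut G} {A B : Subgroup G} (hA : A.map σ.toMonoidHom = A)
    (hB : B.map σ.toMonoidHom = B) : (A ⊓ B).map σ.toMonoidHom = A ⊓ B := by
  rw [Subgroup.map_inf _ _ _ σ.injective, hA, hB]

/-- The norm identity: if `R` and `σ` act with `σ` fixed-point-free on everything, then `R` fixes
some nontrivial element of any invariant abelian normal `p`-subgroup of coprime order. -/
theorem fixed_of_fpf [Finite G] {σ : MulAut G} {r : ℕ} [hr : Fact r.Prime] (hσ : σ ^ r = 1)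
    (hfpf : ∀ x, σ x = x → x = 1) (M R : Subgroup G) [M.Normal]
    (hMc : ∀ a ∈ M, ∀ b ∈ M, a * b = b * a) (hMi : M.map σ.toMonoidHom = M)
    (hRi : R.map σ.toMonoidHom = R) (hcop : (Nat.card M).Coprime (Nat.card R))
    (hfix : ∀ v ∈ M, (∀ y ∈ R, y * v = v * y) → v = 1) : M = ⊥ := by
  classical
  haveI := Fintype.ofFinite R
  letI : CommGroup M := { (inferInstance : Group M) with
    mul_comm := fun a b => Subtype.ext (hMc a a.2 b b.2) }
  obtain ⟨τ, hτr, hτfpf, hτ⟩ := invariant_restrict hMi hσ hfpf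
  obtain ⟨θ, hθr, hθfpf, hθ⟩ := invariant_restrict hRi hσ hfpf
  let c : R → MulAut M := fun y => MulAut.conjNormal (y : G)
  have hc : ∀ (y : R) (v : M), ((c y v : M) : G) = y * v * (y : G)⁻¹ := fun y v =>
    MulAut.conjNormal_apply _ _
  rw [eq_bot_iff]
  intro v₀ hv₀
  rw [Subgroup.mem_bot]
  set v : M := ⟨v₀, hv₀⟩
  -- the norm over `R` vanishes
  have hNR : ∀ w : M, ∏ y : R, c y w = 1 := by
    intro w
    refine Subtype.ext (hfix _ (∏ y : R, c y w).2 fun y hy => ?_)
    have h1 : c ⟨y, hy⟩ (∏ z : R, c z w) = ∏ z : R, c z w := by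
      rw [map_prod]
      refine Fintype.prod_equiv (Equiv.mulLeft ⟨y, hy⟩) _ _ fun z => ?_
      apply Subtype.ext
      simp [hc, mul_assoc]
    have h2 := congrArg Subtype.val h1
    rw [hc] at h2
    exact mul_inv_eq_iff_eq_mul.1 h2
  -- the conjugated automorphisms
  let t : R → MulAut M := fun y => c y * τ * (c y)⁻¹
  have htfpf : ∀ (y : R) (w : M), t y w = w → w = 1 := by
    intro y w hw
    have h1 : τ ((c y)⁻¹ w) = (c y)⁻¹ w := by
      have h2 := congrArg (fun z => (c y)⁻¹ z) hw
      simpa [t, MulAut.mul_apply, MulAut.inv_apply_self] using h2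
    have := congrArg (c y) (hτfpf _ h1)
    rwa [MulAut.apply_inv_self, map_one] at this
  have htr : ∀ y, t y ^ r = 1 := by
    intro y
    simp only [t, conj_pow, hτr, mul_one, mul_inv_cancel]
  have hN : ∀ (y : R) (w : M), ∏ i : ZMod r, ((t y) ^ i.val) w = 1 := by
    intro y w
    haveI : NeZero r := ⟨hr.out.ne_zero⟩
    apply htfpf y
    rw [map_prod]
    refine Fintype.prod_equiv (Equiv.addLeft 1) _ _ fun i => ?_
    rw [← MulAut.mul_apply, ← pow_succ', Equiv.coe_addLeft, ZMod.val_add, ZMod.val_one]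
    conv_lhs => rw [← Nat.mod_add_div (i.val + 1) r, pow_add, pow_mul, htr, one_pow, mul_one,
      add_comm i.val 1]
  haveI : NeZero r := ⟨hr.out.ne_zero⟩
  have hτn : ∀ (n : ℕ) (w : M), (((τ ^ n) w : M) : G) = (σ ^ n) w := by
    intro n
    induction n with
    | zero => intro w; rfl
    | succ n ih => intro w; rw [pow_succ', pow_succ', MulAut.mul_apply, MulAut.mul_apply, hτ, ih]
  have hθn : ∀ (n : ℕ) (w : R), (((θ ^ n) w : R) : G) = (σ ^ n) w := by
    intro n
    induction n with
    | zero => intro w; rfl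
    | succ n ih => intro w; rw [pow_succ', pow_succ', MulAut.mul_apply, MulAut.mul_apply, hθ, ih]
  have hexpand : ∀ (y : R) (i : ℕ),
      ((t y) ^ i) v = c (y * ((θ ^ i) y)⁻¹) ((τ ^ i) v) := by
    intro y i
    simp only [t, conj_pow, MulAut.mul_apply]
    apply Subtype.ext
    rw [hc, hc, hτn, hτn]
    have : ((c y)⁻¹ v : M) = c y⁻¹ v := by
      apply Subtype.ext
      simp [c, ← map_inv, MulAut.conjNormal_apply]
    rw [this, hc, Subgroup.coe_inv, inv_inv, map_mul, map_mul, map_inv, Subgroup.coe_mul,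
      Subgroup.coe_inv, hθn]
    group
  have hswap : ∏ i : ZMod r, ∏ y : R, ((t y) ^ i.val) v = 1 := by
    rw [Finset.prod_comm]; exact Finset.prod_eq_one fun y _ => hN y v
  have hi : ∀ i : ZMod r, i ≠ 0 → ∏ y : R, ((t y) ^ i.val) v = 1 := by
    intro i hi
    have hb : Function.Bijective fun y : R => y * ((θ ^ i.val) y)⁻¹ := by
      refine Finite.injective_iff_bijective.1 fun y z h => ?_
      have hy : (θ ^ i.val) (z⁻¹ * y) = z⁻¹ * y := by
        rw [map_mul, map_inv]
        have := congrArg (fun s => z⁻¹ * s * (θ ^ i.val) y) h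
        simpa [mul_assoc] using this.symm
      -- `θ` is a power of `θ ^ i`, so it fixes `z⁻¹ * y` as well
      have hcop' : Nat.Coprime i.val r := by
        rw [Nat.coprime_comm, hr.out.coprime_iff_not_dvd]
        intro hd
        apply hi
        rw [← ZMod.natCast_zmod_val i]
        exact (ZMod.natCast_eq_zero_iff _ _).2 hd
      obtain ⟨m, hm⟩ := exists_pow_eq_self_of_coprime (x := θ) (n := i.val)
        (hcop'.coprime_dvd_right (orderOf_dvd_of_pow_eq_one hθr))
      have hpow : ∀ k : ℕ, ((θ ^ i.val) ^ k) (z⁻¹ * y) = z⁻¹ * y := by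
        intro k
        induction k with
        | zero => rfl
        | succ k ih => rw [pow_succ, MulAut.mul_apply, hy, ih]
      have := hθfpf _ (by rw [← hm]; exact hpow m)
      exact (inv_mul_eq_one.1 this).symm
    rw [Finset.prod_congr rfl fun y _ => hexpand y i.val]
    exact (hb.prod_comp (fun y => c y ((τ ^ i.val) v))).trans (hNR _)
  rw [Fintype.prod_eq_single 0 (fun i hi0 => hi i hi0)] at hswap
  simp only [ZMod.val_zero, pow_zero, MulAut.one_apply, Finset.prod_const, Finset.card_univ,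
    ← Nat.card_eq_fintype_card] at hswap
  have h2 : orderOf v ∣ Nat.card R := orderOf_dvd_of_pow_eq_one hswap
  have h3 : v = 1 := orderOf_eq_one_iff.1 (Nat.eq_one_of_dvd_coprimes hcop (orderOf_dvd_natCard v) h2)
  exact congrArg Subtype.val h3

/-- A nilpotent invariant normal subgroup contains a nontrivial elementary abelian one. -/
theorem exists_elementary [Finite G] {σ : MulAut G} {M : Subgroup G} [M.Normal]
    (hMn : Group.IsNilpotent M) (hM1 : M ≠ ⊥) (hMi : M.map σ.toMonoidHom = M) :
    ∃ (q : ℕ) (A : Subgroup G), q.Prime ∧ A.Normal ∧ A ≠ ⊥ ∧ A ≤ M ∧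
      A.map σ.toMonoidHom = A ∧ (∀ a ∈ A, ∀ b ∈ A, a * b = b * a) ∧ ∀ a ∈ A, a ^ q = 1 := by
  haveI : Nontrivial M := (Subgroup.nontrivial_iff_ne_bot M).2 hM1
  haveI := hMn
  set Z := M ⊓ Subgroup.centralizer (M : Set G) with hZ
  haveI : Z.Normal := Subgroup.normal_inf_normal _ _
  have hZ1 : Nat.card Z ≠ 1 := by
    intro h
    have hnt : Nontrivial (Subgroup.center M) := center_nontrivial_of_nilpotent
    obtain ⟨z, hz⟩ := exists_ne (1 : Subgroup.center M)
    have hmem : ((z : M) : G) ∈ Z := ⟨(z : M).2, fun x hx =>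
      congrArg Subtype.val (Subgroup.mem_center_iff.1 z.2 ⟨x, hx⟩)⟩
    rw [Subgroup.card_eq_one] at h
    rw [h, Subgroup.mem_bot] at hmem
    exact hz (Subtype.ext (Subtype.ext hmem))
  obtain ⟨q, hq, hqd⟩ := Nat.exists_prime_and_dvd hZ1
  haveI : Fact q.Prime := ⟨hq⟩
  obtain ⟨x, hx⟩ := exists_prime_orderOf_dvd_card' q hqd
  have hc : ∀ a ∈ Z, ∀ b ∈ Z, a * b = b * a := fun a ha b hb =>
    (Subgroup.mem_inf.1 hb).2 a (Subgroup.mem_inf.1 ha).1
  let A : Subgroup G :=
    { carrier := {z | z ∈ Z ∧ z ^ q = 1}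
      mul_mem' := fun {a b} ha hb => ⟨Z.mul_mem ha.1 hb.1, by
        rw [Commute.mul_pow (hc a ha.1 b hb.1), ha.2, hb.2, mul_one]⟩
      one_mem' := ⟨Z.one_mem, one_pow q⟩
      inv_mem' := fun {a} ha => ⟨Z.inv_mem ha.1, by rw [inv_pow, ha.2, inv_one]⟩ }
  refine ⟨q, A, hq, ⟨fun a ha g => ⟨(inferInstance : Z.Normal).conj_mem a ha.1 g, by
    rw [conj_pow, ha.2, mul_one, mul_inv_cancel]⟩⟩, ?_, fun a ha => (Subgroup.mem_inf.1 ha.1).1,
    ?_, fun a ha b hb => hc a ha.1 b hb.1, fun a ha => ha.2⟩
  · intro hbot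
    have : (x : G) ∈ A := ⟨x.2, by rw [← SubmonoidClass.coe_pow, ← hx, pow_orderOf_eq_one]; rfl⟩
    rw [hbot, Subgroup.mem_bot] at this
    rw [← Subgroup.orderOf_coe, this, orderOf_one] at hx
    exact hq.ne_one hx.symm
  · refine Subgroup.eq_of_le_of_card_ge ?_ (Subgroup.card_map_of_injective σ.injective).ge
    rintro _ ⟨a, ha, rfl⟩
    have hZi : Z.map σ.toMonoidHom = Z := inf_invariant hMi (map_centralizer hMi)
    exact ⟨hZi ▸ Subgroup.mem_map_of_mem σ.toMonoidHom ha.1, by rw [← map_pow, ha.2, map_one]⟩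

/-- **Thompson's theorem on fixed-point-free automorphisms of prime order.** -/
theorem isNilpotent {G : Type u} [Group G] [Finite G] (σ : MulAut G) {r : ℕ} (hr : r.Prime)
    (hσ : σ ^ r = 1) (hfpf : ∀ x, σ x = x → x = 1) : Group.IsNilpotent G := by
  suffices h : ∀ n : ℕ, ∀ (G : Type u) [Group G] [Finite G], Nat.card G = n → ∀ σ : MulAut G,
      σ ^ r = 1 → (∀ x, σ x = x → x = 1) → Group.IsNilpotent G from h _ G rfl σ hσ hfpf
  haveI : Fact r.Prime := ⟨hr⟩
  intro n
  induction n using Nat.strong_induction_on with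
  | _ n ih =>
    intro G _ _ hn σ hσ hfpf
    classical
    by_contra hnil
    have hsub : ∀ H : Subgroup G, H ≠ ⊤ → H.map σ.toMonoidHom = H → Group.IsNilpotent H := by
      intro H hH hHi
      obtain ⟨τ, h1, h2, -⟩ := invariant_restrict hHi hσ hfpf
      refine ih _ ?_ H rfl τ h1 h2
      rw [← hn]
      exact lt_of_le_of_ne (Subgroup.card_le_card_group H)
        (fun h => hH (Subgroup.eq_top_of_card_eq H h))
    have hG1 : Nat.card G ≠ 1 := fun h => by
      haveI := (Nat.card_eq_one_iff_unique.1 h).1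
      exact hnil inferInstance
    -- a proper invariant normal subgroup
    have hexM : ∃ M : Subgroup G, M.Normal ∧ M ≠ ⊥ ∧ M ≠ ⊤ ∧ M.map σ.toMonoidHom = M := by
      have hodd : ∃ q, q.Prime ∧ q ∣ Nat.card G ∧ q ≠ 2 := by
        by_contra h
        push Not at h
        haveI : Fact (Nat.Prime 2) := ⟨Nat.prime_two⟩
        refine hnil (IsPGroup.isNilpotent (p := 2) ?_)
        rw [isPGroup_iff_primeFactors_card_subset two_ne_zero, Nat.Prime.primeFactors Nat.prime_two]
        intro q hq
        rw [Finset.mem_singleton]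
        exact h q (Nat.prime_of_mem_primeFactors hq) (Nat.dvd_of_mem_primeFactors hq)
      obtain ⟨q, hq, hqd, hq2⟩ := hodd
      haveI : Fact q.Prime := ⟨hq⟩
      obtain ⟨Q, hQi⟩ := exists_invariant_sylow (p := q) hfpf
      have hQ1 : (Q : Subgroup G) ≠ ⊥ := Q.ne_bot_of_dvd_card hqd
      have hQtop : (Q : Subgroup G) ≠ ⊤ := fun h => hnil (by
        have := Q.isPGroup'
        rw [h] at this
        exact (this.of_equiv Subgroup.topEquiv).isNilpotent)
      set J := Cfsg.thompsonSubgroupOf q (Q : Subgroup G)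
      set Z := (Q : Subgroup G) ⊓ Subgroup.centralizer ((Q : Subgroup G) : Set G)
      have hJi : J.map σ.toMonoidHom = J := thompson_invariant hQi
      have hZi : Z.map σ.toMonoidHom = Z := inf_invariant hQi (map_centralizer hQi)
      by_cases hJn : Subgroup.normalizer (J : Set G) = ⊤
      · exact ⟨J, Subgroup.normalizer_eq_top_iff.1 hJn, ThompsonNPC.thompson_ne_bot Q.isPGroup' hQ1,
          fun h => hQtop (top_le_iff.1 (h ▸ Thompson.thompsonSubgroupOf_le q _)), hJi⟩
      by_cases hZc : Subgroup.centralizer (Z : Set G) = ⊤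
      · refine ⟨Z, ?_, ThompsonNPC.center_ne_bot Q.isPGroup' hQ1,
          fun h => hQtop (top_le_iff.1 (h ▸ inf_le_left)), hZi⟩
        rw [← Subgroup.normalizer_eq_top_iff, eq_top_iff, ← hZc]
        exact Subgroup.centralizer_le_normalizer _
      haveI := hsub _ hJn (map_normalizer hJi)
      haveI := hsub _ hZc (map_centralizer hZi)
      have hnpc := ThompsonNPC.hasNormalPComplement_of_thompson hq2 Q
        hasNormalPComplement_of_nilpotent hasNormalPComplement_of_nilpotent
      refine ⟨Cfsg.pResidual q G, inferInstance, ?_, ?_, ?_⟩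
      · intro h
        have := PBasic.sylow_sup_pResidual Q
        rw [h, sup_bot_eq] at this
        exact hQtop this
      · intro h
        have h2 := PBasic.hasNormalPComplement_iff_pResidual.1 hnpc
        rw [h, Subgroup.card_top, Nat.coprime_comm, hq.coprime_iff_not_dvd] at h2
        exact h2 hqd
      · exact Subgroup.characteristic_iff_map_eq.1 (PBasic.pResidual_characteristic q G) σ
    obtain ⟨M₀, hM₀n, hM₀1, hM₀top, hM₀i⟩ := hexM
    haveI := hM₀n
    obtain ⟨q, A₀, hq, hA₀n, hA₀1, -, hA₀i, hA₀c, hA₀q⟩ :=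
      exists_elementary (hsub M₀ hM₀top hM₀i) hM₀1 hM₀i
    -- minimal
    obtain ⟨M, ⟨hMn, hM1, hMi, hMc, hMq⟩, hMmin⟩ := (Set.toFinite
      {A : Subgroup G | A.Normal ∧ A ≠ ⊥ ∧ A.map σ.toMonoidHom = A ∧
        (∀ a ∈ A, ∀ b ∈ A, a * b = b * a) ∧ ∀ a ∈ A, a ^ q = 1}).exists_minimal
      ⟨A₀, hA₀n, hA₀1, hA₀i, hA₀c, hA₀q⟩
    haveI : Fact q.Prime := ⟨hq⟩
    haveI := hMn
    have hMp : IsPGroup q M := fun a => ⟨1, Subtype.ext (by simp [hMq a a.2])⟩
    -- the quotient
    have hquot : Group.IsNilpotent (G ⧸ M) := by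
      refine ih _ ?_ (G ⧸ M) rfl (QuotientGroup.congr M M σ hMi) ?_ ?_
      · rw [← hn]
        change M.index < _
        rw [← M.card_mul_index]
        exact lt_mul_of_one_lt_left (Nat.pos_of_ne_zero M.index_ne_zero_of_finite)
          (Subgroup.one_lt_card_iff_ne_bot M |>.2 hM1)
      · have hpow : ∀ (k : ℕ) (g : G),
            ((QuotientGroup.congr M M σ hMi : MulAut (G ⧸ M)) ^ k) (g : G ⧸ M) = ((σ ^ k) g : G) := by
          intro k
          induction k with
          | zero => intro g; rfl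
          | succ k ihk => intro g; rw [pow_succ', pow_succ', MulAut.mul_apply, ihk]; rfl
        ext x
        obtain ⟨g, rfl⟩ := QuotientGroup.mk_surjective x
        rw [hpow, hσ]; rfl
      · intro x hx
        obtain ⟨g, rfl⟩ := QuotientGroup.mk_surjective x
        have hm : g⁻¹ * σ g ∈ M := QuotientGroup.eq.1 hx.symm
        obtain ⟨τ, -, hτfpf, hτ⟩ := invariant_restrict hMi hσ hfpf
        obtain ⟨y, hy⟩ := exists_eq_commutatorMap hτfpf ⟨(g⁻¹ * σ g)⁻¹, M.inv_mem hm⟩
        have hy' : (σ (y : G))⁻¹ * y = (g⁻¹ * σ g)⁻¹ := by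
          have := congrArg Subtype.val hy
          simpa [hτ] using this
        have h1 : σ (g * (y : G)⁻¹) = g * (y : G)⁻¹ := by
          have e : (σ (y : G))⁻¹ = (g⁻¹ * σ g)⁻¹ * (y : G)⁻¹ := by rw [← hy', mul_inv_cancel_right]
          rw [map_mul, map_inv, e]; group
        rw [QuotientGroup.eq_one_iff, mul_inv_eq_one.1 (hfpf _ h1)]
        exact y.2
    haveI := hquot
    -- a normal Sylow `q`-subgroup
    obtain ⟨Q, hQi⟩ := exists_invariant_sylow (p := q) hfpf
    have hMQ : M ≤ (Q : Subgroup G) := hMp.le_sylow_of_normal Q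
    -- `q'`-Sylow subgroups centralise `M`
    have hcent : ∀ (s : ℕ), s.Prime → s ≠ q → s ∣ Nat.card G →
        ∃ R : Sylow s G, (R : Subgroup G) ≤ Subgroup.centralizer (M : Set G) := by
      intro s hs hsq hsd
      haveI : Fact s.Prime := ⟨hs⟩
      obtain ⟨R, hRi⟩ := exists_invariant_sylow (p := s) hfpf
      refine ⟨R, ?_⟩
      by_cases hH : M ⊔ (R : Subgroup G) = ⊤
      swap
      · haveI := hsub _ hH (by rw [Subgroup.map_sup, hMi, hRi])
        intro y hy m hm
        obtain ⟨k, hk⟩ := IsPGroup.iff_orderOf.1 hMp ⟨m, hm⟩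
        obtain ⟨j, hj⟩ := IsPGroup.iff_orderOf.1 R.isPGroup' ⟨y, hy⟩
        rw [Subgroup.orderOf_mk] at hk hj
        have := commute_of_nilpotent (G := ↥(M ⊔ (R : Subgroup G)))
          (x := ⟨m, Subgroup.mem_sup_left hm⟩) (g := ⟨y, Subgroup.mem_sup_right hy⟩) (p := q) (k := k)
          (by rw [Subgroup.orderOf_mk, hk]) (by
            rw [Subgroup.orderOf_mk, hj]
            exact Nat.Coprime.pow_left j ((Nat.coprime_primes hs hq).2 hsq))
        exact (congrArg Subtype.val this).symm
      · set C := M ⊓ Subgroup.centralizer ((R : Subgroup G) : Set G) with hC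
        have hCn : C.Normal := by
          rw [← Subgroup.normalizer_eq_top_iff, eq_top_iff, ← hH]
          refine sup_le ?_ ?_
          · refine le_trans ?_ (Subgroup.centralizer_le_normalizer _)
            intro m hm x hx
            exact hMc x (Subgroup.mem_inf.1 hx).1 m hm
          · refine le_trans ?_ (Subgroup.centralizer_le_normalizer _)
            intro y hy x hx
            exact ((Subgroup.mem_inf.1 hx).2 y hy).symm
        by_cases hC1 : C = ⊥
        · refine absurd (fixed_of_fpf hσ hfpf M (R : Subgroup G) hMc hMi hRi ?_ ?_) hM1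
          · exact IsPGroup.coprime_card_of_ne q s hsq.symm M (R : Subgroup G) hMp R.isPGroup'
          · intro v hv hall
            have : v ∈ C := ⟨hv, hall⟩
            rwa [hC1, Subgroup.mem_bot] at this
        · have := hMmin ⟨hCn, hC1, inf_invariant hMi (map_centralizer hRi),
            fun a ha b hb => hMc a (Subgroup.mem_inf.1 ha).1 b (Subgroup.mem_inf.1 hb).1,
            fun a ha => hMq a (Subgroup.mem_inf.1 ha).1⟩ inf_le_left
          intro y hy m hm
          exact ((Subgroup.mem_inf.1 (this hm)).2 y hy).symm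
    -- `Q` is normal
    have hQn : (Q : Subgroup G).Normal := by
      have h1 : ((Q : Subgroup G).map (QuotientGroup.mk' M)).Normal := by
        rw [← Sylow.coe_mapSurjective (QuotientGroup.mk'_surjective M) Q]
        infer_instance
      have h2 := h1.comap (QuotientGroup.mk' M)
      rwa [Subgroup.comap_map_eq, QuotientGroup.ker_mk', sup_eq_left.2 hMQ] at h2
    -- a central element
    haveI : Nontrivial M := (Subgroup.nontrivial_iff_ne_bot M).2 hM1
    obtain ⟨z, hzM, hz1, hzfix⟩ := OffenderAction.exists_fixed Q.isPGroup'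
      ((MulAut.conjNormal (H := M)).comp (Q : Subgroup G).subtype) ⊤ (hMp.to_subgroup _) top_ne_bot
      (fun _ _ _ => Subgroup.mem_top _)
    have hcen : (z : G) ∈ Subgroup.center G := by
      have hctop : Subgroup.centralizer {(z : G)} = ⊤ := by
        rw [← Subgroup.index_eq_one]
        by_contra hne
        obtain ⟨s, hs, hsd⟩ := Nat.exists_prime_and_dvd hne
        haveI : Fact s.Prime := ⟨hs⟩
        by_cases hsq : s = q
        · subst hsq
          refine Q.not_dvd_index (hsd.trans (Subgroup.index_dvd_of_le ?_))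
          intro x hx w hw
          rw [Set.mem_singleton_iff.1 hw]
          have h := congrArg Subtype.val (hzfix ⟨x, hx⟩)
          rw [MonoidHom.comp_apply, MulAut.conjNormal_apply] at h
          exact (mul_inv_eq_iff_eq_mul.1 h).symm
        · obtain ⟨R, hR⟩ := hcent s hs hsq (hsd.trans (Subgroup.index_dvd_card _))
          refine R.not_dvd_index (hsd.trans (Subgroup.index_dvd_of_le (hR.trans ?_)))
          exact Subgroup.centralizer_le (Set.singleton_subset_iff.2 z.2)
      rw [Subgroup.mem_center_iff]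
      intro g
      exact ((hctop ▸ Subgroup.mem_top g : g ∈ Subgroup.centralizer {(z : G)}) _ rfl).symm
    have hMZ : M ≤ Subgroup.center G := by
      have hle := hMmin (y := M ⊓ Subgroup.center G)
        ⟨Subgroup.normal_inf_normal _ _, ?_, inf_invariant hMi
          (Subgroup.characteristic_iff_map_eq.1 inferInstance σ),
          fun a ha b hb => hMc a (Subgroup.mem_inf.1 ha).1 b (Subgroup.mem_inf.1 hb).1,
          fun a ha => hMq a (Subgroup.mem_inf.1 ha).1⟩ inf_le_left
      · exact hle.trans inf_le_right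
      · intro h
        have : (z : G) ∈ M ⊓ Subgroup.center G := ⟨z.2, hcen⟩
        rw [h, Subgroup.mem_bot] at this
        exact hz1 (Subtype.ext this)
    exact hnil (Subgroup.isNilpotent_of_ker_le_center (QuotientGroup.mk' M)
      (by rwa [QuotientGroup.ker_mk']))

/-- A normal subgroup on which an element of prime order acts fixed-point-freely is nilpotent. -/
theorem isNilpotent_of_conj {G : Type u} [Group G] [Finite G] (N : Subgroup G) [N.Normal] {r : ℕ}
    (hr : r.Prime) (h : G) (hh : h ^ r = 1) (hfree : ∀ x ∈ N, h * x = x * h → x = 1) :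
    Group.IsNilpotent N := by
  refine isNilpotent (MulAut.conjNormal (H := N) h) hr (by rw [← map_pow, hh, map_one]) ?_
  intro x hx
  have := congrArg Subtype.val hx
  rw [MulAut.conjNormal_apply] at this
  exact Subtype.ext (hfree x x.2 (mul_inv_eq_iff_eq_mul.1 this))

end Cfsg.Agent.FixedPointFreeThompson
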