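import Mathlib.GroupTheory.Subgroup.Centralizer
import Cfsg.Prelude.Def_PLocal
import Cfsg.Agent.Lib.PLocal.Thompson
import Cfsg.Agent.Lib.Transfer.Basic
import Cfsg.Agent.Lib.Transfer.CoprimeQuotient

/-!
`Ω₁` of a subgroup and its behaviour under homomorphisms; elements centralizing the Thompson
subgroup.
-/

set_option autoImplicit false
set_option linter.style.haveILetI false

open scoped Pointwise

namespace Cfsg.Agent.OmegaOne

variable {G : Type*} [Group G] {H : Type*} [Group H] {p : ℕ}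

theorem le (p : ℕ) (A : Subgroup G) : Cfsg.omegaOne p A ≤ A := by
  rw [Cfsg.omegaOne, Subgroup.closure_le]
  exact fun x hx => hx.1

theorem mem {A : Subgroup G} {x : G} (hx : x ∈ A) (hp : x ^ p = 1) : x ∈ Cfsg.omegaOne p A :=
  Subgroup.subset_closure ⟨hx, hp⟩

theorem pow_eq_one {A : Subgroup G} (hA : ∀ a ∈ A, ∀ b ∈ A, a * b = b * a) {x : G}
    (hx : x ∈ Cfsg.omegaOne p A) : x ^ p = 1 := by
  induction hx using Subgroup.closure_induction with
  | mem y hy => exact hy.2
  | one => exact one_pow p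
  | mul a b ha hb iha ihb =>
    rw [Commute.mul_pow (hA a (le p A ha) b (le p A hb)), iha, ihb, one_mul]
  | inv a _ iha => rw [inv_pow, iha, inv_one]

theorem center_comm (S : Subgroup G) :
    ∀ a ∈ S ⊓ Subgroup.centralizer (S : Set G), ∀ b ∈ S ⊓ Subgroup.centralizer (S : Set G),
      a * b = b * a :=
  fun a ha _ hb => hb.2 a ha.1

/-- `Ω₁(Z(S))` is elementary abelian. -/
theorem isElementaryAbelian_center (p : ℕ) (S : Subgroup G) :
    Cfsg.IsElementaryAbelian p (Cfsg.omegaOne p (S ⊓ Subgroup.centralizer (S : Set G))) :=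
  ⟨⟨⟨fun a b => Subtype.ext (center_comm S a (le p _ a.2) b (le p _ b.2))⟩⟩,
    fun _ ha => pow_eq_one (center_comm S) ha⟩

theorem le_centralizer_center (p : ℕ) (S : Subgroup G) :
    Cfsg.omegaOne p (S ⊓ Subgroup.centralizer (S : Set G)) ≤ Subgroup.centralizer (S : Set G) :=
  (le p _).trans inf_le_right

/-- `Ω₁` commutes with homomorphisms injective on the subgroup. -/
theorem map (f : G →* H) {A : Subgroup G} (hf : Set.InjOn f A) :
    (Cfsg.omegaOne p A).map f = Cfsg.omegaOne p (A.map f) := by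
  rw [Cfsg.omegaOne, Cfsg.omegaOne, MonoidHom.map_closure]
  congr 1
  ext y
  constructor
  · rintro ⟨x, ⟨hx, hxp⟩, rfl⟩
    exact ⟨Subgroup.mem_map_of_mem f hx, by rw [← map_pow, hxp, map_one]⟩
  · rintro ⟨⟨x, hx, rfl⟩, hy⟩
    exact ⟨x, ⟨hx, hf (A.pow_mem hx p) A.one_mem (by rw [map_pow, map_one, hy])⟩, rfl⟩

/-- `Ω₁(Z(S))` commutes with homomorphisms injective on `S`. -/
theorem map_center [Fact p.Prime] (f : G →* H) {S : Subgroup G} (hf : Set.InjOn f S) :
    (Cfsg.omegaOne p (S ⊓ Subgroup.centralizer (S : Set G))).map f =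
      Cfsg.omegaOne p (S.map f ⊓ Subgroup.centralizer ((S.map f : Subgroup H) : Set H)) := by
  rw [map f (hf.mono (SetLike.coe_subset_coe.2 inf_le_left)),
    Cfsg.Agent.CoprimeQuotient.inf_centralizer_map (p := p) f S hf]

/-- An element with `x ^ p = 1` centralizing `J(S)` lies in every elementary abelian subgroup of `S`
of largest order. -/
theorem mem_of_centralizes [Finite G] {S A : Subgroup G} (hA : Thompson.IsMaxEAIn p S A) {x : G}
    (hxS : x ∈ S) (hx : x ∈ Subgroup.centralizer (Cfsg.thompsonSubgroupOf p S : Set G))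
    (hxp : x ^ p = 1) : x ∈ A := by
  set B := A ⊔ Subgroup.zpowers x with hB
  have hxA : ∀ a ∈ A, Commute a x := fun a ha => hx a (Thompson.le_thompsonSubgroupOf hA ha)
  have hgen : B = Subgroup.closure ((A : Set G) ∪ {x}) := by
    rw [Subgroup.closure_union, Subgroup.closure_eq, ← Subgroup.zpowers_eq_closure]
  have hcomm : ∀ a ∈ B, ∀ b ∈ B, a * b = b * a := by
    have h : IsMulCommutative B := by
      rw [hgen]
      refine Subgroup.isMulCommutative_closure ?_
      rintro a (ha | rfl) b (hb | rfl)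
      · exact Thompson.commute_of_isElementaryAbelian hA.2.1 ha hb
      · exact hxA a ha
      · exact (hxA b hb).symm
      · rfl
    exact fun a ha b hb => congrArg Subtype.val (h.is_comm.comm ⟨a, ha⟩ ⟨b, hb⟩)
  have hBe : Cfsg.IsElementaryAbelian p B := by
    refine ⟨⟨⟨fun a b => Subtype.ext (hcomm a a.2 b b.2)⟩⟩, fun b hb => ?_⟩
    have hle : B ≤ Cfsg.omegaOne p B :=
      sup_le (fun a ha => mem (Subgroup.mem_sup_left ha) (hA.2.1.2 a ha))
        (Subgroup.zpowers_le.2 (mem (Subgroup.mem_sup_right (Subgroup.mem_zpowers x)) hxp))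
    exact pow_eq_one hcomm (hle hb)
  have hBS : B ≤ S := sup_le hA.1 (Subgroup.zpowers_le.2 hxS)
  rw [Subgroup.eq_of_le_of_card_ge (le_sup_left : A ≤ B) (hA.2.2 B hBS hBe)]
  exact Subgroup.mem_sup_right (Subgroup.mem_zpowers x)

/-- Every elementary abelian subgroup of largest order of `G` is one of some Sylow subgroup. -/
theorem exists_sylow_isMaxEAIn [Finite G] [Fact p.Prime] {A : Subgroup G}
    (hA : Thompson.IsMaxEAIn p ⊤ A) :
    ∃ S : Sylow p G, Thompson.IsMaxEAIn p (S : Subgroup G) A := by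
  have hAp : IsPGroup p A := fun a => ⟨1, Subtype.ext (by
    rw [pow_one, Subgroup.coe_pow, hA.2.1.2 _ a.2, Subgroup.coe_one])⟩
  obtain ⟨S, hS⟩ := hAp.exists_le_sylow
  exact ⟨S, hS, hA.2.1, fun B _ hB => hA.2.2 B le_top hB⟩

/-- An elementary abelian subgroup of largest order of a Sylow subgroup is one of `G`. -/
theorem isMaxEAIn_top_of_sylow [Finite G] [Fact p.Prime] (S : Sylow p G) {A : Subgroup G}
    (hA : Thompson.IsMaxEAIn p (S : Subgroup G) A) : Thompson.IsMaxEAIn p ⊤ A := by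
  refine ⟨le_top, hA.2.1, fun B _ hB => ?_⟩
  have hBp : IsPGroup p B := fun a => ⟨1, Subtype.ext (by
    rw [pow_one, Subgroup.coe_pow, hB.2 _ a.2, Subgroup.coe_one])⟩
  obtain ⟨T, hT⟩ := hBp.exists_le_sylow
  obtain ⟨g, hg⟩ := MulAction.exists_smul_eq G T S
  have hle : B.map (MulAut.conj g).toMonoidHom ≤ (S : Subgroup G) := by
    rw [← hg, Sylow.coe_subgroup_smul]
    exact Subgroup.map_mono hT
  refine le_of_eq_of_le ?_ (hA.2.2 _ hle (Thompson.isElementaryAbelian_map _ hB))
  exact (Subgroup.card_map_of_injective (MulEquiv.injective _)).symm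

/-- `J(G)` is generated by the `J(S)`. -/
theorem thompsonSubgroup_eq_iSup [Finite G] [Fact p.Prime] :
    Cfsg.thompsonSubgroup p G =
      ⨆ S : Sylow p G, Cfsg.thompsonSubgroupOf p (S : Subgroup G) := by
  rw [← Thompson.thompsonSubgroupOf_top, Thompson.thompsonSubgroupOf_eq]
  refine le_antisymm (sSup_le fun A hA => ?_) (iSup_le fun S => ?_)
  · obtain ⟨S, hS⟩ := exists_sylow_isMaxEAIn hA
    exact (Thompson.le_thompsonSubgroupOf hS).trans
      (le_iSup (fun S : Sylow p G => Cfsg.thompsonSubgroupOf p (S : Subgroup G)) S)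
  · rw [Thompson.thompsonSubgroupOf_eq]
    exact sSup_le fun A hA => le_sSup (isMaxEAIn_top_of_sylow S hA)

end Cfsg.Agent.OmegaOne
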