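import Mathlib.GroupTheory.PGroup
import Mathlib.GroupTheory.Abelianization.Defs
import Mathlib.Data.Nat.Choose.Dvd
import Mathlib.Tactic.Ring

/-!
The power formula in groups of class at most three.
-/

set_option autoImplicit false
set_option linter.style.haveILetI false

open scoped commutatorElement

namespace Cfsg.Agent.ClassThree

variable {G : Type*} [Group G] {a b c u v : G}

theorem pow_swap_right (hcb : c * b = b * c * v) (hv : ∀ g, Commute v g) (n : ℕ) :
    c * b ^ n = b ^ n * c * v ^ n := by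
  induction n with
  | zero => simp
  | succ n ih =>
    calc c * b ^ (n + 1) = (c * b ^ n) * b := by rw [pow_succ]; group
      _ = b ^ n * c * (v ^ n * b) := by rw [ih]; group
      _ = b ^ n * (c * b) * v ^ n := by rw [((hv b).pow_left n).eq]; group
      _ = b ^ (n + 1) * c * v ^ (n + 1) := by rw [hcb, pow_succ, pow_succ']; group

theorem pow_swap_left (hca : c * a = a * c * u) (hu : ∀ g, Commute u g) (n : ℕ) :
    c ^ n * a = a * c ^ n * u ^ n := by
  induction n with
  | zero => simp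
  | succ n ih =>
    calc c ^ (n + 1) * a = c ^ n * (c * a) := by rw [pow_succ]; group
      _ = (c ^ n * a) * c * u := by rw [hca]; group
      _ = a * c ^ n * (u ^ n * c) * u := by rw [ih]; group
      _ = a * c ^ (n + 1) * u ^ (n + 1) := by
          rw [((hu c).pow_left n).eq, pow_succ, pow_succ]; group

theorem pow_swap_base (hba : b * a = a * b * c) (hcb : c * b = b * c * v)
    (hv : ∀ g, Commute v g) (n : ℕ) : b ^ n * a = a * b ^ n * c ^ n * v ^ n.choose 2 := by
  induction n with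
  | zero => simp
  | succ n ih =>
    calc b ^ (n + 1) * a = b * (b ^ n * a) := by rw [pow_succ']; group
      _ = (b * a) * b ^ n * c ^ n * v ^ n.choose 2 := by rw [ih]; group
      _ = a * b * (c * b ^ n) * c ^ n * v ^ n.choose 2 := by rw [hba]; group
      _ = a * b * b ^ n * c * (v ^ n * c ^ n) * v ^ n.choose 2 := by
          rw [pow_swap_right hcb hv n]; group
      _ = a * b ^ (n + 1) * c ^ (n + 1) * v ^ (n + 1).choose 2 := by
          rw [((hv (c ^ n)).pow_left n).eq, pow_succ' b, pow_succ' c,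
            show (n + 1).choose 2 = n + n.choose 2 by
              rw [Nat.choose_succ_succ, Nat.choose_one_right], pow_add]
          group

/-- The power of a product in class at most three. -/
theorem mul_pow (hba : b * a = a * b * c) (hca : c * a = a * c * u) (hcb : c * b = b * c * v)
    (hu : ∀ g, Commute u g) (hv : ∀ g, Commute v g) (n : ℕ) :
    (a * b) ^ n = a ^ n * b ^ n * c ^ n.choose 2 * u ^ n.choose 3 *
      v ^ (n.choose 2 + 2 * n.choose 3) := by
  induction n with
  | zero => simp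
  | succ n ih =>
    set k := n.choose 2 with hk
    set l := n.choose 3 with hl
    set s := k + 2 * l with hs
    have hk' : (n + 1).choose 2 = n + k := by rw [Nat.choose_succ_succ, Nat.choose_one_right]
    have hl' : (n + 1).choose 3 = k + l := Nat.choose_succ_succ n 2
    have hcnb : c ^ (n + k) * b = b * c ^ (n + k) * v ^ (n + k) := pow_swap_left hcb hv _
    calc (a * b) ^ (n + 1) = a ^ n * b ^ n * c ^ k * (u ^ l * v ^ s * a) * b := by
          rw [pow_succ, ih]; group
      _ = a ^ n * b ^ n * c ^ k * (a * (u ^ l * v ^ s)) * b := by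
          rw [((((hu a).pow_left l)).mul_left ((hv a).pow_left s)).eq]
      _ = a ^ n * b ^ n * (c ^ k * a) * (u ^ l * v ^ s) * b := by group
      _ = a ^ n * (b ^ n * a) * c ^ k * (u ^ k * (u ^ l * v ^ s) * b) := by
          rw [pow_swap_left hca hu k]; group
      _ = a ^ n * a * b ^ n * c ^ n * (v ^ k * c ^ k) * (u ^ k * (u ^ l * v ^ s) * b) := by
          rw [pow_swap_base hba hcb hv n, ← hk]; group
      _ = a ^ (n + 1) * b ^ n * c ^ (n + k) * ((v ^ k * (u ^ k * (u ^ l * v ^ s))) * b) := by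
          rw [((hv (c ^ k)).pow_left k).eq, pow_succ, pow_add]; group
      _ = a ^ (n + 1) * b ^ n * (c ^ (n + k) * b) * (v ^ k * (u ^ k * (u ^ l * v ^ s))) := by
          rw [(((hv b).pow_left k).mul_left (((hu b).pow_left k).mul_left
            (((hu b).pow_left l).mul_left ((hv b).pow_left s)))).eq]
          group
      _ = a ^ (n + 1) * b ^ (n + 1) * c ^ (n + k) *
            (v ^ (n + k) * v ^ k * u ^ k * u ^ l * v ^ s) := by rw [hcnb, pow_succ b]; group
      _ = a ^ (n + 1) * b ^ (n + 1) * c ^ (n + k) *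
            (u ^ (k + l) * v ^ (n + k + k + s)) := by
          have h1 : Commute (v ^ (n + k) * v ^ k) (u ^ k * u ^ l) :=
            ((hv _).pow_left _).mul_left ((hv _).pow_left _)
          congr 1
          rw [mul_assoc (v ^ (n + k) * v ^ k) (u ^ k), h1.eq, mul_assoc, ← pow_add, ← pow_add,
            ← pow_add]
      _ = _ := by
          rw [hk', hl', show n + k + k + s = n + k + 2 * (k + l) by rw [hs]; ring, ← mul_assoc]

variable {p : ℕ} [hp : Fact p.Prime]

theorem dvd_choose {k : ℕ} (h0 : k ≠ 0) (h : k < p) : p ∣ p.choose k :=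
  hp.out.dvd_choose_self h0 h

/-- Data attached to a pair of elements of a group of class at most three. -/
theorem exists_data (hcl : ⁅⁅commutator G, (⊤ : Subgroup G)⁆, (⊤ : Subgroup G)⁆ = ⊥) (a b : G) :
    ∃ c u v : G, b * a = a * b * c ∧ c * a = a * c * u ∧ c * b = b * c * v ∧
      (∀ g, Commute u g) ∧ (∀ g, Commute v g) ∧ c ∈ commutator G ∧
      u ∈ ⁅commutator G, (⊤ : Subgroup G)⁆ ∧ v ∈ ⁅commutator G, (⊤ : Subgroup G)⁆ := by
  have hc : ⁅b⁻¹, a⁻¹⁆ ∈ commutator G :=
    Subgroup.commutator_mem_commutator (Subgroup.mem_top _) (Subgroup.mem_top _)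
  have hcent : ∀ w ∈ ⁅commutator G, (⊤ : Subgroup G)⁆, ∀ g : G, Commute w g := fun w hw g => by
    rw [Subgroup.commutator_eq_bot_iff_le_centralizer] at hcl
    exact (hcl hw g (Subgroup.mem_top g)).symm
  refine ⟨⁅b⁻¹, a⁻¹⁆, ⁅⁅b⁻¹, a⁻¹⁆⁻¹, a⁻¹⁆, ⁅⁅b⁻¹, a⁻¹⁆⁻¹, b⁻¹⁆, ?_, ?_, ?_, hcent _ ?_, hcent _ ?_,
    hc, ?_, ?_⟩
  · rw [commutatorElement_def]; group
  · rw [commutatorElement_def ⁅b⁻¹, a⁻¹⁆⁻¹]; group
  · rw [commutatorElement_def ⁅b⁻¹, a⁻¹⁆⁻¹]; group
  all_goals exact Subgroup.commutator_mem_commutator (inv_mem hc) (Subgroup.mem_top _)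

theorem mul_pow_prime (hcl : ((p ≠ 2 ∧ ⁅commutator G, (⊤ : Subgroup G)⁆ = ⊥) ∨
      (3 < p ∧ ⁅⁅commutator G, (⊤ : Subgroup G)⁆, (⊤ : Subgroup G)⁆ = ⊥))) {a b : G}
    (h : (a ^ p = 1 ∧ b ^ p = 1) ∨ ∀ w ∈ commutator G, w ^ p = 1) :
    (a * b) ^ p = a ^ p * b ^ p := by
  have hcl3 : ⁅⁅commutator G, (⊤ : Subgroup G)⁆, (⊤ : Subgroup G)⁆ = ⊥ := by
    rcases hcl with ⟨-, h2⟩ | ⟨-, h3⟩
    · rw [h2, Subgroup.commutator_bot_left]
    · exact h3
  obtain ⟨c, u, v, hba, hca, hcb, hu, hv, hc, hu', hv'⟩ := exists_data hcl3 a b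
  have hp2 : p ≠ 2 := by rcases hcl with ⟨h2, -⟩ | ⟨h3, -⟩ <;> omega
  have hd2 : p ∣ p.choose 2 :=
    dvd_choose two_ne_zero (lt_of_le_of_ne hp.out.two_le (Ne.symm hp2))
  have hkey : c ^ p = 1 ∧ u ^ p = 1 ∧ v ^ p = 1 := by
    rcases h with ⟨ha, hb⟩ | hR
    · have hvp : v ^ p = 1 := by
        have := pow_swap_right hcb hv p
        rw [hb, mul_one, one_mul, left_eq_mul] at this
        exact this
      have hcp : c ^ p = 1 := by
        have := pow_swap_base hba hcb hv p
        obtain ⟨d, hd⟩ := hd2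
        rw [hb, one_mul, mul_one, hd, pow_mul, hvp, one_pow, mul_one, left_eq_mul] at this
        exact this
      refine ⟨hcp, ?_, hvp⟩
      have := pow_swap_left hca hu p
      rw [hcp, one_mul, mul_one, left_eq_mul] at this
      exact this
    · have hle : ⁅commutator G, (⊤ : Subgroup G)⁆ ≤ commutator G :=
        Subgroup.commutator_le_left _ _
      exact ⟨hR c hc, hR u (hle hu'), hR v (hle hv')⟩
  obtain ⟨hcp, hup, hvp⟩ := hkey
  rw [mul_pow hba hca hcb hu hv p]
  obtain ⟨d, hd⟩ := hd2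
  rcases hcl with ⟨-, h2⟩ | ⟨h3, -⟩
  · rw [h2, Subgroup.mem_bot] at hu' hv'
    rw [hu', hv', one_pow, one_pow, mul_one, mul_one, hd, pow_mul, hcp, one_pow, mul_one]
  · obtain ⟨e, he⟩ := dvd_choose (p := p) three_ne_zero h3
    rw [hd, he, pow_mul, pow_mul, pow_add, ← mul_assoc 2, mul_comm 2 p, mul_assoc p, pow_mul, pow_mul,
      hcp, hup, hvp]
    simp

theorem pow_eq_one_of_mem_closure
    (hcl : ((p ≠ 2 ∧ ⁅commutator G, (⊤ : Subgroup G)⁆ = ⊥) ∨
      (3 < p ∧ ⁅⁅commutator G, (⊤ : Subgroup G)⁆, (⊤ : Subgroup G)⁆ = ⊥))) {g : G}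
    (hg : g ∈ Subgroup.closure {x : G | x ^ p = 1}) : g ^ p = 1 := by
  induction hg using Subgroup.closure_induction with
  | mem x hx => exact hx
  | one => exact one_pow p
  | mul x y _ _ ihx ihy => rw [mul_pow_prime hcl (Or.inl ⟨ihx, ihy⟩), ihx, ihy, one_mul]
  | inv x _ ihx => rw [inv_pow, ihx, inv_one]

end Cfsg.Agent.ClassThree
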