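import Mathlib.GroupTheory.Nilpotent
import Mathlib.GroupTheory.PGroup
import Mathlib.GroupTheory.SpecificGroups.Cyclic
import Mathlib.GroupTheory.SpecificGroups.KleinFour
import Mathlib.GroupTheory.QuotientGroup.Basic
import Mathlib.GroupTheory.IndexNormal
import Cfsg.Agent.Lib.TwoGroups.Lifts

/-!
`p`-groups of maximal class: the lower central series, and the `2`-groups with abelianization of order four.
-/

set_option autoImplicit false
set_option linter.style.haveILetI false

open scoped commutatorElement Pointwise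

namespace Cfsg.Agent.MaxClass

universe u

variable {G : Type u} [Group G] {p : ℕ} [hp : Fact p.Prime]

theorem succ_lt [Group.IsNilpotent G] {k : ℕ} (h : (⊤ : Subgroup G).lowerCentralSeries k ≠ ⊥) :
    (⊤ : Subgroup G).lowerCentralSeries (k + 1) < (⊤ : Subgroup G).lowerCentralSeries k := by
  refine lt_of_le_of_ne (Subgroup.lowerCentralSeries_antitone _ (Nat.le_succ k)) fun heq => h ?_
  have hall : ∀ j, (⊤ : Subgroup G).lowerCentralSeries (k + j) = (⊤ : Subgroup G).lowerCentralSeries k := by
    intro j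
    induction j with
    | zero => rfl
    | succ j ih => rw [← Nat.add_assoc, Subgroup.lowerCentralSeries_succ, ih]; exact heq
  rw [← hall (Group.nilpotencyClass G), eq_bot_iff,
    ← Subgroup.lowerCentralSeries_nilpotencyClass (G := G)]
  exact Subgroup.lowerCentralSeries_antitone _ (Nat.le_add_left _ _)

theorem mul_card_succ_le [Finite G] (hG : IsPGroup p G) {k : ℕ}
    (h : (⊤ : Subgroup G).lowerCentralSeries k ≠ ⊥) :
    p * Nat.card ((⊤ : Subgroup G).lowerCentralSeries (k + 1)) ≤
      Nat.card ((⊤ : Subgroup G).lowerCentralSeries k) := by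
  haveI := hG.isNilpotent
  obtain ⟨a, ha⟩ := IsPGroup.iff_card.1 (hG.to_subgroup ((⊤ : Subgroup G).lowerCentralSeries k))
  obtain ⟨b, hb⟩ := IsPGroup.iff_card.1 (hG.to_subgroup ((⊤ : Subgroup G).lowerCentralSeries (k + 1)))
  have hlt : Nat.card ((⊤ : Subgroup G).lowerCentralSeries (k + 1)) <
      Nat.card ((⊤ : Subgroup G).lowerCentralSeries k) :=
    Set.ncard_lt_ncard (SetLike.coe_ssubset_coe.2 (succ_lt h)) (Set.toFinite _)
  rw [ha, hb] at hlt ⊢
  rw [← pow_succ']
  exact Nat.pow_le_pow_right hp.out.pos ((Nat.pow_lt_pow_iff_right hp.out.one_lt).1 hlt)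

/-- A nilpotent group with cyclic abelianization is abelian. -/
theorem commutator_eq_bot_of_cyclic [Group.IsNilpotent G] [IsCyclic (G ⧸ commutator G)] :
    commutator G = ⊥ := by
  obtain ⟨y, hy⟩ := IsCyclic.exists_generator (α := G ⧸ commutator G)
  obtain ⟨g, rfl⟩ := QuotientGroup.mk'_surjective (commutator G) y
  by_contra hne
  rw [← Subgroup.top_lowerCentralSeries_one] at hne
  refine (succ_lt hne).not_ge ?_
  rw [Subgroup.top_lowerCentralSeries_one, commutator_def, Subgroup.commutator_le]
  set L := (⊤ : Subgroup G).lowerCentralSeries (1 + 1) with hL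
  set f := QuotientGroup.mk' L with hf
  have hc : ∀ c ∈ commutator G, ∀ x : G, f c * f x = f x * f c := fun c hc x => by
    rw [← commutatorElement_eq_one_iff_mul_comm, ← map_commutatorElement, hf,
      QuotientGroup.mk'_apply, QuotientGroup.eq_one_iff]
    exact Subgroup.commutator_mem_commutator hc (Subgroup.mem_top x)
  have hdec : ∀ x : G, ∃ c ∈ commutator G, ∃ i : ℤ, x = g ^ i * c := by
    intro x
    obtain ⟨i, hi⟩ := Subgroup.mem_zpowers_iff.1 (hy (QuotientGroup.mk' (commutator G) x))
    refine ⟨(g ^ i)⁻¹ * x, ?_, i, by group⟩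
    rw [← QuotientGroup.eq_one_iff]
    change QuotientGroup.mk' (commutator G) ((g ^ i)⁻¹ * x) = 1
    rw [map_mul, map_inv, map_zpow, hi, inv_mul_cancel]
  intro x _ y _
  obtain ⟨c, hc1, i, rfl⟩ := hdec x
  obtain ⟨d, hd1, j, rfl⟩ := hdec y
  rw [← QuotientGroup.eq_one_iff (N := L)]
  change f ⁅g ^ i * c, g ^ j * d⁆ = 1
  rw [map_commutatorElement, commutatorElement_eq_one_iff_commute, map_mul, map_mul]
  have h1 : Commute (f (g ^ i)) (f (g ^ j)) := by
    rw [map_zpow, map_zpow]; exact (Commute.refl (f g)).zpow_zpow i j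
  exact Commute.mul_left (Commute.mul_right h1 (hc d hd1 _).symm)
    (Commute.mul_right (hc c hc1 _) (hc c hc1 _))

theorem sq_le_index_commutator [Finite G] (hG : IsPGroup p G) (h : commutator G ≠ ⊥) :
    p ^ 2 ≤ (commutator G).index := by
  haveI := hG.isNilpotent
  obtain ⟨j, hj⟩ := hG.index (commutator G)
  rw [hj]
  refine Nat.pow_le_pow_right hp.out.pos ?_
  by_contra hj2
  refine h ?_
  haveI : IsCyclic (G ⧸ commutator G) := by
    rcases (by omega : j = 0 ∨ j = 1) with rfl | rfl
    · haveI : Subsingleton (G ⧸ commutator G) := by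
        rw [← Finite.card_le_one_iff_subsingleton, ← Subgroup.index_eq_card, hj, pow_zero]
      infer_instance
    · exact isCyclic_of_prime_card (p := p) (by rw [← Subgroup.index_eq_card, hj, pow_one])
  exact commutator_eq_bot_of_cyclic

theorem not_isCyclic_quotient_commutator [Group.IsNilpotent G] (h : commutator G ≠ ⊥) :
    ¬ IsCyclic (G ⧸ commutator G) := fun _ => h commutator_eq_bot_of_cyclic

theorem pow_eq_one_of_index_sq [Finite G] (hG : IsPGroup p G) (h : commutator G ≠ ⊥)
    (hi : (commutator G).index = p ^ 2) (x : G ⧸ commutator G) : x ^ p = 1 := by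
  haveI := hG.isNilpotent
  have hdvd : orderOf x ∣ p ^ 2 := by
    rw [← hi, Subgroup.index_eq_card]; exact orderOf_dvd_natCard x
  obtain ⟨i, hi2, hxi⟩ := (Nat.dvd_prime_pow hp.out).1 hdvd
  rcases (by omega : i ≤ 1 ∨ i = 2) with hi1 | rfl
  · rw [← orderOf_dvd_iff_pow_eq_one, hxi]
    exact (Nat.pow_dvd_pow p hi1).trans (pow_one p).dvd
  · exact absurd (isCyclic_of_orderOf_eq_card x (by rw [hxi, ← Subgroup.index_eq_card, hi]))
      (not_isCyclic_quotient_commutator h)

theorem card_lcs_le [Finite G] (hG : IsPGroup p G) (n : ℕ) (hn : Nat.card G = p ^ n) (k : ℕ) :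
    Nat.card ((⊤ : Subgroup G).lowerCentralSeries (k + 1)) ≤ p ^ (n - 2 - k) := by
  induction k with
  | zero =>
    rw [zero_add, Nat.sub_zero, Subgroup.top_lowerCentralSeries_one]
    by_cases h : commutator G = ⊥
    · rw [h, Subgroup.card_bot]; exact Nat.one_le_pow _ _ hp.out.pos
    · have h1 := sq_le_index_commutator hG h
      obtain ⟨a, ha⟩ := IsPGroup.iff_card.1 (hG.to_subgroup (commutator G))
      obtain ⟨j, hj⟩ := hG.index (commutator G)
      have h2 := (commutator G).card_mul_index
      rw [ha, hj, hn, ← pow_add] at h2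
      have h3 := Nat.pow_right_injective hp.out.two_le h2
      rw [hj] at h1
      have h4 := (Nat.pow_le_pow_iff_right hp.out.one_lt).1 h1
      rw [ha]
      exact Nat.pow_le_pow_right hp.out.pos (by omega)
  | succ k ih =>
    by_cases h : (⊤ : Subgroup G).lowerCentralSeries (k + 1) = ⊥
    · have h1 : (⊤ : Subgroup G).lowerCentralSeries (k + 1 + 1) = ⊥ := by
        rw [eq_bot_iff, ← h]; exact Subgroup.lowerCentralSeries_antitone _ (Nat.le_succ _)
      rw [h1, Subgroup.card_bot]; exact Nat.one_le_pow _ _ hp.out.pos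
    · have h1 := (mul_card_succ_le hG h).trans ih
      have hpos : n - 2 - k ≠ 0 := by
        intro h0
        rw [h0, pow_zero] at ih
        exact h (Subgroup.card_eq_one.1 (le_antisymm ih Nat.card_pos))
      rw [show n - 2 - k = (n - 2 - (k + 1)) + 1 by omega, pow_succ'] at h1
      exact Nat.le_of_mul_le_mul_left h1 hp.out.pos

theorem lcs_eq_bot [Finite G] (hG : IsPGroup p G) {n : ℕ} (hn : Nat.card G = p ^ n) (h2 : 2 ≤ n) :
    (⊤ : Subgroup G).lowerCentralSeries (n - 1) = ⊥ := by
  refine Subgroup.card_eq_one.1 (le_antisymm ?_ Nat.card_pos)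
  have := card_lcs_le hG n hn (n - 2)
  rwa [show n - 2 + 1 = n - 1 by omega, Nat.sub_self, pow_zero] at this

/-- In a group of maximal class the lower central series has all factors but the first of order `p`. -/
theorem card_lcs_eq [Finite G] {n : ℕ} (hn : Nat.card G = p ^ n) (h3 : 3 ≤ n)
    (hcl : Group.nilpotencyClass G = n - 1) {k : ℕ} (hk : k ≤ n - 2) :
    Nat.card ((⊤ : Subgroup G).lowerCentralSeries (k + 1)) = p ^ (n - 2 - k) := by
  have hG : IsPGroup p G := IsPGroup.of_card hn
  haveI := hG.isNilpotent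
  refine le_antisymm (card_lcs_le hG n hn k) ?_
  obtain ⟨i, hi⟩ := Nat.exists_eq_add_of_le hk
  clear hk
  induction i generalizing k with
  | zero =>
    rw [show n - 2 - k = 0 by omega, pow_zero]
    exact Nat.card_pos
  | succ i ih =>
    have h := ih (k := k + 1) (by omega)
    have hne : (⊤ : Subgroup G).lowerCentralSeries (k + 1) ≠ ⊥ := fun hb => by
      rw [Subgroup.lowerCentralSeries_eq_bot_iff_nilpotencyClass_le, hcl] at hb
      omega
    rw [show n - 2 - k = (n - 2 - (k + 1)) + 1 by omega, pow_succ']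
    exact (Nat.mul_le_mul_left p h).trans (mul_card_succ_le hG hne)

theorem commutator_ne_bot [Finite G] {n : ℕ} (hn : Nat.card G = p ^ n) (h3 : 3 ≤ n)
    (hcl : Group.nilpotencyClass G = n - 1) : commutator G ≠ ⊥ := fun h => by
  haveI := (IsPGroup.of_card hn).isNilpotent
  rw [← Subgroup.top_lowerCentralSeries_one, Subgroup.lowerCentralSeries_eq_bot_iff_nilpotencyClass_le,
    hcl] at h
  omega

theorem index_lcs_eq [Finite G] {n : ℕ} (hn : Nat.card G = p ^ n) (h3 : 3 ≤ n)
    (hcl : Group.nilpotencyClass G = n - 1) {k : ℕ} (hk : k ≤ n - 2) :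
    ((⊤ : Subgroup G).lowerCentralSeries (k + 1)).index = p ^ (k + 2) := by
  have h := ((⊤ : Subgroup G).lowerCentralSeries (k + 1)).card_mul_index
  rw [card_lcs_eq hn h3 hcl hk, hn, show p ^ n = p ^ (n - 2 - k) * p ^ (k + 2) by
    rw [← pow_add]; congr 1; omega] at h
  exact Nat.eq_of_mul_eq_mul_left (pow_pos hp.out.pos _) h

theorem index_commutator_eq [Finite G] {n : ℕ} (hn : Nat.card G = p ^ n) (h3 : 3 ≤ n)
    (hcl : Group.nilpotencyClass G = n - 1) : (commutator G).index = p ^ 2 := by
  rw [← Subgroup.top_lowerCentralSeries_one]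
  exact index_lcs_eq hn h3 hcl (Nat.zero_le _)

theorem eq_lcs_of_index [Finite G] {n : ℕ} (hn : Nat.card G = p ^ n) (h3 : 3 ≤ n)
    (hcl : Group.nilpotencyClass G = n - 1) (N : Subgroup G) [N.Normal] {r : ℕ} (hr : 2 ≤ r)
    (hNi : N.index = p ^ r) : N = (⊤ : Subgroup G).lowerCentralSeries (r - 1) := by
  have hrn : r ≤ n := (Nat.pow_dvd_pow_iff_le_right hp.out.one_lt).1
    (hNi ▸ hn ▸ N.index_dvd_card)
  have hQ := lcs_eq_bot ((IsPGroup.of_card hn).to_quotient N) (n := r)
    (by rw [← Subgroup.index_eq_card, hNi]) hr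
  rw [← Subgroup.map_top_of_surjective _ (QuotientGroup.mk'_surjective N),
    ← Subgroup.map_lowerCentralSeries, Subgroup.map_eq_bot_iff, QuotientGroup.ker_mk'] at hQ
  have hi := index_lcs_eq hn h3 hcl (k := r - 2) (by omega)
  rw [show r - 2 + 1 = r - 1 by omega, show r - 2 + 2 = r by omega] at hi
  refine (Subgroup.eq_of_le_of_card_ge hQ ?_).symm
  have h1 := N.card_mul_index
  have h2 := ((⊤ : Subgroup G).lowerCentralSeries (r - 1)).card_mul_index
  rw [hNi] at h1; rw [hi, ← h1] at h2
  exact (Nat.eq_of_mul_eq_mul_right (pow_pos hp.out.pos _) h2).ge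

theorem card_index_prime_subgroups_of_sq {V : Type*} [Group V] [Finite V]
    (hV : Nat.card V = p ^ 2) (he : ∀ x : V, x ^ p = 1) :
    Nat.card {H : Subgroup V // H.index = p} = p + 1 := by
  classical
  haveI := Fintype.ofFinite V
  haveI := Fintype.ofFinite {H : Subgroup V // H.index = p}
  have hiff : ∀ H : Subgroup V, H.index = p ↔ Nat.card H = p := by
    intro H
    have h := H.card_mul_index
    rw [hV, pow_two] at h
    constructor <;> intro h1 <;> rw [h1] at h
    · exact Nat.eq_of_mul_eq_mul_right hp.out.pos h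
    · exact Nat.eq_of_mul_eq_mul_left hp.out.pos h
  have hz : ∀ x : {x : V // x ≠ 1}, (Subgroup.zpowers (x : V)).index = p := fun x => by
    rw [hiff, Nat.card_zpowers]
    exact orderOf_eq_prime (he _) x.2
  let e : {x : V // x ≠ 1} ≃ Σ H : {H : Subgroup V // H.index = p}, {x : H.1 // x ≠ 1} :=
    { toFun := fun x => ⟨⟨Subgroup.zpowers (x : V), hz x⟩, ⟨⟨x, Subgroup.mem_zpowers _⟩,
        fun h => x.2 (congrArg Subtype.val h)⟩⟩
      invFun := fun s => ⟨(s.2.1 : V), fun h => s.2.2 (Subtype.ext h)⟩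
      left_inv := fun x => rfl
      right_inv := fun ⟨⟨H, hH⟩, ⟨⟨x, hx⟩, hx1⟩⟩ => by
        have hHeq : Subgroup.zpowers x = H := Subgroup.eq_of_le_of_card_ge
          (Subgroup.zpowers_le.2 hx) (by
            rw [(hiff H).1 hH, Nat.card_zpowers,
              orderOf_eq_prime (he x) fun h => hx1 (Subtype.ext h)])
        subst hHeq
        rfl }
  have hc : ∀ (W : Type _) [Group W] [Finite W], Nat.card {x : W // x ≠ 1} = Nat.card W - 1 := by
    intro W _ _
    haveI := Fintype.ofFinite W
    rw [Nat.card_eq_fintype_card, Nat.card_eq_fintype_card, Fintype.card_subtype_compl,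
      Fintype.card_subtype_eq]
  have h := Nat.card_congr e
  have hcc : ∀ H : {H : Subgroup V // H.index = p}, Nat.card {x : H.1 // x ≠ 1} = p - 1 := fun H => by
    rw [Nat.card_eq_fintype_card, Fintype.card_subtype_compl, Fintype.card_subtype_eq,
      ← Nat.card_eq_fintype_card, (hiff _).1 H.2]
  rw [hc V, hV, Nat.card_sigma, Finset.sum_congr rfl (fun H _ => hcc H),
    Finset.sum_const, Finset.card_univ, smul_eq_mul, ← Nat.card_eq_fintype_card] at h
  have h2 : p ^ 2 - 1 = (p + 1) * (p - 1) := by rw [← Nat.sq_sub_sq, one_pow]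
  rw [h2] at h
  exact (Nat.eq_of_mul_eq_mul_right (Nat.sub_pos_of_lt hp.out.one_lt) h).symm

theorem card_normal_index_prime [Finite G] {n : ℕ} (hn : Nat.card G = p ^ n) (h3 : 3 ≤ n)
    (hcl : Group.nilpotencyClass G = n - 1) :
    Nat.card {N : Subgroup G // N.Normal ∧ N.index = p} = p + 1 := by
  have hG := IsPGroup.of_card hn
  set f := QuotientGroup.mk' (commutator G) with hf
  have hfs : Function.Surjective f := QuotientGroup.mk'_surjective _
  rw [← card_index_prime_subgroups_of_sq (V := G ⧸ commutator G) (p := p)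
    (by rw [← Subgroup.index_eq_card, index_commutator_eq hn h3 hcl])
    (pow_eq_one_of_index_sq hG (commutator_ne_bot hn h3 hcl) (index_commutator_eq hn h3 hcl))]
  have hle : ∀ N : Subgroup G, N.Normal → N.index = p → commutator G ≤ N := by
    intro N _ hN
    haveI : IsCyclic (G ⧸ N) := isCyclic_of_prime_card (p := p) (by rw [← Subgroup.index_eq_card, hN])
    letI := IsCyclic.commGroup (α := G ⧸ N)
    rw [← QuotientGroup.ker_mk' N]
    exact Abelianization.commutator_subset_ker (QuotientGroup.mk' N)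
  refine Nat.card_congr
    { toFun := fun N => ⟨N.1.map f, ?_⟩
      invFun := fun H => ⟨H.1.comap f, ?_, ?_⟩
      left_inv := fun N => Subtype.ext ?_
      right_inv := fun H => Subtype.ext (Subgroup.map_comap_eq_self_of_surjective hfs _) }
  · rw [Subgroup.index_map_eq _ hfs (by rw [hf, QuotientGroup.ker_mk']; exact hle _ N.2.1 N.2.2), N.2.2]
  · refine Subgroup.Normal.comap ?_ f
    exact ⟨fun x hx g => by
      have : g * x = x * g := by
        obtain ⟨a, rfl⟩ := hfs g
        obtain ⟨b, rfl⟩ := hfs x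
        rw [← commutatorElement_eq_one_iff_mul_comm, ← map_commutatorElement]
        exact (QuotientGroup.eq_one_iff _).2
          (Subgroup.commutator_mem_commutator (Subgroup.mem_top a) (Subgroup.mem_top b))
      rwa [this, mul_inv_cancel_right]⟩
  · rw [Subgroup.index_comap_of_surjective _ hfs, H.2]
  · exact Subgroup.comap_map_eq_self (by rw [hf, QuotientGroup.ker_mk']; exact hle _ N.2.1 N.2.2)

/-! ### The prime two -/

/-- The consequences of an abelian subgroup of index two. -/
theorem abelian_index_two [Finite G] {n : ℕ} (hn : Nat.card G = 2 ^ n) (h3 : 3 ≤ n)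
    (hci : (commutator G).index = 4) (C : Subgroup G) (hCi : C.index = 2)
    (hCa : ∀ x ∈ C, ∀ y ∈ C, x * y = y * x) {b : G} (hb : b ∉ C) :
    Nat.card (Subgroup.center G) = 2 ∧ Subgroup.center G ≤ commutator G ∧
      Subgroup.center G ≤ C ∧
      (∀ x, x ∈ commutator G ↔ ∃ c ∈ C, x = c * (b * c * b⁻¹)⁻¹) ∧
      b * b ∈ Subgroup.center G ∧ ∀ c ∈ C, c * (b * c * b⁻¹) ∈ Subgroup.center G := by
  haveI : Fact (Nat.Prime 2) := ⟨Nat.prime_two⟩
  haveI hCn : C.Normal := Subgroup.normal_of_index_eq_two hCi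
  have hmul : ∀ x : G, x ∈ C ∨ ∃ c ∈ C, x = c * b := by
    intro x
    by_cases hx : x ∈ C
    · exact Or.inl hx
    · refine Or.inr ⟨x * b⁻¹, ?_, by group⟩
      rw [Subgroup.mul_mem_iff_of_index_two hCi]
      simp [hx, hb]
  have hcon : ∀ c ∈ C, b * c * b⁻¹ ∈ C := fun c hc => hCn.conj_mem c hc b
  have hcent : ∀ c ∈ C, b * c = c * b → c ∈ Subgroup.center G := by
    intro c hc hbc
    rw [Subgroup.mem_center_iff]
    intro x
    rcases hmul x with hx | ⟨d, hd, rfl⟩
    · exact hCa x hx c hc
    · rw [mul_assoc, hbc, ← mul_assoc, hCa d hd c hc, mul_assoc]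
  let ψ : C →* G := MonoidHom.mk' (fun c => (c : G) * (b * c * b⁻¹)⁻¹) fun c d => by
    have h1 := hCa d d.2 _ (C.inv_mem (hcon c c.2))
    have h2 := hCa _ (C.inv_mem (hcon c c.2)) _ (C.inv_mem (hcon d d.2))
    calc ((c * d : C) : G) * (b * ((c * d : C) : G) * b⁻¹)⁻¹
        = (c : G) * d * ((b * d * b⁻¹)⁻¹ * (b * c * b⁻¹)⁻¹) := by rw [Subgroup.coe_mul]; group
      _ = (c : G) * (d * (b * c * b⁻¹)⁻¹) * (b * d * b⁻¹)⁻¹ := by rw [← h2]; group
      _ = _ := by rw [h1]; group
  have hψ : ∀ c : C, ψ c = (c : G) * (b * c * b⁻¹)⁻¹ := fun _ => rfl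
  set R := ψ.range with hR
  have hRC : R ≤ C := by rintro _ ⟨c, rfl⟩; exact C.mul_mem c.2 (C.inv_mem (hcon c c.2))
  haveI hRn : R.Normal := ⟨by
    rintro _ ⟨c, rfl⟩ g
    rcases hmul g with hg | ⟨d, hd, rfl⟩
    · rw [hCa g hg _ (hRC ⟨c, rfl⟩), mul_inv_cancel_right]
      exact ⟨c, rfl⟩
    · refine ⟨⟨b * c * b⁻¹, hcon c c.2⟩, ?_⟩
      rw [show d * b * ψ c * (d * b)⁻¹ = d * (b * ψ c * b⁻¹) * d⁻¹ by group,
        hCa d hd _ (hcon _ (hRC ⟨c, rfl⟩)), mul_inv_cancel_right, hψ, hψ]
      group⟩
  have hcomm : commutator G = R := by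
    refine le_antisymm ?_ ?_
    · rw [commutator_def, Subgroup.commutator_le]
      intro x _ y _
      rw [← QuotientGroup.eq_one_iff (N := R)]
      change QuotientGroup.mk' R ⁅x, y⁆ = 1
      rw [map_commutatorElement, commutatorElement_eq_one_iff_commute]
      set f := QuotientGroup.mk' R
      have hCb : ∀ c ∈ C, Commute (f c) (f b) := by
        intro c hc
        have h : f (c * (b * c * b⁻¹)⁻¹) = 1 := (QuotientGroup.eq_one_iff _).2 ⟨⟨c, hc⟩, rfl⟩
        rw [map_mul, map_inv, mul_inv_eq_one, map_mul, map_mul, map_inv] at h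
        exact mul_inv_eq_iff_eq_mul.1 h.symm |>.symm
      have hCC : ∀ c ∈ C, ∀ d ∈ C, Commute (f c) (f d) := fun c hc d hd => by
        rw [Commute, SemiconjBy, ← map_mul, ← map_mul, hCa c hc d hd]
      rcases hmul x with hx | ⟨c, hc, rfl⟩ <;> rcases hmul y with hy | ⟨d, hd, rfl⟩
      · exact hCC x hx y hy
      · rw [map_mul]; exact (hCC x hx d hd).mul_right (hCb x hx)
      · rw [map_mul]; exact (hCC c hc y hy).mul_left (hCb y hy).symm
      · rw [map_mul, map_mul]
        exact ((hCC c hc d hd).mul_right (hCb c hc)).mul_left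
          ((hCb d hd).symm.mul_right (Commute.refl _))
    · rintro _ ⟨c, rfl⟩
      rw [hψ, show (c : G) * (b * c * b⁻¹)⁻¹ = ⁅(c : G), b⁆ by rw [commutatorElement_def]; group]
      exact Subgroup.commutator_mem_commutator (Subgroup.mem_top _) (Subgroup.mem_top _)
  have hcardC : Nat.card C * 2 = 2 ^ n := by
    have h := C.card_mul_index
    rwa [hCi, hn] at h
  have hcardR : Nat.card R * 4 = 2 ^ n := by
    have h := (commutator G).card_mul_index
    rwa [hci, hn, hcomm] at h
  have hker : Nat.card ψ.ker = 2 := by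
    have h : Nat.card ψ.ker * Nat.card R = Nat.card C := by
      rw [← Subgroup.card_mul_index ψ.ker, Subgroup.index_ker]
    have hpos : 0 < Nat.card R := Nat.card_pos
    rw [← h, mul_assoc] at hcardC
    refine Nat.eq_of_mul_eq_mul_right (show 0 < Nat.card R * 2 by omega) ?_
    omega
  have hZC : Subgroup.center G ≤ C := by
    intro z hz
    by_contra hzC
    have hbot : commutator G = ⊥ := by
      rw [hcomm, eq_bot_iff]
      rintro _ ⟨c, rfl⟩
      rw [Subgroup.mem_bot, hψ, mul_inv_eq_one, eq_mul_inv_iff_mul_eq]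
      have hd : z * b⁻¹ ∈ C := by
        rw [Subgroup.mul_mem_iff_of_index_two hCi]
        simp [hzC, hb]
      have hz' := Subgroup.mem_center_iff.1 hz (c : G)
      set d := z * b⁻¹ with hd'
      have hzd : z = d * b := by rw [hd']; group
      refine mul_left_cancel (a := d) ?_
      calc d * ((c : G) * b) = c * (d * b) := by rw [← mul_assoc, ← mul_assoc, hCa c c.2 d hd]
        _ = c * z := by rw [← hzd]
        _ = z * c := hz'
        _ = d * b * c := by rw [← hzd]
        _ = d * (b * c) := mul_assoc _ _ _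
    rw [hbot, Subgroup.index_bot, hn] at hci
    have : 2 ^ 3 ≤ 2 ^ n := Nat.pow_le_pow_right two_pos h3
    omega
  have hZker : Subgroup.center G = ψ.ker.map C.subtype := by
    refine le_antisymm ?_ ?_
    · intro z hz
      refine ⟨⟨z, hZC hz⟩, ?_, rfl⟩
      rw [SetLike.mem_coe, MonoidHom.mem_ker, hψ, mul_inv_eq_one]
      rw [Subgroup.mem_center_iff.1 hz b, mul_inv_cancel_right]
    · rintro _ ⟨c, hc, rfl⟩
      rw [SetLike.mem_coe, MonoidHom.mem_ker, hψ, mul_inv_eq_one, eq_mul_inv_iff_mul_eq] at hc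
      exact hcent c c.2 hc.symm
  have hZ2 : Nat.card (Subgroup.center G) = 2 := by
    rw [hZker, Subgroup.card_map_of_injective C.subtype_injective, hker]
  have hb2 : b * b ∈ C := Subgroup.mul_self_mem_of_index_two hCi b
  refine ⟨hZ2, ?_, hZC, fun x => ?_, hcent _ hb2 (mul_assoc b b b).symm, fun c hc => ?_⟩
  · have hG : IsPGroup 2 G := IsPGroup.of_card hn
    haveI : Nontrivial R := by
      rw [← Finite.one_lt_card_iff_nontrivial]
      have : 2 ^ 3 ≤ 2 ^ n := Nat.pow_le_pow_right two_pos h3
      omega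
    obtain ⟨z, hzR, hz1⟩ : ∃ z ∈ R ⊓ Subgroup.center G, z ≠ 1 := by
      letI : MulAction G R := MulAction.compHom R (MulAut.conjNormal (H := R))
      obtain ⟨k, hk⟩ := IsPGroup.iff_card.1 (hG.to_subgroup R)
      have hdvd : 2 ∣ Nat.card R := by
        rcases k with _ | k
        · rw [pow_zero] at hk; exact absurd hk (Finite.one_lt_card (α := R)).ne'
        · rw [hk]; exact dvd_pow_self 2 (Nat.succ_ne_zero k)
      obtain ⟨r, hr, hr1⟩ := hG.exists_fixed_point_of_prime_dvd_card_of_fixed_point R hdvd (a := 1)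
        (fun g => map_one (MulAut.conjNormal (H := R) g))
      refine ⟨r, ⟨r.2, Subgroup.mem_center_iff.2 fun g => ?_⟩, fun h => hr1 (Subtype.ext h).symm⟩
      have := congrArg Subtype.val (hr g)
      exact mul_inv_eq_iff_eq_mul.1 this
    have hgen : Subgroup.zpowers z = Subgroup.center G := Subgroup.eq_of_le_of_card_ge
      (Subgroup.zpowers_le.2 hzR.2) (by
        rw [hZ2, Nat.card_zpowers]
        have h2 : orderOf z ≠ 1 := fun h => hz1 (orderOf_eq_one_iff.1 h)
        have := orderOf_pos z
        omega)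
    rw [hcomm, ← hgen, Subgroup.zpowers_le]
    exact hzR.1
  · rw [hcomm]
    exact ⟨fun ⟨c, hc⟩ => ⟨c, c.2, hc.symm⟩, fun ⟨c, hc, h⟩ => ⟨⟨c, hc⟩, h.symm⟩⟩
  · refine hcent _ (C.mul_mem hc (hcon c hc)) ?_
    have hbb : b * b * c = c * (b * b) := hCa _ hb2 c hc
    calc b * (c * (b * c * b⁻¹)) = (b * c * b⁻¹) * (b * b * c) * b⁻¹ := by group
      _ = (b * c * b⁻¹) * c * b := by rw [hbb]; group
      _ = c * (b * c * b⁻¹) * b := by rw [hCa _ (hcon c hc) c hc]

/-- A 2-group with abelianization of order four has a cyclic subgroup of index two. -/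
theorem exists_cyclic_index_two (n : ℕ) : ∀ (G : Type u) [Group G] [Finite G], Nat.card G = 2 ^ n →
    3 ≤ n → (commutator G).index = 4 → ∃ a : G, (Subgroup.zpowers a).index = 2 := by
  induction n with
  | zero => intro G _ _ _ h3; omega
  | succ m ih =>
    intro G _ _ hn h3 hci
    haveI : Fact (Nat.Prime 2) := ⟨Nat.prime_two⟩
    have hG : IsPGroup 2 G := IsPGroup.of_card hn
    have hne : commutator G ≠ ⊥ := fun h => by
      rw [h, Subgroup.index_bot, hn] at hci
      have : 2 ^ 3 ≤ 2 ^ (m + 1) := Nat.pow_le_pow_right two_pos h3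
      omega
    rcases (by omega : m = 2 ∨ 3 ≤ m) with rfl | hm
    · by_contra hcon
      push Not at hcon
      refine hne ?_
      have hsq : ∀ x : G, x * x = 1 := by
        intro x
        obtain ⟨i, hi, hxi⟩ := (Nat.dvd_prime_pow Nat.prime_two).1 (hn ▸ orderOf_dvd_natCard x)
        have hidx := (Subgroup.zpowers x).card_mul_index
        rw [Nat.card_zpowers, hxi, hn] at hidx
        interval_cases i
        · rw [orderOf_eq_one_iff.1 (show orderOf x = 1 by simpa using hxi), mul_one]
        · rw [← pow_two, ← orderOf_dvd_iff_pow_eq_one, hxi]; norm_num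
        · exact absurd (by omega) (hcon x)
        · exfalso
          have h8 : (Subgroup.zpowers x) = ⊤ := Subgroup.eq_top_of_card_eq _ (by
            rw [Nat.card_zpowers, hxi, hn])
          refine hcon (x * x) ?_
          have h4 : orderOf (x * x) = 4 := by
            rw [← pow_two, orderOf_pow, hxi]; rfl
          have := (Subgroup.zpowers (x * x)).card_mul_index
          rw [Nat.card_zpowers, h4, hn] at this
          omega
      rw [eq_bot_iff, commutator_def, Subgroup.commutator_le]
      intro x _ y _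
      rw [Subgroup.mem_bot, commutatorElement_eq_one_iff_mul_comm]
      have h := hsq (x * y)
      calc x * y = x⁻¹ * y⁻¹ := by
            rw [inv_eq_of_mul_eq_one_right (hsq x), inv_eq_of_mul_eq_one_right (hsq y)]
        _ = (y * x)⁻¹ := by group
        _ = y * x := inv_eq_of_mul_eq_one_right (hsq _)
    · haveI : Nontrivial (commutator G) := (Subgroup.nontrivial_iff_ne_bot _).2 hne
      obtain ⟨z, hzR, hz2⟩ : ∃ z ∈ commutator G ⊓ Subgroup.center G, orderOf z = 2 := by
        letI : MulAction G (commutator G) :=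
          MulAction.compHom (commutator G) (MulAut.conjNormal (H := commutator G))
        obtain ⟨k, hk⟩ := IsPGroup.iff_card.1 (hG.to_subgroup (commutator G))
        have hdvd : 2 ∣ Nat.card (commutator G) := by
          rcases k with _ | k
          · rw [pow_zero] at hk
            exact absurd hk (Finite.one_lt_card (α := commutator G)).ne'
          · rw [hk]; exact dvd_pow_self 2 (Nat.succ_ne_zero k)
        obtain ⟨r, hr, hr1⟩ := hG.exists_fixed_point_of_prime_dvd_card_of_fixed_point _ hdvd (a := 1)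
          (fun g => map_one (MulAut.conjNormal (H := commutator G) g))
        have hrc : (r : G) ∈ Subgroup.center G := Subgroup.mem_center_iff.2 fun g =>
          mul_inv_eq_iff_eq_mul.1 (congrArg Subtype.val (hr g))
        obtain ⟨i, hi⟩ := IsPGroup.iff_orderOf.1 hG (r : G)
        have hi0 : i ≠ 0 := fun h => by
          rw [h, pow_zero, orderOf_eq_one_iff] at hi
          exact hr1 (Subtype.ext hi).symm
        refine ⟨(r : G) ^ 2 ^ (i - 1), ⟨pow_mem r.2 _, pow_mem hrc _⟩, ?_⟩
        rw [orderOf_pow' _ (pow_ne_zero _ two_ne_zero), hi,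
          Nat.gcd_eq_right (Nat.pow_dvd_pow 2 (Nat.sub_le i 1)), Nat.pow_div (Nat.sub_le i 1) two_pos,
          show i - (i - 1) = 1 by omega, pow_one]
      set N := Subgroup.zpowers z with hN
      have hNZ : N ≤ Subgroup.center G := Subgroup.zpowers_le.2 hzR.2
      haveI : N.Normal := ⟨fun x hx g => by
        rw [Subgroup.mem_center_iff.1 (hNZ hx) g, mul_inv_cancel_right]; exact hx⟩
      set f := QuotientGroup.mk' N with hf
      have hfs : Function.Surjective f := QuotientGroup.mk'_surjective N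
      have hNc : Nat.card N = 2 := by rw [Nat.card_zpowers, hz2]
      have hQ : Nat.card (G ⧸ N) = 2 ^ m := by
        have h := Subgroup.card_eq_card_quotient_mul_card_subgroup N
        rw [hn, hNc, pow_succ] at h
        exact (Nat.eq_of_mul_eq_mul_right two_pos h).symm
      have hQc : (commutator (G ⧸ N)).index = 4 := by
        rw [commutator_def, ← Subgroup.map_top_of_surjective f hfs, ← Subgroup.map_commutator,
          ← commutator_def, Subgroup.index_map_eq _ hfs (by
            rw [hf, QuotientGroup.ker_mk']; exact Subgroup.zpowers_le.2 hzR.1), hci]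
      obtain ⟨y, hy⟩ := ih (G ⧸ N) hQ hm hQc
      obtain ⟨a, rfl⟩ := hfs y
      set C := (Subgroup.zpowers (f a)).comap f with hC
      have hCi : C.index = 2 := by rw [hC, Subgroup.index_comap_of_surjective _ hfs, hy]
      have hdec : ∀ x ∈ C, ∃ i : ℤ, ∃ w ∈ N, x = a ^ i * w := by
        intro x hx
        obtain ⟨i, hi⟩ := Subgroup.mem_zpowers_iff.1 hx
        refine ⟨i, (a ^ i)⁻¹ * x, ?_, by group⟩
        rw [← QuotientGroup.eq_one_iff]
        change f ((a ^ i)⁻¹ * x) = 1
        rw [map_mul, map_inv, map_zpow, hi, inv_mul_cancel]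
      have hCa : ∀ x ∈ C, ∀ y ∈ C, x * y = y * x := by
        intro x hx y hy
        obtain ⟨i, v, hv, rfl⟩ := hdec x hx
        obtain ⟨j, w, hw, rfl⟩ := hdec y hy
        have c1 : ∀ g, Commute g v := fun g => Subgroup.mem_center_iff.1 (hNZ hv) g
        have c2 : ∀ g, Commute g w := fun g => Subgroup.mem_center_iff.1 (hNZ hw) g
        exact (((Commute.refl a).zpow_zpow i j).mul_right (c2 _)).mul_left
          ((c1 _).symm.mul_right (c1 _).symm)
      obtain ⟨b, hb⟩ : ∃ b, b ∉ C := by
        by_contra h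
        push Not at h
        rw [(Subgroup.eq_top_iff' C).2 h, Subgroup.index_top] at hCi
        omega
      obtain ⟨hZ2, -, -, hR, -, -⟩ := abelian_index_two hn h3 hci C hCi hCa hb
      refine ⟨a, ?_⟩
      suffices hza : z ∈ Subgroup.zpowers a by
        have hCeq : C = Subgroup.zpowers a := by
          refine le_antisymm ?_ (Subgroup.zpowers_le.2 (Subgroup.mem_zpowers _))
          intro x hx
          obtain ⟨i, w, hw, rfl⟩ := hdec x hx
          exact mul_mem (Subgroup.zpow_mem _ (Subgroup.mem_zpowers a) i) (Subgroup.zpowers_le.2 hza hw)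
        rw [← hCeq, hCi]
      -- `G'` is cyclic of order at least four and contains `z`, so `z` is a square in `C`
      have haC : a ∈ C := Subgroup.mem_zpowers (f a)
      set e := a * (b * a * b⁻¹)⁻¹ with he
      have hgen : ∀ x ∈ commutator G, ∃ i : ℤ, x = e ^ i := by
        intro x hx
        obtain ⟨c, hc, rfl⟩ := (hR x).1 hx
        obtain ⟨i, w, hw, rfl⟩ := hdec c hc
        refine ⟨i, ?_⟩
        have hw' : b * w = w * b := Subgroup.mem_center_iff.1 (hNZ hw) b
        have hcm : Commute a (b * a * b⁻¹)⁻¹ :=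
          hCa a haC _ (inv_mem ((Subgroup.normal_of_index_eq_two hCi).conj_mem a haC b))
        rw [he, hcm.mul_zpow, inv_zpow, conj_zpow]
        calc a ^ i * w * (b * (a ^ i * w) * b⁻¹)⁻¹
            = a ^ i * w * (b * w⁻¹ * (a ^ i)⁻¹ * b⁻¹) := by group
          _ = a ^ i * w * (w⁻¹ * b * (a ^ i)⁻¹ * b⁻¹) := by
              rw [show b * w⁻¹ = w⁻¹ * b from ((show Commute b w from hw').inv_right).eq]
          _ = a ^ i * (b * a ^ i * b⁻¹)⁻¹ := by group
      obtain ⟨i, hi⟩ := hgen z hzR.1
      have heC : e ∈ C :=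
        mul_mem haC (inv_mem ((Subgroup.normal_of_index_eq_two hCi).conj_mem a haC b))
      have heR : e ∈ commutator G := (hR e).2 ⟨a, haC, rfl⟩
      have hord : 4 ≤ orderOf e := by
        have h1 : commutator G = Subgroup.zpowers e := le_antisymm
          (fun x hx => by obtain ⟨j, rfl⟩ := hgen x hx; exact zpow_mem (Subgroup.mem_zpowers e) j)
          (Subgroup.zpowers_le.2 heR)
        have h2 := (commutator G).card_mul_index
        rw [hci, hn, h1, Nat.card_zpowers] at h2
        have : 2 ^ 4 ≤ 2 ^ (m + 1) := Nat.pow_le_pow_right two_pos (by omega)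
        omega
      rcases Int.even_or_odd i with ⟨j, rfl⟩ | ⟨j, rfl⟩
      · obtain ⟨k, w, hw, hkw⟩ := hdec (e ^ j) (zpow_mem heC j)
        have hww : w * w = 1 := by
          obtain ⟨l, rfl⟩ := Subgroup.mem_zpowers_iff.1 hw
          rw [← zpow_add, ← two_mul, zpow_mul, zpow_two, ← pow_two, ← hz2, pow_orderOf_eq_one,
            one_zpow]
        have : z = a ^ k * a ^ k := by
          rw [hi, zpow_add, hkw]
          have hc : Commute w (a ^ k) := (Subgroup.mem_center_iff.1 (hNZ hw) (a ^ k)).symm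
          calc a ^ k * w * (a ^ k * w) = a ^ k * (w * a ^ k) * w := by group
            _ = a ^ k * (a ^ k * w) * w := by rw [hc.eq]
            _ = a ^ k * a ^ k * (w * w) := by group
            _ = _ := by rw [hww, mul_one]
        rw [this]
        exact mul_mem (zpow_mem (Subgroup.mem_zpowers a) k) (zpow_mem (Subgroup.mem_zpowers a) k)
      · exfalso
        have h1 : e ^ ((2 * j + 1) * 2) = 1 := by
          rw [zpow_mul, ← hi, zpow_two, ← pow_two, ← hz2, pow_orderOf_eq_one]
        obtain ⟨l, hl⟩ := IsPGroup.iff_orderOf.1 hG e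
        rw [← orderOf_dvd_iff_zpow_eq_one, hl] at h1
        rw [hl] at hord
        obtain ⟨l', rfl⟩ : ∃ l', l = l' + 2 := ⟨l - 2, by
          rcases (by omega : l ≤ 1 ∨ 2 ≤ l) with h | h
          · interval_cases l <;> omega
          · omega⟩
        push_cast at h1
        rw [pow_add] at h1
        have h4 : (4 : ℤ) ∣ (2 * j + 1) * 2 := (Dvd.intro_left _ rfl).trans h1
        omega

/-- The central quotient is dihedral. -/
theorem quotient_center_dihedral [Finite G] {n : ℕ} (hn : Nat.card G = 2 ^ n) (h3 : 3 ≤ n)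
    (hci : (commutator G).index = 4) :
    Nonempty (G ⧸ Subgroup.center G ≃* DihedralGroup (2 ^ (n - 2))) := by
  haveI : Fact (Nat.Prime 2) := ⟨Nat.prime_two⟩
  obtain ⟨a, ha⟩ := exists_cyclic_index_two n G hn h3 hci
  set C := Subgroup.zpowers a with hC
  have hCa : ∀ x ∈ C, ∀ y ∈ C, x * y = y * x := by
    rintro _ ⟨i, rfl⟩ _ ⟨j, rfl⟩
    exact ((Commute.refl a).zpow_zpow i j).eq
  obtain ⟨b, hb⟩ : ∃ b, b ∉ C := by
    by_contra h
    push Not at h
    rw [(Subgroup.eq_top_iff' C).2 h, Subgroup.index_top] at ha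
    omega
  obtain ⟨hZ2, -, hZC, -, hbb, hinv⟩ := abelian_index_two hn h3 hci C ha hCa hb
  set f := QuotientGroup.mk' (Subgroup.center G) with hf
  have hfs : Function.Surjective f := QuotientGroup.mk'_surjective _
  have hcom : (Subgroup.zpowers (f a)).comap f = C := by
    rw [← MonoidHom.map_zpowers, Subgroup.comap_map_eq_self (by rw [hf, QuotientGroup.ker_mk']; exact hZC)]
  have hord : orderOf (f a) = 2 ^ (n - 2) := by
    have h1 : Nat.card (G ⧸ Subgroup.center G) * 2 = 2 ^ n := by
      have h := Subgroup.card_eq_card_quotient_mul_card_subgroup (Subgroup.center G)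
      rw [hn, hZ2] at h
      exact h.symm
    have h2 := (Subgroup.zpowers (f a)).card_mul_index
    rw [← Subgroup.index_comap_of_surjective _ hfs, hcom, ha, Nat.card_zpowers] at h2
    rw [← h2, show 2 ^ n = 2 ^ (n - 2) * 2 * 2 by
      rw [← pow_succ, ← pow_succ]; congr 1; omega] at h1
    omega
  have hbnot : f b ∉ Subgroup.zpowers (f a) := fun h => hb (hcom ▸ h)
  obtain ⟨e⟩ := TwoLift.dihedral_equiv (n := 2 ^ (n - 2)) hord
    (g := f b) (by rw [← map_mul]; exact (QuotientGroup.eq_one_iff _).2 hbb)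
    (by
      refine eq_inv_of_mul_eq_one_right ?_
      rw [← map_inv, ← map_mul, ← map_mul, ← map_mul]
      exact (QuotientGroup.eq_one_iff _).2 (hinv a (Subgroup.mem_zpowers a)))
    hbnot (H := ⊤) (by
      symm
      rw [eq_top_iff]
      intro y _
      obtain ⟨x, rfl⟩ := hfs y
      have hsub : ∀ c ∈ C, f c ∈ Subgroup.closure ({f a, f b} : Set _) := by
        rintro _ ⟨i, rfl⟩
        rw [map_zpow]
        exact zpow_mem (Subgroup.subset_closure (Set.mem_insert _ _)) i
      by_cases hx : x ∈ C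
      · exact hsub x hx
      · have : x * b⁻¹ ∈ C := by
          rw [Subgroup.mul_mem_iff_of_index_two ha]; simp [hx, hb]
        rw [show x = x * b⁻¹ * b by group, map_mul]
        exact mul_mem (hsub _ this) (Subgroup.subset_closure (Set.mem_insert_of_mem _ rfl)))
  exact ⟨Subgroup.topEquiv.symm.trans e⟩

/-- A 2-group with abelianization of order four has maximal class. -/
theorem class_eq_of_index_four (n : ℕ) : ∀ (G : Type u) [Group G] [Finite G], Nat.card G = 2 ^ n →
    3 ≤ n → (commutator G).index = 4 → Group.nilpotencyClass G = n - 1 := by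
  induction n with
  | zero => intro G _ _ _ h3; omega
  | succ m ih =>
    intro G _ _ hn h3 hci
    haveI : Fact (Nat.Prime 2) := ⟨Nat.prime_two⟩
    haveI : Nontrivial G := Finite.one_lt_card_iff_nontrivial.1
      (by rw [hn]; exact Nat.one_lt_two_pow (by omega))
    haveI := (IsPGroup.of_card hn).isNilpotent
    obtain ⟨a, ha⟩ := exists_cyclic_index_two _ G hn h3 hci
    have hCa : ∀ x ∈ Subgroup.zpowers a, ∀ y ∈ Subgroup.zpowers a, x * y = y * x := by
      rintro _ ⟨i, rfl⟩ _ ⟨j, rfl⟩
      exact ((Commute.refl a).zpow_zpow i j).eq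
    obtain ⟨b, hb⟩ : ∃ b, b ∉ Subgroup.zpowers a := by
      by_contra h
      push Not at h
      rw [(Subgroup.eq_top_iff' _).2 h, Subgroup.index_top] at ha
      omega
    obtain ⟨hZ2, hZR, -, -, -, -⟩ := abelian_index_two hn h3 hci _ ha hCa hb
    rw [Group.nilpotencyClass_eq_quotient_center_plus_one]
    set Z := Subgroup.center G with hZ
    have hQ : Nat.card (G ⧸ Z) = 2 ^ m := by
      have h := Subgroup.card_eq_card_quotient_mul_card_subgroup Z
      rw [hn, hZ2, pow_succ] at h
      exact (Nat.eq_of_mul_eq_mul_right two_pos h).symm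
    rcases (by omega : m = 2 ∨ 3 ≤ m) with rfl | hm
    · haveI : Nontrivial (G ⧸ Z) :=
        Finite.one_lt_card_iff_nontrivial.1 (by rw [hQ]; norm_num)
      have h1 : Group.nilpotencyClass (G ⧸ Z) ≤ 1 := by
        rw [Group.IsNilpotent.nilpotencyClass_le_one_iff]
        exact IsPGroup.isMulCommutative_of_card_eq_prime_sq hQ
      have h2 : Group.nilpotencyClass (G ⧸ Z) ≠ 0 := fun h =>
        not_subsingleton (G ⧸ Z) (Group.nilpotencyClass_zero_iff_subsingleton.1 h)
      change Group.nilpotencyClass (G ⧸ Z) + 1 = _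
      omega
    · suffices hQc : (commutator (G ⧸ Z)).index = 4 by
        rw [ih (G ⧸ Z) hQ hm hQc]
        omega
      have hfs := QuotientGroup.mk'_surjective Z
      rw [commutator_def, ← Subgroup.map_top_of_surjective _ hfs, ← Subgroup.map_commutator,
        ← commutator_def, Subgroup.index_map_eq _ hfs (by rw [QuotientGroup.ker_mk']; exact hZR), hci]

theorem class_iff_kleinFour [Finite G] {n : ℕ} (h3 : 3 ≤ n) (hn : Nat.card G = 2 ^ n) :
    Group.nilpotencyClass G = n - 1 ↔ IsKleinFour (G ⧸ commutator G) := by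
  haveI : Fact (Nat.Prime 2) := ⟨Nat.prime_two⟩
  constructor
  · intro hcl
    have h4 : Nat.card (G ⧸ commutator G) = 4 := by
      rw [← Subgroup.index_eq_card, index_commutator_eq hn h3 hcl]; norm_num
    haveI : Nontrivial (G ⧸ commutator G) := Finite.one_lt_card_iff_nontrivial.1 (by omega)
    refine ⟨h4, ?_⟩
    have hdvd : Monoid.exponent (G ⧸ commutator G) ∣ 2 := Monoid.exponent_dvd_of_forall_pow_eq_one
      (pow_eq_one_of_index_sq (IsPGroup.of_card hn) (commutator_ne_bot hn h3 hcl)
        (index_commutator_eq hn h3 hcl))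
    rcases (Nat.dvd_prime Nat.prime_two).1 hdvd with h | h
    · exact absurd (Monoid.exp_eq_one_iff.1 h) (not_subsingleton _)
    · exact h
  · intro h
    exact class_eq_of_index_four n G hn h3 (by rw [Subgroup.index_eq_card]; exact h.card_four)

end Cfsg.Agent.MaxClass
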