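import Cfsg.Prelude.Def_OddOrderLocal
import Cfsg.Prelude.Def_Transfer
import Cfsg.Agent.Lib.PLocal.MaxClass
import Cfsg.Agent.Lib.PLocal.ClassThree
import Cfsg.Agent.Lib.FiniteGroup.Regular
import Cfsg.Agent.Lib.OddOrder.OmegaCentral
import Cfsg.Agent.Lib.Transfer.PGroup
import Cfsg.Agent.Lib.FGStruct.SubgroupCount

/-!
`p`-groups of small rank for `p > 3`: elements of order `p`, regularity, Huppert's metacyclicity.
-/

set_option autoImplicit false
set_option linter.unusedSectionVars false
set_option linter.style.haveILetI false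
open scoped commutatorElement

namespace Cfsg.Agent.OmegaSmall

universe u

variable {p : ℕ} [hp : Fact p.Prime]

theorem lcs_three {G : Type u} [Group G] :
    (⊤ : Subgroup G).lowerCentralSeries 3 = ⁅⁅commutator G, (⊤ : Subgroup G)⁆, (⊤ : Subgroup G)⁆ := by
  rw [Subgroup.lowerCentralSeries_succ, Subgroup.lowerCentralSeries_succ,
    Subgroup.top_lowerCentralSeries_one]

theorem lcs_three_eq_bot_of_card {G : Type u} [Group G] [Finite G] (hG : IsPGroup p G) {n : ℕ}
    (hn : Nat.card G = p ^ n) (h4 : n ≤ 4) : (⊤ : Subgroup G).lowerCentralSeries 3 = ⊥ := by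
  refine Subgroup.card_eq_one.1 (le_antisymm ?_ Nat.card_pos)
  have := MaxClass.card_lcs_le hG n hn 2
  rwa [show n - 2 - 2 = 0 by omega, pow_zero] at this

theorem card_le_cube {X : Type u} [Group X] [Finite X] (hp2 : p ≠ 2) (hX : IsPGroup p X)
    (hexp : ∀ x : X, x ^ p = 1)
    (hrk : ∀ E : Subgroup X, Cfsg.IsElementaryAbelian p E → Nat.card E ≤ p ^ 2) :
    Nat.card X ≤ p ^ 3 := by
  classical
  obtain ⟨A, -, hA⟩ := Finite.exists_le_maximal (a := (⊥ : Subgroup X))
    (p := fun A : Subgroup X => A.Normal ∧ Cfsg.IsElementaryAbelian p A)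
    ⟨inferInstance, ⟨⟨fun a b => Subsingleton.elim _ _⟩⟩, fun a _ => hexp a⟩
  obtain ⟨⟨hAn, hAe⟩, hAmax⟩ := hA
  haveI := hAn
  have hle : Subgroup.centralizer (A : Set X) ≤ A := fun x hx =>
    OddOrder.OmegaCen.mem_of_centralizes hp2 hX A hAe
      (fun B hBn hBe hAB => le_antisymm (hAmax ⟨hBn, hBe⟩ hAB) hAB) hx (hexp x)
  have h := OddOrder.OmegaCen.card_le_mul_inf_centralizer hX A (hrk A hAe) hAe.1 ⊤
  rw [top_inf_eq, Subgroup.card_top] at h
  refine h.trans ?_
  rw [pow_succ' p 2]
  exact Nat.mul_le_mul_left _ ((Subgroup.card_le_of_le hle).trans (hrk A hAe))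

theorem mul_pow_of_rank (hp3 : 3 < p) : ∀ (n : ℕ) (R : Type u) [Group R] [Finite R],
    Nat.card R ≤ n → IsPGroup p R →
    (∀ E : Subgroup R, Cfsg.IsElementaryAbelian p E → Nat.card E ≤ p ^ 2) →
    ∀ x z : R, x ^ p = 1 → z ^ p = 1 → (x * z) ^ p = 1 := by
  intro n
  induction n with
  | zero => intro R _ _ h; exact absurd h (by simp [Nat.card_pos.ne'])
  | succ n ih =>
    intro R _ _ hn hR hrk x z hx hz
    classical
    -- the induction hypothesis for proper subgroups
    have sub : ∀ H : Subgroup R, H ≠ ⊤ → ∀ a ∈ H, ∀ b ∈ H, a ^ p = 1 → b ^ p = 1 →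
        (a * b) ^ p = 1 := by
      intro H hH a ha b hb hap hbp
      have hlt : Nat.card H < Nat.card R := lt_of_le_of_ne (Subgroup.card_le_card_group H)
        fun e => hH (Subgroup.card_eq_iff_eq_top H |>.1 e)
      have := ih H (by omega) (hR.to_subgroup H) ?_ ⟨a, ha⟩ ⟨b, hb⟩ (Subtype.ext hap) (Subtype.ext hbp)
      · exact congrArg Subtype.val this
      · intro E hE
        rw [← Subgroup.card_map_of_injective H.subtype_injective]
        refine hrk _ ⟨⟨⟨?_⟩⟩, ?_⟩
        · rintro ⟨_, e, he, rfl⟩ ⟨_, f, hf, rfl⟩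
          exact Subtype.ext (congrArg (fun t : E => ((t : H) : R)) (hE.1.is_comm.comm ⟨e, he⟩ ⟨f, hf⟩))
        · rintro _ ⟨e, he, rfl⟩
          rw [← map_pow, hE.2 e he, map_one]
    by_cases htop : Subgroup.closure ({x, z} : Set R) = ⊤
    swap
    · exact sub _ htop x (Subgroup.subset_closure (by simp)) z (Subgroup.subset_closure (by simp)) hx hz
    by_cases hcyc : Subgroup.zpowers x = ⊤
    · obtain ⟨k, hk⟩ := Subgroup.mem_zpowers_iff.1 (hcyc.symm ▸ Subgroup.mem_top z : z ∈ Subgroup.zpowers x)
      rw [← hk, ← zpow_one_add, ← zpow_natCast, ← zpow_mul, mul_comm, zpow_mul, zpow_natCast, hx, one_zpow]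
    obtain ⟨M, hM, hxM⟩ := (eq_top_or_exists_le_coatom (Subgroup.zpowers x)).resolve_left hcyc
    obtain ⟨hMn, hMi⟩ := PGroupBasics.index_of_isCoatom hR hM
    haveI := hMn
    set S : Set R := {m | m ∈ M ∧ m ^ p = 1} with hS
    set X : Subgroup R := Subgroup.closure S with hX
    have hXM : X ≤ M := (Subgroup.closure_le _).2 fun m hm => hm.1
    have hexp : ∀ m ∈ X, m ^ p = 1 := by
      intro m hm
      induction hm using Subgroup.closure_induction with
      | mem a ha => exact ha.2
      | one => exact one_pow p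
      | mul a b ha hb iha ihb => exact sub M hM.1 a (hXM ha) b (hXM hb) iha ihb
      | inv a _ iha => rw [inv_pow, iha, inv_one]
    haveI hXn : X.Normal := by
      refine ⟨fun m hm g => Subgroup.subset_closure ⟨hMn.conj_mem m (hXM hm) g, ?_⟩⟩
      rw [conj_pow, hexp m hm, mul_one, mul_inv_cancel]
    have hcard : Nat.card X ≤ p ^ 3 := by
      refine card_le_cube (by omega) (hR.to_subgroup X) (fun a => Subtype.ext (hexp a a.2)) ?_
      intro E hE
      rw [← Subgroup.card_map_of_injective X.subtype_injective]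
      refine hrk _ ⟨⟨⟨?_⟩⟩, ?_⟩
      · rintro ⟨_, e, he, rfl⟩ ⟨_, f, hf, rfl⟩
        exact Subtype.ext (congrArg (fun t : E => ((t : X) : R)) (hE.1.is_comm.comm ⟨e, he⟩ ⟨f, hf⟩))
      · rintro _ ⟨e, he, rfl⟩
        rw [← map_pow, hE.2 e he, map_one]
    have hall : X ⊔ Subgroup.zpowers z = ⊤ := by
      rw [eq_top_iff, ← htop, Subgroup.closure_le]
      rintro _ (rfl | rfl)
      · exact Subgroup.mem_sup_left (Subgroup.subset_closure ⟨hxM (Subgroup.mem_zpowers _), hx⟩)
      · exact Subgroup.mem_sup_right (Subgroup.mem_zpowers _)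
    have hR4 : Nat.card R ≤ p ^ 4 := by
      have h1 := X.card_mul_index
      have h2 : X.index ≤ p := by
        have hsurj : Function.Surjective ((QuotientGroup.mk' X).comp (Subgroup.zpowers z).subtype) := by
          intro y
          obtain ⟨r, rfl⟩ := QuotientGroup.mk'_surjective X y
          obtain ⟨a, ha, b, hb, rfl⟩ := Subgroup.mem_sup_of_normal_left.1 (hall ▸ Subgroup.mem_top r)
          refine ⟨⟨b, hb⟩, ?_⟩
          rw [MonoidHom.comp_apply, map_mul, QuotientGroup.mk'_apply _ a, (QuotientGroup.eq_one_iff a).2 ha,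
            one_mul]
          rfl
        rw [Subgroup.index_eq_card]
        refine (Nat.card_le_card_of_surjective _ hsurj).trans ?_
        rw [Nat.card_zpowers]
        exact orderOf_le_of_pow_eq_one hp.out.pos hz
      rw [← h1, show (4 : ℕ) = 3 + 1 from rfl, pow_succ]
      exact Nat.mul_le_mul hcard h2
    obtain ⟨m, hm⟩ := IsPGroup.iff_card.1 hR
    have hm4 : m ≤ 4 := (Nat.pow_le_pow_iff_right hp.out.one_lt).1 (hm ▸ hR4)
    have hcl := lcs_three_eq_bot_of_card hR hm hm4
    rw [lcs_three] at hcl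
    rw [ClassThree.mul_pow_prime (Or.inr ⟨hp3, hcl⟩)
      (Or.inl ⟨hx, hz⟩), hx, hz, one_mul]

section Regular

variable {L : Type u} [Group L] [Finite L]

/-- In a regular group the elements of order dividing `p` form the subgroup they generate. -/
theorem mem_omega (hL : Cfsg.IsRegularPGroup p L) {x : L}
    (hx : x ∈ Cfsg.omegaOne p (⊤ : Subgroup L)) : x ^ p = 1 := by
  induction hx using Subgroup.closure_induction with
  | mem a ha => exact ha.2
  | one => exact one_pow p
  | mul a b _ _ iha ihb =>
    have := RegularP.mul_pow_eq_one hL 1 (a := a) (b := b) (by rwa [pow_one]) (by rwa [pow_one])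
    rwa [pow_one] at this
  | inv a _ iha => rw [inv_pow, iha, inv_one]

theorem card_omega (hL : Cfsg.IsRegularPGroup p L) :
    Nat.card (Cfsg.omegaOne p (⊤ : Subgroup L)) = (Cfsg.powerClosure p 1 (⊤ : Subgroup L)).index := by
  set O := Cfsg.omegaOne p (⊤ : Subgroup L) with hO
  set U := Cfsg.powerClosure p 1 (⊤ : Subgroup L) with hU
  have hset := RegularP.powerClosure_eq (RegularP.levelReg_of_regular hL 1) (⊤ : Subgroup L)
  have key : ∀ a b : L, a⁻¹ * b ∈ O ↔ a ^ p = b ^ p := by
    intro a b
    have h := RegularP.pow_eq_iff hL 1 a b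
    rw [pow_one] at h
    rw [h]
    exact ⟨mem_omega hL, fun e => Subgroup.subset_closure ⟨Subgroup.mem_top _, e⟩⟩
  let f : L ⧸ O → U := Quotient.lift
    (fun a : L => (⟨a ^ p, Subgroup.subset_closure ⟨a, Subgroup.mem_top a, by rw [pow_one]⟩⟩ : U))
    (fun a b h => Subtype.ext ((key a b).1 (QuotientGroup.leftRel_apply.1 h)))
  have hb : Function.Bijective f := by
    constructor
    · intro a b h
      induction a using QuotientGroup.induction_on with | _ a => ?_
      induction b using QuotientGroup.induction_on with | _ b => ?_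
      exact QuotientGroup.eq.2 ((key a b).2 (congrArg Subtype.val h))
    · rintro ⟨y, hy⟩
      rw [hU, ← SetLike.mem_coe, ← hset] at hy
      obtain ⟨a, -, rfl⟩ := hy
      exact ⟨(a : L ⧸ O), Subtype.ext (show a ^ p = a ^ p ^ 1 by rw [pow_one])⟩
  have h1 : O.index = Nat.card U := by rw [Subgroup.index]; exact Nat.card_eq_of_bijective f hb
  have h2 := O.card_mul_index
  have h3 := U.index_mul_card
  rw [← h3, h1] at h2
  exact Nat.eq_of_mul_eq_mul_right Nat.card_pos h2

instance normal_powerClosure_top (k : ℕ) : (Cfsg.powerClosure p k (⊤ : Subgroup L)).Normal :=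
  Subgroup.normalizer_eq_top_iff.1 (top_le_iff.1
    (RegularP.normalizer_powerClosure (le_of_eq (Subgroup.normalizer_eq_top_iff.2 inferInstance).symm)))

theorem map_powerClosure_le {M : Type u} [Group M] (f : L →* M) (k : ℕ) (H : Subgroup L) :
    (Cfsg.powerClosure p k H).map f ≤ Cfsg.powerClosure p k (H.map f) := by
  rw [Cfsg.powerClosure, MonoidHom.map_closure, Subgroup.closure_le]
  rintro _ ⟨_, ⟨x, hx, rfl⟩, rfl⟩
  exact Subgroup.subset_closure ⟨f x, Subgroup.mem_map_of_mem f hx, map_pow f x _⟩

theorem regular_quotient (hL : Cfsg.IsRegularPGroup p L) (T : Subgroup L) [T.Normal] :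
    Cfsg.IsRegularPGroup p (L ⧸ T) := by
  refine ⟨hL.1.to_quotient T, fun a b n => ?_⟩
  obtain ⟨a, rfl⟩ := QuotientGroup.mk'_surjective T a
  obtain ⟨b, rfl⟩ := QuotientGroup.mk'_surjective T b
  obtain ⟨c, hc, he⟩ := hL.2 a b n
  refine ⟨QuotientGroup.mk' T c, ?_, ?_⟩
  · have h := map_powerClosure_le (p := p) (QuotientGroup.mk' T) n _ (Subgroup.mem_map_of_mem _ hc)
    rw [Subgroup.map_commutator, MonoidHom.map_closure, Set.image_pair] at h
    exact h
  · rw [← map_mul, ← map_pow, he, map_mul, map_mul, map_pow, map_pow]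

theorem index_powerClosure_quotient_le (T : Subgroup L) [T.Normal] :
    (Cfsg.powerClosure p 1 (⊤ : Subgroup (L ⧸ T))).index ≤
      (Cfsg.powerClosure p 1 (⊤ : Subgroup L) ⊔ T).index := by
  have h1 : ((Cfsg.powerClosure p 1 (⊤ : Subgroup L)).map (QuotientGroup.mk' T)) ≤
      Cfsg.powerClosure p 1 (⊤ : Subgroup (L ⧸ T)) := by
    have h := map_powerClosure_le (p := p) (QuotientGroup.mk' T) 1 (⊤ : Subgroup L)
    rwa [← MonoidHom.range_eq_map, MonoidHom.range_eq_top.2 (QuotientGroup.mk'_surjective T)] at h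
  refine (Nat.le_of_dvd (Nat.pos_of_ne_zero Subgroup.index_ne_zero_of_finite)
    (Subgroup.index_dvd_of_le h1)).trans (le_of_eq ?_)
  rw [Subgroup.index_map, QuotientGroup.ker_mk', MonoidHom.range_eq_top.2 (QuotientGroup.mk'_surjective T),
    Subgroup.index_top, mul_one]

end Regular

theorem regular_of_omega_le (hp3 : 3 < p) : ∀ (n : ℕ) (R : Type u) [Group R] [Finite R],
    Nat.card R ≤ n → IsPGroup p R → Nat.card (Cfsg.omegaOne p (⊤ : Subgroup R)) ≤ p ^ 2 →
    Cfsg.IsRegularPGroup p R := by
  intro n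
  induction n with
  | zero => intro R _ _ h; exact absurd h (by simp [Nat.card_pos.ne'])
  | succ n ih =>
    intro R _ _ hn hR hO
    classical
    refine RegularP.regular_of_levelOne ⟨hR, fun a b => ?_⟩
    set K := Subgroup.closure ({a, b} : Set R) with hK
    set D := ⁅K, K⁆ with hD
    have hDK : D ≤ K := Subgroup.commutator_le_self K
    by_cases hKab : commutator K = ⊥
    · refine ⟨1, one_mem _, ?_⟩
      have hc : Commute a b := by
        have haK : a ∈ K := Subgroup.subset_closure (by simp)
        have hbK : b ∈ K := Subgroup.subset_closure (by simp)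
        have := Subgroup.commutator_mem_commutator (Subgroup.mem_top (⟨a, haK⟩ : K))
          (Subgroup.mem_top (⟨b, hbK⟩ : K))
        rw [← commutator_def, hKab] at this
        exact congrArg Subtype.val (commutatorElement_eq_one_iff_commute.1 (Subgroup.mem_bot.1 this)).eq
      rw [mul_one, hc.mul_pow]
    haveI : Group.IsNilpotent K := (hR.to_subgroup K).isNilpotent
    have hlt : Nat.card (commutator K) < Nat.card R := by
      have h1 : commutator K < ⊤ := by
        have h := MaxClass.succ_lt (G := K) (k := 0) (by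
          rw [Subgroup.lowerCentralSeries_zero]
          intro e
          apply hKab
          rw [eq_bot_iff]
          exact fun g _ => e ▸ Subgroup.mem_top g)
        rwa [Subgroup.top_lowerCentralSeries_one, Subgroup.lowerCentralSeries_zero] at h
      refine lt_of_lt_of_le ?_ (Subgroup.card_le_card_group K)
      exact lt_of_le_of_ne (Subgroup.card_le_card_group _)
        fun e => h1.ne (Subgroup.card_eq_iff_eq_top _ |>.1 e)
    have hreg : Cfsg.IsRegularPGroup p (commutator K) := by
      refine ih _ (by omega) ((hR.to_subgroup K).to_subgroup _) (le_trans ?_ hO)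
      set g : commutator K →* R := K.subtype.comp (commutator K).subtype
      rw [← Subgroup.card_map_of_injective (f := g) (K.subtype_injective.comp (commutator K).subtype_injective)]
      refine Subgroup.card_le_of_le ?_
      rw [Cfsg.omegaOne, MonoidHom.map_closure]
      refine Subgroup.closure_mono ?_
      rintro _ ⟨y, ⟨-, hy⟩, rfl⟩
      exact ⟨Subgroup.mem_top _, by rw [← map_pow, hy, map_one]⟩
    -- the power subgroup of the derived group
    set N : Subgroup K := Cfsg.powerClosure p 1 (commutator K) with hN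
    haveI hNn : N.Normal := Subgroup.normalizer_eq_top_iff.1 (top_le_iff.1
      (RegularP.normalizer_powerClosure (le_of_eq (Subgroup.normalizer_eq_top_iff.2 inferInstance).symm)))
    have hsq : Nat.card (commutator (K ⧸ N)) ≤ p ^ 2 := by
      have e1 : commutator (K ⧸ N) = (commutator K).map (QuotientGroup.mk' N) := by
        rw [commutator_def, commutator_def, Subgroup.map_commutator, ← MonoidHom.range_eq_map,
          MonoidHom.range_eq_top.2 (QuotientGroup.mk'_surjective N)]
      set U := Cfsg.powerClosure p 1 (⊤ : Subgroup (commutator K)) with hU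
      have hUN : U.map (commutator K).subtype ≤ N := by
        refine (map_powerClosure_le (p := p) (commutator K).subtype 1 ⊤).trans ?_
        rw [← MonoidHom.range_eq_map, Subgroup.range_subtype]
      set f : commutator K →* K ⧸ N := (QuotientGroup.mk' N).comp (commutator K).subtype with hf
      have hr : f.range = commutator (K ⧸ N) := by
        rw [e1, hf, MonoidHom.range_comp, Subgroup.range_subtype]
      have hker : U ≤ f.ker := fun u hu => by
        rw [MonoidHom.mem_ker, hf, MonoidHom.comp_apply, QuotientGroup.mk'_apply, QuotientGroup.eq_one_iff]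
        exact hUN (Subgroup.mem_map_of_mem _ hu)
      rw [← hr, ← Subgroup.index_ker]
      refine (Nat.le_of_dvd (Nat.pos_of_ne_zero Subgroup.index_ne_zero_of_finite)
        (Subgroup.index_dvd_of_le hker)).trans ?_
      rw [← card_omega hreg]
      refine le_trans ?_ hO
      set g : commutator K →* R := K.subtype.comp (commutator K).subtype
      rw [← Subgroup.card_map_of_injective (f := g) (K.subtype_injective.comp (commutator K).subtype_injective)]
      refine Subgroup.card_le_of_le ?_
      rw [Cfsg.omegaOne, MonoidHom.map_closure]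
      refine Subgroup.closure_mono ?_
      rintro _ ⟨y, ⟨-, hy⟩, rfl⟩
      exact ⟨Subgroup.mem_top _, by rw [← map_pow, hy, map_one]⟩
    have hexp : ∀ w ∈ commutator (K ⧸ N), w ^ p = 1 := by
      intro w hw
      rw [commutator_def, ← MonoidHom.range_eq_top.2 (QuotientGroup.mk'_surjective N),
        MonoidHom.range_eq_map, ← Subgroup.map_commutator, Subgroup.mem_map] at hw
      obtain ⟨d, hd, rfl⟩ := hw
      rw [← map_pow, QuotientGroup.mk'_apply, QuotientGroup.eq_one_iff]
      exact Subgroup.subset_closure ⟨d, hd, by rw [pow_one]⟩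
    have hlcs : (⊤ : Subgroup (K ⧸ N)).lowerCentralSeries 3 = ⊥ := by
      have hQ : IsPGroup p (K ⧸ N) := (hR.to_subgroup K).to_quotient N
      by_contra h3
      have h2 : (⊤ : Subgroup (K ⧸ N)).lowerCentralSeries 2 ≠ ⊥ := fun e => h3 (le_bot_iff.1
        (e ▸ Subgroup.lowerCentralSeries_antitone _ (by omega : 2 ≤ 3)))
      have h1 : (⊤ : Subgroup (K ⧸ N)).lowerCentralSeries 1 ≠ ⊥ := fun e => h2 (le_bot_iff.1
        (e ▸ Subgroup.lowerCentralSeries_antitone _ (by omega : 1 ≤ 2)))
      have c1 := MaxClass.mul_card_succ_le hQ h1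
      have c2 := MaxClass.mul_card_succ_le hQ h2
      have c3 : 1 < Nat.card ((⊤ : Subgroup (K ⧸ N)).lowerCentralSeries 3) :=
        (Subgroup.one_lt_card_iff_ne_bot _).2 h3
      rw [Subgroup.top_lowerCentralSeries_one] at c1
      have : p * (p * Nat.card ((⊤ : Subgroup (K ⧸ N)).lowerCentralSeries 3)) ≤ p * (p * 1) :=
        (Nat.mul_le_mul_left p c2).trans (c1.trans (hsq.trans (le_of_eq (by ring))))
      have := Nat.le_of_mul_le_mul_left (Nat.le_of_mul_le_mul_left this hp.out.pos) hp.out.pos
      omega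
    rw [lcs_three] at hlcs
    set a' : K := ⟨a, Subgroup.subset_closure (by simp)⟩ with ha'
    set b' : K := ⟨b, Subgroup.subset_closure (by simp)⟩ with hb'
    have heq := ClassThree.mul_pow_prime (G := K ⧸ N) (Or.inr ⟨hp3, hlcs⟩)
      (a := QuotientGroup.mk' N a') (b := QuotientGroup.mk' N b') (Or.inr hexp)
    rw [← map_mul, ← map_pow, ← map_pow, ← map_pow, ← map_mul, eq_comm, QuotientGroup.mk'_eq_mk'] at heq
    obtain ⟨c, hc, he⟩ := heq
    refine ⟨(c : R), ?_, ?_⟩
    · have h := map_powerClosure_le (p := p) K.subtype 1 (commutator K) (Subgroup.mem_map_of_mem _ hc)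
      rwa [Subgroup.map_subtype_commutator] at h
    · rw [pow_one]
      have := congrArg (Subtype.val) he
      simpa [ha', hb'] using this.symm

theorem isCyclic_quotient {R : Type u} [Group R] [Finite R] (hR : Cfsg.IsRegularPGroup p R)
    {N : Subgroup R} [N.Normal] (hN : commutator R ≤ N)
    (hidx : (Cfsg.powerClosure p 1 (⊤ : Subgroup R) ⊔ N).index ≤ p) : IsCyclic (R ⧸ N) := by
  have hQ := regular_quotient hR N
  refine SubgroupCount.isCyclic_of_card_le hp.out hQ.1 ?_ ?_
  · intro a b
    obtain ⟨a, rfl⟩ := QuotientGroup.mk'_surjective N a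
    obtain ⟨b, rfl⟩ := QuotientGroup.mk'_surjective N b
    rw [← commutatorElement_eq_one_iff_mul_comm, ← map_commutatorElement, QuotientGroup.mk'_apply,
      QuotientGroup.eq_one_iff]
    exact hN (Subgroup.commutator_mem_commutator (Subgroup.mem_top a) (Subgroup.mem_top b))
  · have h : Nat.card {x : R ⧸ N // x ^ p = 1} = Nat.card (Cfsg.omegaOne p (⊤ : Subgroup (R ⧸ N))) :=
      Nat.card_congr (Equiv.subtypeEquivRight fun x =>
        ⟨fun h => Subgroup.subset_closure ⟨Subgroup.mem_top x, h⟩, mem_omega hQ⟩)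
    rw [h, card_omega hQ]
    exact (index_powerClosure_quotient_le N).trans hidx

/-- A normal cyclic subgroup above the derived group, not inside the `p`-th powers, gives metacyclicity. -/
theorem isMetacyclic_of_not_mem {R : Type u} [Group R] [Finite R] (hR : Cfsg.IsRegularPGroup p R)
    (hidx : (Cfsg.powerClosure p 1 (⊤ : Subgroup R)).index ≤ p ^ 2) {x : R}
    (hx : x ∉ Cfsg.powerClosure p 1 (⊤ : Subgroup R)) (hD : commutator R ≤ Subgroup.zpowers x) :
    Cfsg.IsMetacyclic R := by
  haveI hn : (Subgroup.zpowers x).Normal := Subgroup.Normal.of_commutator_le (G := R) hD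
  refine ⟨Subgroup.zpowers x, hn, Subgroup.isCyclic_zpowers x, isCyclic_quotient hR hD ?_⟩
  set U := Cfsg.powerClosure p 1 (⊤ : Subgroup R) with hU
  have hle : U ≤ U ⊔ Subgroup.zpowers x := le_sup_left
  have hne : ¬ U ⊔ Subgroup.zpowers x ≤ U := fun h => hx (h (Subgroup.mem_sup_right (Subgroup.mem_zpowers x)))
  have h1 := Subgroup.relIndex_mul_index hle
  obtain ⟨j, hj⟩ := hR.1.index U
  have hr1 : U.relIndex (U ⊔ Subgroup.zpowers x) ≠ 1 := fun e => hne (Subgroup.relIndex_eq_one.1 e)
  obtain ⟨i, -, hi⟩ := (Nat.dvd_prime_pow hp.out).1 (hj ▸ Dvd.intro _ h1 :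
    U.relIndex (U ⊔ Subgroup.zpowers x) ∣ p ^ j)
  have hi0 : i ≠ 0 := fun e => hr1 (by rw [hi, e, pow_zero])
  refine Nat.le_of_mul_le_mul_left ?_ hp.out.pos
  calc p * (U ⊔ Subgroup.zpowers x).index
      ≤ U.relIndex (U ⊔ Subgroup.zpowers x) * (U ⊔ Subgroup.zpowers x).index :=
        Nat.mul_le_mul_right _ (hi ▸ Nat.le_self_pow hi0 p)
    _ = U.index := h1
    _ ≤ p ^ 2 := hidx
    _ = p * p := sq p

theorem isMetacyclic_of_omega_le (hp3 : 3 < p) : ∀ (n : ℕ) (R : Type u) [Group R] [Finite R],
    Nat.card R ≤ n → IsPGroup p R → Nat.card (Cfsg.omegaOne p (⊤ : Subgroup R)) ≤ p ^ 2 →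
    Cfsg.IsMetacyclic R := by
  intro n
  induction n with
  | zero => intro R _ _ h; exact absurd h (by simp [Nat.card_pos.ne'])
  | succ n ih =>
    intro R _ _ hn hR hO
    classical
    have hreg := regular_of_omega_le hp3 _ R le_rfl hR hO
    set U := Cfsg.powerClosure p 1 (⊤ : Subgroup R) with hU
    have hidx : U.index ≤ p ^ 2 := card_omega hreg ▸ hO
    have hpows : ∀ y ∈ U, ∃ x : R, y = x ^ p := by
      intro y hy
      rw [hU, ← SetLike.mem_coe, ← RegularP.powerClosure_eq (RegularP.levelReg_of_regular hreg 1)] at hy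
      obtain ⟨x, -, hx⟩ := hy
      exact ⟨x, by rw [hx, pow_one]⟩
    by_cases hab : commutator R = ⊥
    · by_cases hU1 : U = ⊤
      · haveI : Subsingleton R := by
          have h1 := card_omega hreg
          rw [← hU, hU1, Subgroup.index_top, Subgroup.card_eq_one] at h1
          by_contra hns
          rw [not_subsingleton_iff_nontrivial] at hns
          obtain ⟨m, hm⟩ := IsPGroup.iff_card.1 hR
          have hm0 : m ≠ 0 := by
            rintro rfl
            have := Finite.one_lt_card_iff_nontrivial.2 hns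
            rw [hm, pow_zero] at this
            omega
          obtain ⟨x, hx⟩ := exists_prime_orderOf_dvd_card' p (hm ▸ dvd_pow_self p hm0)
          have : x ∈ Cfsg.omegaOne p (⊤ : Subgroup R) :=
            Subgroup.subset_closure ⟨Subgroup.mem_top x, hx ▸ pow_orderOf_eq_one x⟩
          rw [h1, Subgroup.mem_bot] at this
          rw [this, orderOf_one] at hx
          exact hp.out.one_lt.ne hx
        exact ⟨⊥, inferInstance, isCyclic_of_subsingleton, isCyclic_of_subsingleton⟩
      · obtain ⟨x, hx⟩ : ∃ x, x ∉ U := by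
          by_contra h
          push Not at h
          exact hU1 (eq_top_iff.2 fun g _ => h g)
        exact isMetacyclic_of_not_mem hreg hidx hx (hab ▸ bot_le)
    haveI := hR.isNilpotent
    -- a central subgroup of order `p` inside the derived group
    obtain ⟨z, hzD, hzC, hzp⟩ : ∃ z, z ∈ commutator R ∧ z ∈ Subgroup.center R ∧ orderOf z = p := by
      have hne : commutator R ⊓ Subgroup.center R ≠ ⊥ := SolvStruct.inf_center_ne_bot hab
      obtain ⟨m, hm⟩ := IsPGroup.iff_card.1 (hR.to_subgroup (commutator R ⊓ Subgroup.center R : Subgroup R))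
      have hm0 : m ≠ 0 := by
        rintro rfl
        rw [pow_zero, Subgroup.card_eq_one] at hm
        exact hne hm
      obtain ⟨x, hx⟩ := exists_prime_orderOf_dvd_card' p (hm ▸ dvd_pow_self p hm0)
      exact ⟨x, x.2.1, x.2.2, by rw [Subgroup.orderOf_coe, hx]⟩
    set Z := Subgroup.zpowers z with hZ
    have hcz : ∀ g, Commute g z := fun g => Subgroup.mem_center_iff.1 hzC g
    haveI hZn : Z.Normal := by
      refine ⟨fun y hy g => ?_⟩
      obtain ⟨k, rfl⟩ := Subgroup.mem_zpowers_iff.1 hy
      rwa [((hcz g).zpow_right k).eq, mul_inv_cancel_right]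
    have hQlt : Nat.card (R ⧸ Z) < Nat.card R := by
      rw [Subgroup.card_eq_card_quotient_mul_card_subgroup Z, Nat.card_zpowers, hzp]
      exact lt_mul_of_one_lt_right Nat.card_pos hp.out.one_lt
    have hOQ : Nat.card (Cfsg.omegaOne p (⊤ : Subgroup (R ⧸ Z))) ≤ p ^ 2 := by
      rw [card_omega (regular_quotient hreg Z)]
      refine ((index_powerClosure_quotient_le Z).trans ?_).trans hidx
      exact Nat.le_of_dvd (Nat.pos_of_ne_zero Subgroup.index_ne_zero_of_finite)
        (Subgroup.index_dvd_of_le le_sup_left)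
    obtain ⟨N₀, hN₀n, hN₀c, hQc⟩ := ih (R ⧸ Z) (by omega) (hR.to_quotient Z) hOQ
    set A := N₀.comap (QuotientGroup.mk' Z) with hA
    haveI : A.Normal := hN₀n.comap _
    obtain ⟨a₀, ha₀⟩ := hN₀c.exists_zpow_surjective
    obtain ⟨a, ha⟩ := QuotientGroup.mk'_surjective Z (a₀ : R ⧸ Z)
    have haA : a ∈ A := by rw [hA, Subgroup.mem_comap, ha]; exact a₀.2
    have hAmem : ∀ y ∈ A, ∃ (i j : ℤ), y = a ^ i * z ^ j := by
      intro y hy
      obtain ⟨i, hi⟩ := ha₀ ⟨QuotientGroup.mk' Z y, hy⟩
      have hi' : QuotientGroup.mk' Z (a ^ i) = QuotientGroup.mk' Z y := by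
        rw [map_zpow, ha]; exact congrArg Subtype.val hi
      obtain ⟨w, hw, he⟩ := (QuotientGroup.mk'_eq_mk' Z).1 hi'
      obtain ⟨j, rfl⟩ := Subgroup.mem_zpowers_iff.1 hw
      exact ⟨i, j, he.symm⟩
    obtain ⟨g₀, hg₀⟩ := hQc.exists_zpow_surjective
    obtain ⟨b₁, rfl⟩ := QuotientGroup.mk'_surjective N₀ g₀
    obtain ⟨b, rfl⟩ := QuotientGroup.mk'_surjective Z b₁
    have hgen : ∀ r : R, ∃ k : ℤ, (b ^ k)⁻¹ * r ∈ A := by
      intro r
      obtain ⟨k, hk⟩ := hg₀ (QuotientGroup.mk' N₀ (QuotientGroup.mk' Z r))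
      refine ⟨k, ?_⟩
      rw [hA, Subgroup.mem_comap, map_mul, map_inv, map_zpow]
      exact QuotientGroup.eq.1 ((map_zpow (QuotientGroup.mk' N₀) _ k).trans hk)
    have hzA : ∀ i j : ℤ, a ^ i * z ^ j ∈ A := fun i j => mul_mem (zpow_mem haA i) (by
      rw [hA, Subgroup.mem_comap, QuotientGroup.mk'_apply,
        (QuotientGroup.eq_one_iff _).2 (zpow_mem (Subgroup.mem_zpowers z) j)]
      exact one_mem _)
    by_cases hzA' : z ∈ Subgroup.zpowers a
    · have hAa : A = Subgroup.zpowers a := by
        refine le_antisymm (fun y hy => ?_) (Subgroup.zpowers_le.2 haA)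
        obtain ⟨i, j, rfl⟩ := hAmem y hy
        exact mul_mem (zpow_mem (Subgroup.mem_zpowers a) i) (zpow_mem hzA' j)
      refine ⟨A, inferInstance, hAa ▸ Subgroup.isCyclic_zpowers a, ?_⟩
      refine ⟨⟨QuotientGroup.mk' A b, fun y => ?_⟩⟩
      obtain ⟨r, rfl⟩ := QuotientGroup.mk'_surjective A y
      obtain ⟨k, hk⟩ := hgen r
      exact ⟨k, (map_zpow (QuotientGroup.mk' A) b k).symm.trans (QuotientGroup.eq.2 hk)⟩
    -- here `A = ⟨a⟩ × Z` is not cyclic, and the derived group is `Z`
    have hDZ : commutator R = Z := by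
      have hAc : ∀ u ∈ A, ∀ v ∈ A, Commute u v := by
        intro u hu v hv
        obtain ⟨i, j, rfl⟩ := hAmem u hu
        obtain ⟨i', j', rfl⟩ := hAmem v hv
        have hza : ∀ (s t : ℤ), Commute (a ^ s) (z ^ t) := fun s t => ((hcz a).zpow_left s).zpow_right t
        exact (((Commute.refl a).zpow_zpow i i').mul_right (hza i j')).mul_left
          (((hza i' j).symm).mul_right ((Commute.refl z).zpow_zpow j j'))
      set w := ⁅b, a⁆ with hw
      have hwA : w ∈ A := by
        rw [hw, commutatorElement_def]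
        exact mul_mem (‹A.Normal›.conj_mem a haA b) (inv_mem haA)
      have hhom : ∀ u ∈ A, ∀ v ∈ A, ⁅b, u * v⁆ = ⁅b, u⁆ * ⁅b, v⁆ := by
        intro u hu v hv
        have hv' : ⁅b, v⁆ ∈ A := by
          rw [commutatorElement_def]
          exact mul_mem (‹A.Normal›.conj_mem v hv b) (inv_mem hv)
        have : ⁅b, u * v⁆ = ⁅b, u⁆ * (u * ⁅b, v⁆ * u⁻¹) := by
          simp only [commutatorElement_def]; group
        rw [this, (hAc u hu _ hv').eq, mul_inv_cancel_right]
      let φ : A →* R :=
        { toFun := fun u => ⁅b, (u : R)⁆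
          map_one' := by simp
          map_mul' := fun u v => hhom u u.2 v v.2 }
      have hφ : ∀ i j : ℤ, ⁅b, a ^ i * z ^ j⁆ = w ^ i := by
        intro i j
        have e1 : ⁅b, a ^ i⁆ = w ^ i := by
          have := map_zpow φ ⟨a, haA⟩ i
          simpa [φ] using this
        have e2 : ⁅b, z ^ j⁆ = 1 :=
          commutatorElement_eq_one_iff_commute.2 ((hcz b).zpow_right j)
        rw [hhom _ (zpow_mem haA i) _ (by simpa using hzA 0 j), e1, e2, mul_one]
      set W := Subgroup.zpowers w with hW
      haveI hWn : W.Normal := by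
        rw [← Subgroup.normalizer_eq_top_iff, eq_top_iff]
        intro r _
        obtain ⟨k, hk⟩ := hgen r
        have hr : r = b ^ k * ((b ^ k)⁻¹ * r) := (mul_inv_cancel_left _ _).symm
        rw [hr]
        refine mul_mem (zpow_mem ?_ k) ?_
        · rw [Subgroup.mem_normalizer_iff_map_conj_eq]
          refine Subgroup.eq_of_le_of_card_ge ?_
            (Subgroup.card_map_of_injective (MulAut.conj b).injective).ge
          rw [hW, MonoidHom.map_zpowers, Subgroup.zpowers_le]
          obtain ⟨i, j, hij⟩ := hAmem w hwA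
          have : b * w * b⁻¹ = ⁅b, w⁆ * w := by rw [commutatorElement_def ]; group
          rw [MonoidHom.coe_coe, MulAut.conj_apply, this]
          refine mul_mem ?_ (Subgroup.mem_zpowers w)
          rw [hij, hφ, ← hij]
          exact zpow_mem (Subgroup.mem_zpowers w) i
        · rw [Subgroup.mem_normalizer_iff]
          intro y
          have hfix : ∀ y ∈ W, ((b ^ k)⁻¹ * r) * y * ((b ^ k)⁻¹ * r)⁻¹ = y := fun y hy => by
            rw [(hAc _ hk y (Subgroup.zpowers_le.2 hwA hy)).eq, mul_inv_cancel_right]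
          constructor
          · intro hy; rw [hfix y hy]; exact hy
          · intro hy
            have := hfix _ hy
            simp only [mul_left_inj, mul_right_inj] at this
            rw [this] at hy
            exact hy
      have hDW : commutator R ≤ W := by
        rw [commutator_def, Subgroup.commutator_le]
        intro r _ s _
        set π := QuotientGroup.mk' W with hπ
        have hab' : Commute (π b) (π a) := by
          rw [← commutatorElement_eq_one_iff_commute, ← map_commutatorElement, hπ, QuotientGroup.mk'_apply,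
            QuotientGroup.eq_one_iff]
          exact Subgroup.mem_zpowers w
        have hz' : ∀ t : R, Commute (π t) (π z) := fun t => (hcz t).map π
        have hform : ∀ t : R, ∃ k i j : ℤ, π t = π b ^ k * π a ^ i * π z ^ j := by
          intro t
          obtain ⟨k, hk⟩ := hgen t
          obtain ⟨i, j, hij⟩ := hAmem _ hk
          refine ⟨k, i, j, ?_⟩
          rw [eq_mul_of_inv_mul_eq hij, map_mul, map_mul, map_zpow, map_zpow, map_zpow, mul_assoc]
        obtain ⟨k, i, j, hr⟩ := hform r
        obtain ⟨k', i', j', hs⟩ := hform s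
        rw [← QuotientGroup.eq_one_iff, ← QuotientGroup.mk'_apply, ← hπ, map_commutatorElement,
          commutatorElement_eq_one_iff_commute, hr, hs]
        have hb2 := hab'
        have cb : ∀ n : ℤ, Commute (π b ^ n) (π b ^ k' * π a ^ i' * π z ^ j') := fun n =>
          (((Commute.refl _).zpow_zpow n k').mul_right (hab'.zpow_zpow n i')).mul_right
            ((hz' b).zpow_zpow n j')
        have ca : ∀ n : ℤ, Commute (π a ^ n) (π b ^ k' * π a ^ i' * π z ^ j') := fun n =>
          (((hb2.symm).zpow_zpow n k').mul_right ((Commute.refl _).zpow_zpow n i')).mul_right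
            ((hz' a).zpow_zpow n j')
        have cz : ∀ n : ℤ, Commute (π z ^ n) (π b ^ k' * π a ^ i' * π z ^ j') := fun n =>
          ((((hz' b).symm).zpow_zpow n k').mul_right (((hz' a).symm).zpow_zpow n i')).mul_right
            ((Commute.refl _).zpow_zpow n j')
        exact ((cb k).mul_left (ca i)).mul_left (cz j)
      refine le_antisymm (hDW.trans ?_) (Subgroup.zpowers_le.2 hzD)
      obtain ⟨t, ht⟩ := Submonoid.mem_powers_iff _ _ |>.1
        ((isOfFinOrder_of_finite w).mem_powers_iff_mem_zpowers.2 (hDW hzD))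
      by_cases hpt : p ∣ t
      · obtain ⟨s, rfl⟩ := hpt
        obtain ⟨i, j, hij⟩ := hAmem _ (pow_mem hwA s)
        refine absurd ?_ hzA'
        rw [← ht, mul_comm, pow_mul, hij, (((hcz a).zpow_left i).zpow_right j).mul_pow,
          ← zpow_natCast (z ^ j), ← zpow_mul, mul_comm, zpow_mul, zpow_natCast, ← hzp, pow_orderOf_eq_one,
          one_zpow, mul_one]
        exact pow_mem (zpow_mem (Subgroup.mem_zpowers a) i) _
      · obtain ⟨m, hm⟩ := IsPGroup.iff_orderOf.1 hR w
        have hord : orderOf w = p := by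
          rw [← hzp, ← ht, Nat.Coprime.orderOf_pow]
          rw [hm]
          exact Nat.Coprime.pow_left _ (hp.out.coprime_iff_not_dvd.2 hpt)
        refine (Subgroup.eq_of_le_of_card_ge ?_ ?_).ge
        · rw [hW, hZ, Subgroup.zpowers_le, ← ht]
          exact pow_mem (Subgroup.mem_zpowers w) _
        · rw [hW, hZ, Nat.card_zpowers, Nat.card_zpowers, hord, hzp]
    -- finally choose a root of `z` of largest height
    have hfin : ∃ k, ∃ x : R, x ^ p ^ k = z ∧ x ∉ U := by
      obtain ⟨m, hm⟩ := IsPGroup.iff_card.1 hR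
      by_contra hcon
      push Not at hcon
      have hall : ∀ k, ∃ x : R, x ^ p ^ k = z := by
        intro k
        induction k with
        | zero => exact ⟨z, by rw [pow_zero, pow_one]⟩
        | succ k ih =>
          obtain ⟨x, hx⟩ := ih
          obtain ⟨y, hy⟩ := hpows x (hcon k x hx)
          exact ⟨y, by rw [pow_succ', pow_mul, ← hy, hx]⟩
      obtain ⟨x, hx⟩ := hall m
      rw [← hm, pow_card_eq_one'] at hx
      rw [← hx, orderOf_one] at hzp
      exact hp.out.one_lt.ne hzp
    obtain ⟨k, x, hx, hxU⟩ := hfin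
    refine isMetacyclic_of_not_mem hreg hidx hxU ?_
    rw [hDZ, hZ, Subgroup.zpowers_le, ← hx]
    exact pow_mem (Subgroup.mem_zpowers x) _

end Cfsg.Agent.OmegaSmall
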