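/-
Glauberman's `ZJ`-theorem relative to a strongly closed subgroup of a Sylow subgroup.
-/
import Cfsg.Agent.Lib.PLocal.ZJ
import Cfsg.Prelude.Def_TwoFusion

set_option autoImplicit false
set_option linter.style.haveILetI false
set_option linter.unusedSectionVars false
set_option linter.unusedVariables false

namespace Cfsg.Agent.ZJClosed

open Cfsg.Agent.ZJ (IsMaxIn Sml IsQuad stab jSub zJ zCore exists_better stab_le_normalizer
  normalizer_le_normalizer_jSub normalizer_le_normalizer_zJ normalizer_jSub_le_normalizer_zJ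
  normalizer_zJ_le_normalizer_zCore exists_isMaxIn le_jSub mem_of_centralizes jSub_le zJ_le zJ_comm
  zCore_le_zJ zCore_eq_zJ zCore_le_of_isMaxIn mem_zCore_iff commutator_normalClosure_le
  pow_eq_one_of_closure mul_pow_of_class_two mem_stab mem_centralizer_of_series commute_of_mem_zJ
  le_sylow)

open scoped commutatorElement

variable {G : Type*} [Group G] {p : ℕ} {e : Prop}

theorem sylow_le_normalizer {S : Sylow p G} {D : Subgroup G} (hD : Cfsg.IsStronglyClosed D (S : Subgroup G)) :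
    (S : Subgroup G) ≤ Subgroup.normalizer (D : Set G) := by
  intro x hx
  refine Subgroup.mem_normalizer_iff.2 fun y => ⟨fun hy => hD.2 y hy x
    (mul_mem (mul_mem hx (hD.1 hy)) (inv_mem hx)), fun hy => ?_⟩
  have h1 := hD.2 _ hy x⁻¹
  rw [show x⁻¹ * (x * y * x⁻¹) * x⁻¹⁻¹ = y by group] at h1
  refine h1 ?_
  have := mul_mem (mul_mem (inv_mem hx) (hD.1 hy)) hx
  simpa [mul_assoc] using this

theorem sylow_le_normalizer_zJ {S : Sylow p G} {D : Subgroup G} (hD : Cfsg.IsStronglyClosed D (S : Subgroup G)) :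
    (S : Subgroup G) ≤ Subgroup.normalizer (zJ p e D : Set G) :=
  (sylow_le_normalizer hD).trans (normalizer_le_normalizer_zJ _)

theorem normalizer_inf_le {S : Sylow p G} {D : Subgroup G} (hD : Cfsg.IsStronglyClosed D (S : Subgroup G))
    (L : Subgroup G) [L.Normal] :
    Subgroup.normalizer (((S : Subgroup G) ⊓ L : Subgroup G) : Set G) ≤
      Subgroup.normalizer ((D ⊓ L : Subgroup G) : Set G) := by
  have key : ∀ n ∈ Subgroup.normalizer (((S : Subgroup G) ⊓ L : Subgroup G) : Set G),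
      ∀ x ∈ D ⊓ L, n * x * n⁻¹ ∈ D ⊓ L := by
    intro n hn x hx
    have h1 := (Subgroup.mem_normalizer_iff.1 hn x).1
      (Subgroup.mem_inf.2 ⟨hD.1 (Subgroup.mem_inf.1 hx).1, (Subgroup.mem_inf.1 hx).2⟩)
    exact Subgroup.mem_inf.2 ⟨hD.2 x (Subgroup.mem_inf.1 hx).1 n (Subgroup.mem_inf.1 h1).1,
      (Subgroup.mem_inf.1 h1).2⟩
  intro n hn
  refine Subgroup.mem_normalizer_iff.2 fun y => ⟨key n hn y, fun hy => ?_⟩
  simpa [mul_assoc] using key n⁻¹ (inv_mem hn) _ hy

/-- Conjugates of elements of `D` inside a normal subgroup of the Sylow subgroup stay in `D`. -/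
theorem normalClosure_le_closed {S : Sylow p G} {D W : Subgroup G} (hD : Cfsg.IsStronglyClosed D (S : Subgroup G))
    (hWD : W ≤ D) (hN : Subgroup.normalClosure (W : Set G) ≤ (S : Subgroup G)) :
    Subgroup.normalClosure (W : Set G) ≤ D := by
  rw [Subgroup.normalClosure, Subgroup.closure_le]
  intro y hy
  have hyS : y ∈ (S : Subgroup G) := hN (Subgroup.subset_closure hy)
  obtain ⟨w, hw, hwy⟩ := Group.mem_conjugatesOfSet_iff.1 hy
  obtain ⟨g, rfl⟩ := isConj_iff.1 hwy
  exact hD.2 w (hWD hw) g hyS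

/-- The heart of the `ZJ`-theorem. -/
theorem normal_of_replacement [Finite G] [hp : Fact p.Prime] (hp2 : p ≠ 2) (S : Sylow p G)
    {D : Subgroup G} (hD : Cfsg.IsStronglyClosed D (S : Subgroup G))
    (e : Prop) (B V W : Subgroup G) [B.Normal] [V.Normal] (hB : IsPGroup p B) (hVB : V ≤ B)
    (hWB : W ≤ B) (hBD : B ≤ D) (hgen : Subgroup.normalClosure (W : Set G) = B)
    (hJ : Subgroup.normalizer (jSub p e D : Set G) ≤
      Subgroup.normalizer (W : Set G))
    (hW : W ≤ Subgroup.centralizer (jSub p e D : Set G))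
    (hVV : ∀ A, IsMaxIn p e D A → ⁅V, V⁆ ≤ A)
    (hVe : e → ∀ v ∈ V, v ^ p = 1)
    (hVN : ∀ A, IsMaxIn p e D A → V ≤ Subgroup.normalizer (A : Set G) →
      A ≤ stab p B) : W.Normal := by
  rw [← Subgroup.normalizer_eq_top_iff]
  set L := (Subgroup.normalizer (W : Set G)).normalCore with hL
  have hLW : L ≤ Subgroup.normalizer (W : Set G) := Subgroup.normalCore_le _
  have hSW : (S : Subgroup G) ≤ Subgroup.normalizer (W : Set G) :=
    ((sylow_le_normalizer hD).trans (normalizer_le_normalizer_jSub _)).trans hJ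
  have hML : stab p B ≤ L := Subgroup.normal_le_normalCore.2 (stab_le_normalizer S B hWB hSW)
  obtain ⟨TL, hTL⟩ := PBasic.exists_sylow_subgroupOf S L
  set T := (S : Subgroup G) ⊓ L with hT
  have hTmap : (TL : Subgroup L).map L.subtype = T := by
    rw [hTL, Subgroup.subgroupOf_map_subtype]
  have hfr : Subgroup.normalizer (T : Set G) ⊔ L = ⊤ := by
    rw [← hTmap]; exact Sylow.normalizer_sup_eq_top TL
  have hgen' : ∀ g : G, ∃ n ∈ Subgroup.normalizer (T : Set G), ∃ l ∈ L, g = n * l := by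
    intro g
    have hg : g ∈ Subgroup.normalizer (T : Set G) ⊔ L := hfr ▸ Subgroup.mem_top g
    rw [← SetLike.mem_coe, Subgroup.mul_normal] at hg
    obtain ⟨n, hn, l, hl, rfl⟩ := Set.mem_mul.1 hg
    exact ⟨n, hn, l, hl, rfl⟩
  set TD := D ⊓ L with hTD
  have hnTD : Subgroup.normalizer (T : Set G) ≤ Subgroup.normalizer (TD : Set G) :=
    normalizer_inf_le hD L
  by_cases hall : ∀ A, IsMaxIn p e D A → A ≤ L
  · have hJT : jSub p e TD = jSub p e D := by
      rw [jSub, jSub]
      congr 1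
      ext A
      obtain ⟨A₀, hA₀⟩ := exists_isMaxIn p e D
      have hA₀T : A₀ ≤ TD := le_inf hA₀.1 (hall A₀ hA₀)
      exact ⟨fun hA => ⟨hA.1.trans inf_le_left, hA.2.1,
          fun C hC hCs => (hA₀.2.2 C hC hCs).trans (hA.2.2 A₀ hA₀T hA₀.2.1)⟩,
        fun hA => ⟨le_inf hA.1 (hall A hA), hA.2.1,
          fun C hC hCs => hA.2.2 C (hC.trans inf_le_left) hCs⟩⟩
    rw [eq_top_iff, ← hfr]
    exact sup_le ((hnTD.trans (normalizer_le_normalizer_jSub TD)).trans (hJT ▸ hJ)) hLW
  exfalso
  push Not at hall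
  obtain ⟨A, ⟨hA, hAL⟩, hmax⟩ := Set.exists_max_image
    {A | IsMaxIn p e D A ∧ ¬ A ≤ L} (fun A => Nat.card ↥(A ⊓ V))
    (Set.toFinite _) hall
  have hBS : B ≤ D := hBD
  by_cases hVA : V ≤ Subgroup.normalizer (A : Set G)
  · exact hAL ((hVN A hA hVA).trans hML)
  obtain ⟨A', hA', hlt, hnle⟩ := exists_better hp2 (S.isPGroup'.to_le hD.1) (hVB.trans hBS) hA (hVV A hA) hVA
  have hA'L : A' ≤ L := by
    by_contra h
    exact absurd (hmax A' ⟨hA', h⟩) (not_le.2 hlt)
  refine hnle fun v hv => mem_of_centralizes hA' (hBS (hVB hv)) (fun a ha => ?_) fun he => hVe he v hv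
  have hA'T : IsMaxIn p e TD A' := ⟨le_inf hA'.1 hA'L, hA'.2.1,
    fun C hC hCs => hA'.2.2 C (hC.trans inf_le_left) hCs⟩
  set X := Subgroup.centralizer (jSub p e TD : Set G) with hX
  have hWX : W ≤ X := hW.trans (Subgroup.centralizer_le (SetLike.coe_subset_coe.2
    (sSup_le fun C hC => le_jSub ⟨hC.1.trans inf_le_left, hC.2.1,
      fun D hD hDs => (hA'.2.2 D hD hDs).trans (hC.2.2 A' hA'T.1 hA'.2.1)⟩)))
  have hBX : B ≤ X := by
    rw [← hgen, Subgroup.normalClosure, Subgroup.closure_le]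
    intro y hy
    obtain ⟨w, hw, hwy⟩ := Group.mem_conjugatesOfSet_iff.1 hy
    obtain ⟨g, rfl⟩ := isConj_iff.1 hwy
    obtain ⟨n, hn, l, hl, rfl⟩ := hgen' g
    have h1 : l * w * l⁻¹ ∈ W := (Subgroup.mem_normalizer_iff.1 (hLW hl) w).1 hw
    have h2 : n ∈ Subgroup.normalizer (jSub p e TD : Set G) := normalizer_le_normalizer_jSub TD (hnTD hn)
    intro j hj
    have h3 : n⁻¹ * j * n ∈ jSub p e TD := by
      have := (Subgroup.mem_normalizer_iff.1 (inv_mem h2) j).1 hj
      rwa [inv_inv] at this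
    have h4 := hWX h1 _ h3
    calc j * (n * l * w * (n * l)⁻¹)
        = n * ((n⁻¹ * j * n) * (l * w * l⁻¹)) * n⁻¹ := by group
      _ = n * ((l * w * l⁻¹) * (n⁻¹ * j * n)) * n⁻¹ := by rw [h4]
      _ = n * l * w * (n * l)⁻¹ * j := by group
  exact hBX (hVB hv) a (le_jSub hA'T ha)

variable (hp2 : p ≠ 2)

include hp2

/-- `Z ∩ B` is normal for every normal `p`-subgroup `B`, `Z` the intersection of the abelian
(resp. elementary abelian) subgroups of largest order of a Sylow subgroup. -/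
theorem zCore_inf_normal [Finite G] [hp : Fact p.Prime] (hq : IsQuad p G) (S : Sylow p G)
    {D : Subgroup G} (hD : Cfsg.IsStronglyClosed D (S : Subgroup G))
    (e : Prop) (B : Subgroup G) [B.Normal] (hB : IsPGroup p B) :
    (zCore p e D ⊓ B).Normal := by
  induction hn : Nat.card B using Nat.strong_induction_on generalizing B with
  | _ n ih =>
    set Z := zCore p e D with hZ
    set W := Z ⊓ B with hW
    have hZS : Z ≤ zJ p e D := zCore_le_zJ _
    have hcl : Subgroup.normalClosure (W : Set G) ≤ B :=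
      Subgroup.normalClosure_le_normal inf_le_right
    rcases lt_or_eq_of_le hcl with hlt | heq
    · have := ih _ (hn ▸ Set.ncard_lt_ncard (SetLike.coe_ssubset_coe.2 hlt) (Set.toFinite _))
        (Subgroup.normalClosure (W : Set G)) (hB.to_le hcl) rfl
      have h2 : Z ⊓ Subgroup.normalClosure (W : Set G) = W :=
        le_antisymm (inf_le_inf_left _ hcl) (le_inf inf_le_left Subgroup.le_normalClosure)
      rwa [h2] at this
    by_cases hB1 : B = ⊥
    · rw [hW, hB1, inf_bot_eq]; infer_instance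
    have hlt : ⁅B, B⁆ < B := lt_of_le_of_ne (Subgroup.commutator_le_right B B) fun h =>
      hB1 (le_bot_iff.1 (Fusion.le_of_le_commutator_sup hB.isNilpotent le_rfl bot_le
        (by rw [Subgroup.normalizer_eq_top]; exact le_top) (by rw [h, sup_bot_eq])))
    haveI hDn : (Z ⊓ ⁅B, B⁆).Normal := ih _
      (hn ▸ Set.ncard_lt_ncard (SetLike.coe_ssubset_coe.2 hlt) (Set.toFinite _)) ⁅B, B⁆
      (hB.to_le hlt.le) rfl
    have hBS : B ≤ (S : Subgroup G) := le_sylow S hB
    have hSZ : (S : Subgroup G) ≤ Subgroup.normalizer (Z : Set G) :=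
      (sylow_le_normalizer_zJ hD).trans (normalizer_zJ_le_normalizer_zCore _)
    have hBZ : ⁅B, B⁆ ≤ Z := by
      refine (commutator_normalClosure_le (N := Z ⊓ ⁅B, B⁆) heq fun z hz y hy => ⟨?_, ?_⟩).trans
        inf_le_left
      · rw [commutatorElement_def, mul_assoc, mul_assoc, ← mul_assoc y]
        exact Z.mul_mem hz.1 ((Subgroup.mem_normalizer_iff.1 (hSZ (hBS hy)) _).1 (Z.inv_mem hz.1))
      · exact Subgroup.commutator_mem_commutator hz.2 hy
    have hBC : B ≤ Subgroup.centralizer ((⁅B, B⁆ : Subgroup G) : Set G) := by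
      refine heq.ge.trans (Subgroup.normalClosure_le_normal fun z hz d hd => ?_)
      exact zJ_comm (hZS (hBZ hd)) (hZS hz.1)
    have hBB : ∀ u ∈ B, ∀ v ∈ B, ∀ w ∈ B, Commute ⁅u, v⁆ w := fun u hu v hv w hw =>
      hBC hw _ (Subgroup.commutator_mem_commutator hu hv)
    have hBe : e → ∀ y ∈ B, y ^ p = 1 := fun he => by
      refine pow_eq_one_of_closure hp2 (W := Group.conjugatesOfSet (W : Set G)) heq hBB
        (fun u hu v hv => (mem_zCore_iff.1 (hBZ (Subgroup.commutator_mem_commutator hu hv))).2 he)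
        fun w hw => ?_
      obtain ⟨z, hz, hzw⟩ := Group.mem_conjugatesOfSet_iff.1 hw
      obtain ⟨g, rfl⟩ := isConj_iff.1 hzw
      rw [conj_pow, (mem_zCore_iff.1 hz.1).2 he, mul_one, mul_inv_cancel]
    refine normal_of_replacement hp2 S hD e B B W hB le_rfl inf_le_right ?_ heq ?_ ?_
      (fun A hA => hBZ.trans (zCore_le_of_isMaxIn hA)) hBe
      (fun A hA hBA => mem_stab hq hB (S.isPGroup'.to_le (hA.1.trans hD.1)) (fun x hx y hy => hA.2.1.comm hx hy) hBA)
    · exact heq.ge.trans (normalClosure_le_closed hD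
        (fun w hw => zJ_le _ (hZS hw.1)) (heq.le.trans hBS))
    · intro g hg
      have h1 : g ∈ Subgroup.normalizer (Z : Set G) :=
        normalizer_zJ_le_normalizer_zCore _ (normalizer_jSub_le_normalizer_zJ _ hg)
      exact Subgroup.inf_normalizer_le_normalizer_inf
        ⟨h1, by rw [Subgroup.normalizer_eq_top]; exact Subgroup.mem_top g⟩
    · exact inf_le_left.trans (hZS.trans inf_le_right)

omit hp2 in
/-- `Z(J(S))` lies in `O_p(G)`. -/
theorem zJ_le_pCore [Finite G] [hp : Fact p.Prime] (hq : IsQuad p G)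
    (hc : Subgroup.centralizer (Cfsg.pCore p G : Set G) ≤ Cfsg.pCore p G) (S : Sylow p G)
    {D : Subgroup G} (hD : Cfsg.IsStronglyClosed D (S : Subgroup G)) :
    zJ p e D ≤ Cfsg.pCore p G := by
  set U := Cfsg.pCore p G with hU
  haveI : U.Normal := Cfsg.pCore_normal p G
  have h1 : zJ p e D ≤ stab p U :=
    mem_stab hq (PBasic.pCore_isPGroup p G) (S.isPGroup'.to_le ((zJ_le _).trans hD.1))
      (fun x hx y hy => zJ_comm hx hy) ((PBasic.pCore_le_sylow S).trans (sylow_le_normalizer_zJ hD))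
  refine h1.trans (PBasic.le_pCore inferInstance ?_)
  refine (PBasic.pCore_isPGroup p _).comap_of_ker_isPGroup _ ?_
  rw [QuotientGroup.ker_mk']
  exact (PBasic.pCore_isPGroup p G).to_le hc

theorem zCore_normal [Finite G] [hp : Fact p.Prime] (hq : IsQuad p G)
    (hc : Subgroup.centralizer (Cfsg.pCore p G : Set G) ≤ Cfsg.pCore p G) (S : Sylow p G)
    {D : Subgroup G} (hD : Cfsg.IsStronglyClosed D (S : Subgroup G))
    (e : Prop) : (zCore p e D).Normal := by
  haveI := Cfsg.pCore_normal p G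
  have h := zCore_inf_normal hp2 hq S hD e (Cfsg.pCore p G) (PBasic.pCore_isPGroup p G)
  rwa [inf_eq_left.2 ((zCore_le_zJ _).trans (zJ_le_pCore hq hc S hD))] at h

/-- `Z(J(S))` is normal, also for the elementary version of `J`. -/
theorem zJ_normal [Finite G] [hp : Fact p.Prime] (hq : IsQuad p G)
    (hc : Subgroup.centralizer (Cfsg.pCore p G : Set G) ≤ Cfsg.pCore p G) (S : Sylow p G)
    {D : Subgroup G} (hD : Cfsg.IsStronglyClosed D (S : Subgroup G))
    (e : Prop) : (zJ p e D).Normal := by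
  have hZ1 := zCore_normal hp2 hq hc S hD e
  by_cases he : e
  swap
  · rwa [← zCore_eq_zJ he]
  set Z := zJ p e D with hZ
  set U := Cfsg.pCore p G with hU
  haveI : U.Normal := Cfsg.pCore_normal p G
  have hZU : Z ≤ U := zJ_le_pCore hq hc S hD
  have hUS : U ≤ (S : Subgroup G) := PBasic.pCore_le_sylow S
  let Zk : ℕ → Subgroup G := fun k =>
    { carrier := {x | x ∈ Z ∧ x ^ p ^ k = 1}
      one_mem' := ⟨Z.one_mem, one_pow _⟩
      mul_mem' := fun {a b} ha hb => ⟨Z.mul_mem ha.1 hb.1, by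
        rw [Commute.mul_pow (zJ_comm ha.1 hb.1), ha.2, hb.2, one_mul]⟩
      inv_mem' := fun {a} ha => ⟨Z.inv_mem ha.1, by rw [inv_pow, ha.2, inv_one]⟩ }
  have hmem : ∀ {k : ℕ} {x : G}, x ∈ Zk k ↔ x ∈ Z ∧ x ^ p ^ k = 1 := Iff.rfl
  suffices h : ∀ k, (Zk k).Normal by
    obtain ⟨k, hk⟩ := IsPGroup.iff_card.1 (S.isPGroup'.to_le ((zJ_le _).trans hD.1) : IsPGroup p Z)
    have hZk : Zk k = Z := by
      ext x
      refine ⟨fun hx => hx.1, fun hx => ⟨hx, ?_⟩⟩
      rw [← hk]
      exact congrArg Subtype.val (pow_card_eq_one' (x := (⟨x, hx⟩ : Z)))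
    exact hZk ▸ h k
  intro k
  induction k with
  | zero =>
    have h0 : Zk 0 = ⊥ := by
      rw [Subgroup.eq_bot_iff_forall]
      intro x hx
      have := hx.2
      rwa [pow_zero, pow_one] at this
    rw [h0]; infer_instance
  | succ k ihk =>
    haveI := ihk
    rcases Nat.eq_zero_or_pos k with rfl | hk0
    · have h1 : Zk 1 = zCore p e D := by
        ext x
        rw [hmem, mem_zCore_iff, pow_one]
        exact ⟨fun h => ⟨h.1, fun _ => h.2⟩, fun h => ⟨h.1, h.2 he⟩⟩
      rw [zero_add, h1]; exact hZ1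
    haveI := hZ1
    set Z1 := zCore p e D with hZ1def
    set W := Zk (k + 1) with hW
    set B := Subgroup.normalClosure (W : Set G) with hBdef
    have hWU : W ≤ U := fun x hx => hZU hx.1
    have hBU : B ≤ U := Subgroup.normalClosure_le_normal hWU
    have hB : IsPGroup p B := (PBasic.pCore_isPGroup p G).to_le hBU
    have hBS : B ≤ (S : Subgroup G) := hBU.trans hUS
    have hnorm : ∀ {u z : G}, u ∈ U → z ∈ Z → u * z * u⁻¹ ∈ Z := fun hu hz =>
      (Subgroup.mem_normalizer_iff.1 (sylow_le_normalizer_zJ hD (hUS hu)) _).1 hz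
    have hkey : ∀ z ∈ W, ∀ y ∈ B, ⁅z, y⁆ ∈ Z1 := by
      intro z hz
      set f := QuotientGroup.mk' Z1 with hf
      have hiff : ∀ {y : G}, ⁅z, y⁆ ∈ Z1 ↔ f z * f y = f y * f z := by
        intro y
        rw [← commutatorElement_eq_one_iff_mul_comm, ← map_commutatorElement, hf,
          QuotientGroup.mk'_apply, QuotientGroup.eq_one_iff]
      suffices hB' : B ≤ (Subgroup.centralizer ({f z} : Set (G ⧸ Z1))).comap f from fun y hy =>
        hiff.2 (Subgroup.mem_centralizer_singleton_iff.1 (hB' hy)).symm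
      rw [hBdef, Subgroup.normalClosure, Subgroup.closure_le]
      intro y hy
      obtain ⟨w, hw, hwy⟩ := Group.mem_conjugatesOfSet_iff.1 hy
      obtain ⟨g, rfl⟩ := isConj_iff.1 hwy
      rw [SetLike.mem_coe, Subgroup.mem_comap, Subgroup.mem_centralizer_singleton_iff]
      refine (hiff.1 ?_).symm
      set y := g * w * g⁻¹ with hy'
      set c := ⁅z, y⁆ with hc'
      have hyU : y ∈ U := Subgroup.Normal.conj_mem inferInstance w (hWU hw) g
      have hzU : z ∈ U := hWU hz
      have hzgU : g⁻¹ * z * g ∈ U := by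
        have := Subgroup.Normal.conj_mem inferInstance z hzU g⁻¹ (H := U)
        rwa [inv_inv] at this
      have hcZ : c ∈ Z := by
        rw [hc', commutatorElement_def, mul_assoc, mul_assoc, ← mul_assoc y]
        exact Z.mul_mem hz.1 (hnorm hyU (Z.inv_mem hz.1))
      have hcg : g⁻¹ * c * g ∈ Z := by
        have e1 : g⁻¹ * c * g = (g⁻¹ * z * g) * w * (g⁻¹ * z * g)⁻¹ * w⁻¹ := by
          rw [hc', hy', commutatorElement_def]; group
        rw [e1]
        exact Z.mul_mem (hnorm hzgU hw.1) (Z.inv_mem hw.1)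
      have hcy : Commute c y := by
        have h1 := zJ_comm hcg hw.1
        show c * y = y * c
        calc c * y = g * ((g⁻¹ * c * g) * w) * g⁻¹ := by rw [hy']; group
          _ = g * (w * (g⁻¹ * c * g)) * g⁻¹ := by rw [h1]
          _ = y * c := by rw [hy']; group
      have hcz : Commute c z := zJ_comm hcZ hz.1
      have hn : ∀ n : ℕ, z ^ n * y * (z ^ n)⁻¹ = c ^ n * y := by
        intro n
        induction n with
        | zero => simp
        | succ n ih =>
          calc z ^ (n + 1) * y * (z ^ (n + 1))⁻¹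
              = z * (z ^ n * y * (z ^ n)⁻¹) * z⁻¹ := by rw [pow_succ']; group
            _ = (z * c ^ n) * y * z⁻¹ := by rw [ih]; group
            _ = c ^ n * (z * y * z⁻¹) := by rw [(hcz.pow_left n).symm.eq]; group
            _ = c ^ n * (c * y) := by rw [hc', commutatorElement_def]; group
            _ = c ^ (n + 1) * y := by rw [pow_succ, mul_assoc]
      have hzp : z ^ p ∈ Zk k := ⟨Z.pow_mem hz.1 p, by rw [← pow_mul, ← pow_succ']; exact hz.2⟩
      have hzy : z ^ p * y * (z ^ p)⁻¹ = y := by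
        have h1 := Subgroup.Normal.conj_mem inferInstance _ hzp g⁻¹ (H := Zk k)
        rw [inv_inv] at h1
        have h2 := zJ_comm h1.1 hw.1
        calc z ^ p * y * (z ^ p)⁻¹
            = g * ((g⁻¹ * z ^ p * g) * w) * (g⁻¹ * z ^ p * g)⁻¹ * g⁻¹ := by rw [hy']; group
          _ = g * (w * (g⁻¹ * z ^ p * g)) * (g⁻¹ * z ^ p * g)⁻¹ * g⁻¹ := by rw [h2]
          _ = y := by rw [hy']; group
      have hcp : c ^ p = 1 := by
        have h1 := hn p
        rw [hzy, right_eq_mul] at h1
        exact h1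
      exact mem_zCore_iff.2 ⟨hcZ, fun _ => hcp⟩
    have hBZ1 : ⁅B, B⁆ ≤ Z1 := commutator_normalClosure_le rfl hkey
    have hBC : B ≤ Subgroup.centralizer (Z1 : Set G) :=
      Subgroup.normalClosure_le_normal fun z hz d hd => zJ_comm (zCore_le_zJ _ hd) hz.1
    have hBB : ∀ u ∈ B, ∀ v ∈ B, ∀ w ∈ B, Commute ⁅u, v⁆ w := fun u hu v hv w hw =>
      hBC hw _ (hBZ1 (Subgroup.commutator_mem_commutator hu hv))
    have hBp : ∀ u ∈ B, ∀ v ∈ B, ⁅u, v⁆ ^ p = 1 := fun u hu v hv =>
      (mem_zCore_iff.1 (hBZ1 (Subgroup.commutator_mem_commutator hu hv))).2 he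
    let V : Subgroup G :=
      { carrier := {x | x ∈ B ∧ x ^ p = 1}
        one_mem' := ⟨B.one_mem, one_pow _⟩
        mul_mem' := fun {a b} ha hb => ⟨B.mul_mem ha.1 hb.1, by
          rw [mul_pow_of_class_two hp2 hBB hBp ha.1 hb.1, ha.2, hb.2, one_mul]⟩
        inv_mem' := fun {a} ha => ⟨B.inv_mem ha.1, by rw [inv_pow, ha.2, inv_one]⟩ }
    have hVn : V.Normal := ⟨fun x hx g => ⟨Subgroup.Normal.conj_mem inferInstance x hx.1 g, by
      rw [conj_pow, hx.2, mul_one, mul_inv_cancel]⟩⟩
    haveI := hVn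
    have hVB : V ≤ B := fun x hx => hx.1
    have hBpow : ∀ y ∈ B, y ^ p ∈ Zk k := by
      intro y hy
      have hy' : y ∈ Subgroup.closure (Group.conjugatesOfSet (W : Set G)) := hy
      induction hy' using Subgroup.closure_induction with
      | mem w hw =>
        obtain ⟨z, hz, hzw⟩ := Group.mem_conjugatesOfSet_iff.1 hw
        obtain ⟨g, rfl⟩ := isConj_iff.1 hzw
        rw [conj_pow]
        exact Subgroup.Normal.conj_mem inferInstance _
          (show z ^ p ∈ Zk k from ⟨Z.pow_mem hz.1 p, by rw [← pow_mul, ← pow_succ']; exact hz.2⟩) g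
      | one => rw [one_pow]; exact one_mem _
      | mul u v hu hv ihu ihv =>
        rw [mul_pow_of_class_two hp2 hBB hBp hu hv]
        exact mul_mem (ihu hu) (ihv hv)
      | inv u hu ihu => rw [inv_pow]; exact inv_mem (ihu hu)
    refine normal_of_replacement hp2 S hD e B V W hB hVB Subgroup.le_normalClosure
      (normalClosure_le_closed hD (fun w hw => zJ_le _ hw.1) hBS) rfl ?_
      (fun x hx => hx.1.2)
      (fun A hA => (Subgroup.commutator_mono hVB hVB).trans (hBZ1.trans (zCore_le_of_isMaxIn hA)))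
      (fun _ v hv => hv.2) ?_
    · intro g hg
      have h1 := normalizer_jSub_le_normalizer_zJ _ hg
      rw [Subgroup.mem_normalizer_iff] at h1 ⊢
      intro x
      rw [hW, hmem, hmem, conj_pow, h1 x]
      simp [conj_eq_one_iff, hZ]
    · intro A hA hVA
      set N := stab p V ⊓ Subgroup.centralizer (Zk k : Set G) with hN
      have hAN : A ≤ N := le_inf (mem_stab hq (hB.to_le hVB) (S.isPGroup'.to_le (hA.1.trans hD.1))
        (fun x hx y hy => hA.2.1.comm hx hy) hVA) fun a ha z hz => (commute_of_mem_zJ hA hz.1 ha).symm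
      refine hAN.trans ?_
      haveI : N.Normal := Subgroup.normal_inf_normal _ _
      have hNC : ∀ x ∈ N, (orderOf x).Coprime p → x ∈ Subgroup.centralizer (B : Set G) := by
        intro x hx hxo
        refine mem_centralizer_of_series (V := V) hxo ?_ fun y hy => ?_
        · rw [← QuotientGroup.eq_one_iff]
          have h3 : (QuotientGroup.mk x : G ⧸ Subgroup.centralizer (V : Set G)) ∈
              Cfsg.pCore p (G ⧸ Subgroup.centralizer (V : Set G)) := hx.1
          exact PBasic.eq_one_of_isPGroup_of_coprime (PBasic.pCore_isPGroup p _) h3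
            (Nat.Coprime.coprime_dvd_left
              (orderOf_map_dvd (QuotientGroup.mk' (Subgroup.centralizer (V : Set G))) x) hxo)
        · have hyB : x * y * x⁻¹ ∈ B := Subgroup.Normal.conj_mem inferInstance y hy x
          have hvp : (y⁻¹ * (x * y * x⁻¹)) ^ p = 1 := by
            rw [mul_pow_of_class_two hp2 hBB hBp (B.inv_mem hy) hyB, conj_pow, inv_pow,
              ← hx.2 _ (hBpow y hy), mul_inv_cancel_right, inv_mul_cancel]
          exact ⟨⟨B.mul_mem (B.inv_mem hy) hyB, hvp⟩, hvp⟩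
      rw [stab, ← Subgroup.map_le_iff_le_comap]
      refine PBasic.le_pCore (Subgroup.Normal.map inferInstance _ (QuotientGroup.mk'_surjective _)) ?_
      refine PBasic.isPGroup_iff_forall_coprime.2 ?_
      intro y ho
      obtain ⟨x, hx, hxy⟩ := y.2
      rw [← Subgroup.orderOf_coe, ← hxy] at ho
      obtain ⟨s, m, hm, hxm⟩ : ∃ s m : ℕ, m.Coprime p ∧ orderOf x = p ^ s * m := by
        obtain ⟨s, m, hm, hxm⟩ := Nat.exists_eq_pow_mul_and_not_dvd (orderOf_pos x).ne' p hp.out.ne_one
        exact ⟨s, m, (hp.out.coprime_iff_not_dvd.2 hm).symm, hxm⟩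
      have hxs : x ^ p ^ s ∈ Subgroup.centralizer (B : Set G) := by
        refine hNC _ (N.pow_mem hx _) ?_
        rwa [orderOf_pow, hxm, Nat.gcd_mul_right_left, Nat.mul_div_cancel_left _ (pow_pos hp.out.pos s)]
      obtain ⟨j, hj⟩ := exists_pow_eq_self_of_coprime
        (x := QuotientGroup.mk' (Subgroup.centralizer (B : Set G)) x) (n := p ^ s)
        (Nat.Coprime.pow_left s ho.symm)
      apply Subtype.ext
      rw [← hxy, OneMemClass.coe_one, ← hj, ← map_pow, show (QuotientGroup.mk' (Subgroup.centralizer (B : Set G))) (x ^ p ^ s) = 1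
        from (QuotientGroup.eq_one_iff _).2 hxs, one_pow]

end Cfsg.Agent.ZJClosed
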