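import Mathlib.GroupTheory.SemidirectProduct
import Mathlib.GroupTheory.PGroup
import Mathlib.GroupTheory.Subgroup.Centralizer
import Cfsg.Prelude.Def_PLocal
import Cfsg.Agent.Lib.CharP.Product
import Cfsg.Agent.Lib.Transfer.Fusion

/-!
Thompson's replacement theorem in Timmesfeld's form, for a group with abelian image on an abelian
normalized subgroup.
-/

set_option autoImplicit false
set_option linter.style.haveILetI false

open scoped commutatorElement Pointwise

namespace Cfsg.Agent.Replacement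

variable {G : Type*} [Group G]

/-- The fixed points of `B` in `V`. -/
abbrev cv (V B : Subgroup G) : Subgroup G := V ⊓ Subgroup.centralizer (B : Set G)

/-- The subgroup generated by the commutators of elements of `S` with elements of `A`. -/
def commSet (A : Subgroup G) (S : Set G) : Subgroup G :=
  Subgroup.closure {g | ∃ u ∈ S, ∃ a ∈ A, ⁅u, a⁆ = g}

theorem commSet_eq (A U : Subgroup G) : commSet A (U : Set G) = ⁅U, A⁆ :=
  (Subgroup.commutator_def U A).symm

theorem commSet_empty (A : Subgroup G) : commSet A ∅ = ⊥ := by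
  rw [commSet, Subgroup.closure_eq_bot_iff]
  rintro g ⟨u, hu, -⟩
  exact hu.elim

theorem commSet_union (A : Subgroup G) (S T : Set G) :
    commSet A (S ∪ T) = commSet A S ⊔ commSet A T := by
  rw [commSet, commSet, commSet, ← Subgroup.closure_union]
  apply congrArg
  ext g
  constructor
  · rintro ⟨u, hu | hu, h⟩
    · exact Or.inl ⟨u, hu, h⟩
    · exact Or.inr ⟨u, hu, h⟩
  · rintro (⟨u, hu, h⟩ | ⟨u, hu, h⟩)
    · exact ⟨u, Or.inl hu, h⟩
    · exact ⟨u, Or.inr hu, h⟩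

variable {V A : Subgroup G}

theorem commutator_mem (hAV : A ≤ Subgroup.normalizer (V : Set G)) {u a : G} (hu : u ∈ V)
    (ha : a ∈ A) : ⁅u, a⁆ ∈ V := by
  rw [show ⁅u, a⁆ = u * (a * u⁻¹ * a⁻¹) by rw [commutatorElement_def]; group]
  exact V.mul_mem hu ((Subgroup.mem_normalizer_iff.1 (hAV ha) _).1 (V.inv_mem hu))

theorem commSet_le (hAV : A ≤ Subgroup.normalizer (V : Set G)) {S : Set G} (hS : S ⊆ V) :
    commSet A S ≤ V := by
  rw [commSet, Subgroup.closure_le]
  rintro g ⟨u, hu, a, ha, rfl⟩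
  exact commutator_mem hAV (hS hu) ha

theorem conj_conj_eq (hab : ⁅A, A⁆ ≤ Subgroup.centralizer (V : Set G)) {x y v : G} (hx : x ∈ A)
    (hy : y ∈ A) (hv : v ∈ V) : x * y * v * (x * y)⁻¹ = y * x * v * (y * x)⁻¹ := by
  have hw := hab (Subgroup.commutator_mem_commutator (A.inv_mem hx) (A.inv_mem hy)) v hv
  have h2 : x * y = y * x * ⁅x⁻¹, y⁻¹⁆ := by rw [commutatorElement_def]; group
  rw [h2]
  calc y * x * ⁅x⁻¹, y⁻¹⁆ * v * (y * x * ⁅x⁻¹, y⁻¹⁆)⁻¹
      = y * x * (⁅x⁻¹, y⁻¹⁆ * v) * ⁅x⁻¹, y⁻¹⁆⁻¹ * (y * x)⁻¹ := by group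
    _ = y * x * v * (y * x)⁻¹ := by rw [← hw]; group

theorem conj_commutator_symm (hVc : ∀ v ∈ V, ∀ w ∈ V, v * w = w * v)
    (hAV : A ≤ Subgroup.normalizer (V : Set G))
    (hab : ⁅A, A⁆ ≤ Subgroup.centralizer (V : Set G)) {u x y : G} (hu : u ∈ V) (hx : x ∈ A)
    (hy : y ∈ A) : y * ⁅u, x⁆ * y⁻¹ * ⁅u, x⁆⁻¹ = x * ⁅u, y⁆ * x⁻¹ * ⁅u, y⁆⁻¹ := by
  have hcj : ∀ a ∈ A, ∀ v ∈ V, a * v * a⁻¹ ∈ V := fun a ha v hv =>
    (Subgroup.mem_normalizer_iff.1 (hAV ha) v).1 hv
  have hQ := conj_conj_eq hab hx hy (V.inv_mem hu)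
  have hP := hcj _ hy _ hu
  have hR := hcj _ hx _ hu
  have hQV := hcj _ (A.mul_mem hx hy) _ (V.inv_mem hu)
  calc y * ⁅u, x⁆ * y⁻¹ * ⁅u, x⁆⁻¹
      = y * u * y⁻¹ * (y * x * u⁻¹ * (y * x)⁻¹) * (x * u * x⁻¹) * u⁻¹ := by
        rw [commutatorElement_def]; group
    _ = y * u * y⁻¹ * (x * y * u⁻¹ * (x * y)⁻¹ * (x * u * x⁻¹)) * u⁻¹ := by
        rw [← hQ]; group
    _ = x * u * x⁻¹ * (x * y * u⁻¹ * (x * y)⁻¹ * (y * u * y⁻¹)) * u⁻¹ := by
        rw [hVc _ hQV _ hR, ← mul_assoc (y * u * y⁻¹), hVc _ hP _ hR, mul_assoc (x * u * x⁻¹),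
          hVc _ hP _ hQV]
    _ = x * ⁅u, y⁆ * x⁻¹ * ⁅u, y⁆⁻¹ := by rw [commutatorElement_def]; group

theorem sup_le_cv (hAV : A ≤ Subgroup.normalizer (V : Set G)) {S : Set G} (hS : S ⊆ V) :
    commSet A S ⊔ cv V A ≤ cv V (A ⊓ Subgroup.centralizer (commSet A S : Set G)) := by
  refine sup_le (le_inf (commSet_le hAV hS) ?_) (le_inf inf_le_left ?_)
  · exact Subgroup.le_centralizer_iff.1 inf_le_right
  · exact inf_le_right.trans (Subgroup.centralizer_le inf_le_left)

/-- The basic inequality for a single element. -/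
theorem single [Finite G] (hVc : ∀ v ∈ V, ∀ w ∈ V, v * w = w * v)
    (hAV : A ≤ Subgroup.normalizer (V : Set G))
    (hab : ⁅A, A⁆ ≤ Subgroup.centralizer (V : Set G)) {u : G} (hu : u ∈ V) :
    Nat.card A * Nat.card (cv V A) ≤
      Nat.card ↥(A ⊓ Subgroup.centralizer (commSet A {u} : Set G)) *
        Nat.card ↥(commSet A {u} ⊔ cv V A) := by
  set X := commSet A {u} with hX
  set B := A ⊓ Subgroup.centralizer (X : Set G) with hB
  set W := X ⊔ cv V A with hW
  have he : ∀ a : A, ⁅u, (a : G)⁆ ∈ W := fun a =>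
    Subgroup.mem_sup_left (Subgroup.subset_closure ⟨u, rfl, a, a.2, rfl⟩)
  let φ : A ⧸ B.subgroupOf A → W ⧸ (cv V A).subgroupOf W := fun q =>
    QuotientGroup.mk ⟨⁅u, ((Quotient.out q : A) : G)⁆, he _⟩
  have hφ : Function.Injective φ := by
    intro q₁ q₂ hq
    rw [← Quotient.out_eq q₁, ← Quotient.out_eq q₂]
    set a := (Quotient.out q₁ : A)
    set b := (Quotient.out q₂ : A)
    have hc : ⁅u, (a : G)⁆⁻¹ * ⁅u, (b : G)⁆ ∈ cv V A :=
      (QuotientGroup.eq (s := (cv V A).subgroupOf W)).1 hq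
    refine (QuotientGroup.eq (s := B.subgroupOf A)).2 ?_
    refine Subgroup.mem_subgroupOf.2 ⟨(a⁻¹ * b : A).2, ?_⟩
    have hle : X ≤ Subgroup.centralizer {((b⁻¹ * a : A) : G)} := by
      rw [hX, commSet, Subgroup.closure_le]
      rintro _ ⟨u', hu', x, hx, rfl⟩
      rw [Set.mem_singleton_iff.1 hu', SetLike.mem_coe, Subgroup.mem_centralizer_singleton_iff]
      have h1 := conj_commutator_symm hVc hAV hab hu hx a.2
      have h2 := conj_commutator_symm hVc hAV hab hu hx b.2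
      have hcx : x * (⁅u, (a : G)⁆⁻¹ * ⁅u, (b : G)⁆) =
          (⁅u, (a : G)⁆⁻¹ * ⁅u, (b : G)⁆) * x := hc.2 x hx
      have h3 : x * ⁅u, (b : G)⁆ * x⁻¹ * ⁅u, (b : G)⁆⁻¹ = x * ⁅u, (a : G)⁆ * x⁻¹ * ⁅u, (a : G)⁆⁻¹ := by
        generalize ⁅u, (a : G)⁆ = ea at hcx ⊢
        generalize ⁅u, (b : G)⁆ = eb at hcx ⊢
        calc x * eb * x⁻¹ * eb⁻¹ = x * ea * x⁻¹ * (x * (ea⁻¹ * eb)) * x⁻¹ * eb⁻¹ := by group
          _ = x * ea * x⁻¹ * ea⁻¹ := by rw [hcx]; group
      have h4 : (a : G) * ⁅u, x⁆ * (a : G)⁻¹ = (b : G) * ⁅u, x⁆ * (b : G)⁻¹ :=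
        mul_right_cancel (h1.trans (h3.symm.trans h2.symm))
      show ⁅u, x⁆ * ((b : G)⁻¹ * (a : G)) = (b : G)⁻¹ * (a : G) * ⁅u, x⁆
      calc ⁅u, x⁆ * ((b : G)⁻¹ * (a : G))
          = (b : G)⁻¹ * ((b : G) * ⁅u, x⁆ * (b : G)⁻¹) * (a : G) := by group
        _ = (b : G)⁻¹ * (a : G) * ⁅u, x⁆ := by rw [← h4]; group
    have hmem : ((b⁻¹ * a : A) : G) ∈ Subgroup.centralizer (X : Set G) := fun y hy =>
      Subgroup.mem_centralizer_singleton_iff.1 (hle hy)
    have h5 := Subgroup.inv_mem _ hmem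
    rwa [← Subgroup.coe_inv, mul_inv_rev, inv_inv] at h5
  have hcard : (B.subgroupOf A).index ≤ ((cv V A).subgroupOf W).index :=
    Nat.card_le_card_of_injective φ hφ
  have hA : Nat.card A = Nat.card B * (B.subgroupOf A).index := by
    rw [← Subgroup.card_mul_index (B.subgroupOf A),
      Nat.card_congr (Subgroup.subgroupOfEquivOfLe (inf_le_left : B ≤ A)).toEquiv]
  have hW' : Nat.card W = Nat.card (cv V A) * ((cv V A).subgroupOf W).index := by
    rw [← Subgroup.card_mul_index ((cv V A).subgroupOf W),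
      Nat.card_congr (Subgroup.subgroupOfEquivOfLe (le_sup_right : cv V A ≤ W)).toEquiv]
  rw [hA, hW', mul_assoc, mul_comm (Nat.card (cv V A))]
  exact Nat.mul_le_mul_left _ (Nat.mul_le_mul_right _ hcard)

/-- The replacement theorem: if no subgroup of `A` beats `A`, then `C_A([S,A])` does as well as `A`
and has fixed points `[S,A] C_V(A)`. -/
theorem replacement [Finite G] (hVc : ∀ v ∈ V, ∀ w ∈ V, v * w = w * v)
    (hAV : A ≤ Subgroup.normalizer (V : Set G))
    (hab : ⁅A, A⁆ ≤ Subgroup.centralizer (V : Set G))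
    (hbest : ∀ B : Subgroup G, B ≤ A →
      Nat.card B * Nat.card (cv V B) ≤ Nat.card A * Nat.card (cv V A))
    {S : Set G} (hS : S ⊆ V) :
    cv V (A ⊓ Subgroup.centralizer (commSet A S : Set G)) = commSet A S ⊔ cv V A ∧
      Nat.card ↥(A ⊓ Subgroup.centralizer (commSet A S : Set G)) *
        Nat.card ↥(cv V (A ⊓ Subgroup.centralizer (commSet A S : Set G))) =
        Nat.card A * Nat.card (cv V A) := by
  have step : ∀ (B W : Subgroup G), B ≤ A → W ≤ cv V B →
      Nat.card A * Nat.card (cv V A) ≤ Nat.card B * Nat.card W →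
      cv V B = W ∧ Nat.card B * Nat.card (cv V B) = Nat.card A * Nat.card (cv V A) := by
    intro B W hBA hW h
    have h1 := Nat.le_of_dvd Nat.card_pos (Subgroup.card_dvd_of_le hW)
    have h2 := hbest B hBA
    have h3 : Nat.card (cv V B) ≤ Nat.card W :=
      Nat.le_of_mul_le_mul_left (h2.trans h) (Nat.card_pos (α := B))
    exact ⟨(Subgroup.eq_of_le_of_card_ge hW h3).symm,
      le_antisymm h2 (h.trans (Nat.mul_le_mul_left _ h1))⟩
  refine Set.Finite.induction_on_subset (motive := fun T _ =>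
    cv V (A ⊓ Subgroup.centralizer (commSet A T : Set G)) = commSet A T ⊔ cv V A ∧
      Nat.card ↥(A ⊓ Subgroup.centralizer (commSet A T : Set G)) *
        Nat.card ↥(cv V (A ⊓ Subgroup.centralizer (commSet A T : Set G))) =
        Nat.card A * Nat.card (cv V A)) S (Set.toFinite S) ?_ ?_
  · have h : A ⊓ Subgroup.centralizer ((⊥ : Subgroup G) : Set G) = A := by
      refine inf_eq_left.2 fun a _ x hx => ?_
      rw [Subgroup.mem_bot.1 hx, one_mul, mul_one]
    rw [commSet_empty, h, bot_sup_eq]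
    exact ⟨rfl, rfl⟩
  · intro u T huS hTS _ ih
    obtain ⟨ih1, ih2⟩ := ih
    have hu : u ∈ V := hS huS
    obtain ⟨s1, s2⟩ := step _ _ inf_le_left (sup_le_cv hAV (Set.singleton_subset_iff.2 hu))
      (single hVc hAV hab hu)
    have hins : commSet A (insert u T) = commSet A {u} ⊔ commSet A T := by
      rw [Set.insert_eq, commSet_union]
    have hinf : A ⊓ Subgroup.centralizer (commSet A (insert u T) : Set G) =
        (A ⊓ Subgroup.centralizer (commSet A {u} : Set G)) ⊓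
          (A ⊓ Subgroup.centralizer (commSet A T : Set G)) := by
      rw [hins]
      refine le_antisymm (le_inf (inf_le_inf_left _ (Subgroup.centralizer_le (SetLike.coe_subset_coe.2 le_sup_left)))
        (inf_le_inf_left _ (Subgroup.centralizer_le (SetLike.coe_subset_coe.2 le_sup_right)))) (le_inf ?_ ?_)
      · exact inf_le_left.trans inf_le_left
      · rw [Subgroup.le_centralizer_iff]
        exact sup_le (Subgroup.le_centralizer_iff.1 (inf_le_left.trans inf_le_right))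
          (Subgroup.le_centralizer_iff.1 (inf_le_right.trans inf_le_right))
    rw [hinf, hins]
    set B₁ := A ⊓ Subgroup.centralizer (commSet A {u} : Set G) with hB₁
    set B₀ := A ⊓ Subgroup.centralizer (commSet A T : Set G) with hB₀
    have hsup : cv V B₁ ⊔ cv V B₀ = commSet A {u} ⊔ commSet A T ⊔ cv V A := by
      rw [s1, ih1, sup_sup_sup_comm, sup_idem]
    have hle : cv V B₁ ⊔ cv V B₀ ≤ cv V (B₁ ⊓ B₀) :=
      sup_le (inf_le_inf_left _ (Subgroup.centralizer_le inf_le_left))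
        (inf_le_inf_left _ (Subgroup.centralizer_le inf_le_right))
    have hK : cv V B₁ ⊓ cv V B₀ ≤ cv V (B₁ ⊔ B₀) := by
      refine le_inf (inf_le_left.trans inf_le_left) ?_
      rw [Subgroup.le_centralizer_iff]
      exact sup_le (Subgroup.le_centralizer_iff.1 (inf_le_left.trans inf_le_right))
        (Subgroup.le_centralizer_iff.1 (inf_le_right.trans inf_le_right))
    have hM : Nat.card A * Nat.card (cv V A) ≤
        Nat.card ↥(B₁ ⊓ B₀) * Nat.card ↥(cv V B₁ ⊔ cv V B₀) := by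
      set M := Nat.card A * Nat.card (cv V A) with hMdef
      have h1 := Nat.mul_le_mul (Product.card_mul_card_le B₁ B₀)
        (Product.card_mul_card_le (cv V B₁) (cv V B₀))
      have h2 : Nat.card B₁ * Nat.card B₀ * (Nat.card (cv V B₁) * Nat.card (cv V B₀)) = M * M := by
        rw [mul_mul_mul_comm, s2, ih2]
      rw [h2] at h1
      have h3 : Nat.card ↥(B₁ ⊔ B₀) * Nat.card ↥(cv V B₁ ⊓ cv V B₀) ≤ M :=
        (Nat.mul_le_mul_left _ (Nat.le_of_dvd Nat.card_pos (Subgroup.card_dvd_of_le hK))).trans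
          (hbest _ (sup_le inf_le_left inf_le_left))
      refine Nat.le_of_mul_le_mul_left (h1.trans ?_)
        (Nat.mul_pos (Nat.card_pos (α := A)) (Nat.card_pos (α := cv V A)))
      calc Nat.card ↥(B₁ ⊔ B₀) * Nat.card ↥(B₁ ⊓ B₀) *
            (Nat.card ↥(cv V B₁ ⊔ cv V B₀) * Nat.card ↥(cv V B₁ ⊓ cv V B₀))
          = Nat.card ↥(B₁ ⊔ B₀) * Nat.card ↥(cv V B₁ ⊓ cv V B₀) *
            (Nat.card ↥(B₁ ⊓ B₀) * Nat.card ↥(cv V B₁ ⊔ cv V B₀)) := by ring
        _ ≤ M * _ := Nat.mul_le_mul_right _ h3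
    have h := step (B₁ ⊓ B₀) _ (inf_le_left.trans inf_le_left) hle hM
    rw [hsup] at h
    exact h

/-- If `A` induces an elementary abelian `p`-group on the `p`-group `V` and `V = [V,A] C_V(A)`,
then `A` centralizes `V`. -/
theorem le_centralizer_of_le_sup [Finite G] {p : ℕ} [Fact p.Prime]
    (hV : IsPGroup p V) (hVc : ∀ v ∈ V, ∀ w ∈ V, v * w = w * v)
    (hAV : A ≤ Subgroup.normalizer (V : Set G))
    (hpow : ∀ a ∈ A, a ^ p ∈ Subgroup.centralizer (V : Set G))
    (h : V ≤ ⁅V, A⁆ ⊔ cv V A) : V ≤ Subgroup.centralizer (A : Set G) := by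
  classical
  let ψ : A →* MulAut V := V.normalizerMonoidHom.comp (Subgroup.inclusion hAV)
  have hψ : ∀ (a : A) (v : V), ((ψ a v : V) : G) = a * v * (a : G)⁻¹ := fun a v => rfl
  haveI : Finite (MulAut V) := Finite.of_injective _ MulEquiv.toEquiv_injective
  let Γ := SemidirectProduct V ψ.range ψ.range.subtype
  haveI : Finite Γ := Finite.of_equiv (V × ψ.range) SemidirectProduct.equivProd.symm
  have hR : IsPGroup p ψ.range := by
    rintro ⟨_, a, rfl⟩
    refine ⟨1, Subtype.ext ?_⟩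
    rw [pow_one, SubmonoidClass.coe_pow, OneMemClass.coe_one, ← map_pow]
    apply MulEquiv.ext
    intro v
    apply Subtype.ext
    rw [hψ, MulAut.one_apply, SubmonoidClass.coe_pow]
    have := hpow a a.2 v v.2
    rw [← this, mul_inv_cancel_right]
  have hΓ : IsPGroup p Γ := by
    obtain ⟨m, hm⟩ := IsPGroup.iff_card.1 hV
    obtain ⟨k, hk⟩ := IsPGroup.iff_card.1 hR
    refine IsPGroup.of_card (n := m + k) ?_
    rw [SemidirectProduct.card, hm, hk, pow_add]
  haveI := hΓ.isNilpotent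
  set Q : Subgroup Γ := (SemidirectProduct.inl : V →* Γ).range with hQ
  set R : Subgroup Γ := ((cv V A).subgroupOf V).map (SemidirectProduct.inl : V →* Γ) with hR'
  have hfix : ∀ (a : ψ.range) (c : V), (c : G) ∈ cv V A → (a : MulAut V) c = c := by
    rintro ⟨_, a, rfl⟩ c hc
    apply Subtype.ext
    rw [hψ, hc.2 a a.2, mul_inv_cancel_right]
  haveI : R.Normal := by
    refine ⟨?_⟩
    rintro _ ⟨c, hc, rfl⟩ x
    refine ⟨c, hc, ?_⟩
    have h1 : SemidirectProduct.inr x.right * SemidirectProduct.inl c *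
        (SemidirectProduct.inr x.right)⁻¹ = (SemidirectProduct.inl c : Γ) := by
      rw [← map_inv SemidirectProduct.inr, ← SemidirectProduct.inl_aut]
      exact congrArg _ (hfix x.right c hc)
    have hcomm : x.left * c = c * x.left := Subtype.ext (hVc _ x.left.2 _ c.2)
    conv_rhs => rw [← SemidirectProduct.inl_left_mul_inr_right x, mul_inv_rev]
    calc (SemidirectProduct.inl c : Γ) = SemidirectProduct.inl (x.left * c * x.left⁻¹) := by
          rw [hcomm, mul_inv_cancel_right]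
      _ = SemidirectProduct.inl x.left * (SemidirectProduct.inr x.right * SemidirectProduct.inl c *
            (SemidirectProduct.inr x.right)⁻¹) * (SemidirectProduct.inl x.left)⁻¹ := by
          rw [h1, map_mul, map_mul, map_inv]
      _ = _ := by group
  have hT : Q ≤ ⁅Q, (⊤ : Subgroup Γ)⁆ ⊔ R := by
    set T := (⁅Q, (⊤ : Subgroup Γ)⁆ ⊔ R).comap (SemidirectProduct.inl : V →* Γ) with hT
    have h2 : ⁅V, A⁆ ⊔ cv V A ≤ T.map V.subtype := by
      refine sup_le ?_ ?_
      · rw [Subgroup.commutator_le]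
        intro v hv a ha
        refine ⟨⟨⁅v, a⁆, commutator_mem hAV hv ha⟩, ?_, rfl⟩
        rw [SetLike.mem_coe, hT, Subgroup.mem_comap]
        refine Subgroup.mem_sup_left ?_
        let g : ψ.range := ⟨ψ ⟨a, ha⟩, ⟨⟨a, ha⟩, rfl⟩⟩
        have h3 : (SemidirectProduct.inl ⟨⁅v, a⁆, commutator_mem hAV hv ha⟩ : Γ) =
            ⁅(SemidirectProduct.inl ⟨v, hv⟩ : Γ), SemidirectProduct.inr g⁆ := by
          show _ = (SemidirectProduct.inl (⟨v, hv⟩ : V) : Γ) * SemidirectProduct.inr g *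
            (SemidirectProduct.inl (⟨v, hv⟩ : V))⁻¹ * (SemidirectProduct.inr g)⁻¹
          rw [mul_assoc (SemidirectProduct.inl (⟨v, hv⟩ : V)),
            mul_assoc (SemidirectProduct.inl (⟨v, hv⟩ : V)), ← map_inv SemidirectProduct.inl,
            ← map_inv SemidirectProduct.inr, ← SemidirectProduct.inl_aut, ← map_mul]
          refine congrArg _ (Subtype.ext ?_)
          rw [Subgroup.coe_mul, show ((ψ.range.subtype g) (⟨v, hv⟩⁻¹) : G) = a * v⁻¹ * a⁻¹ from
            hψ ⟨a, ha⟩ _]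
          show v * a * v⁻¹ * a⁻¹ = v * (a * v⁻¹ * a⁻¹)
          group
        rw [h3]
        exact Subgroup.commutator_mem_commutator ⟨_, rfl⟩ (Subgroup.mem_top _)
      · intro c hc
        exact ⟨⟨c, hc.1⟩, Subgroup.mem_sup_right ⟨⟨c, hc.1⟩, hc, rfl⟩, rfl⟩
    rintro _ ⟨v, rfl⟩
    obtain ⟨w, hw, hwv⟩ := h2 (h v.2)
    rw [← Subtype.ext hwv]
    exact hw
  have hQR := Fusion.le_of_le_commutator_sup_normal Q R hT
  intro v hv
  obtain ⟨c, hc, hce⟩ := hQR ⟨⟨v, hv⟩, rfl⟩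
  have := SemidirectProduct.inl_injective hce
  rw [this] at hc
  exact hc.2

end Cfsg.Agent.Replacement
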