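import Cfsg.Prelude.Def_Local
import Cfsg.Agent.Lib.Transfer.CoprimeQuotient
import Cfsg.Agent.Lib.Techniques.PConstrained
import Cfsg.Agent.Lib.PLocal.ZJ

/-!
From `p`-stability in the sense of a `p`-constrained group to the hypothesis of the `ZJ`-theorem.
-/

set_option autoImplicit false
set_option linter.style.haveILetI false

open scoped commutatorElement

namespace Cfsg.Agent.ZJ

open Cfsg.Agent

variable {G : Type*} [Group G] {p : ℕ}

theorem isQuad_quotient [Finite G] [hp : Fact p.Prime] (hs : Cfsg.IsPStable p G) :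
    IsQuad p (G ⧸ Cfsg.pPrimeCore p G) := by
  intro B _ a hB ha hq
  set f := QuotientGroup.mk' (Cfsg.pPrimeCore p G) with hf
  have hfs : Function.Surjective f := QuotientGroup.mk'_surjective _
  have hker : (Nat.card f.ker).Coprime p := by
    rw [hf, QuotientGroup.ker_mk']; exact PBasic.pPrimeCore_coprime p G
  set P0 := B.comap f with hP0
  obtain ⟨S⟩ : Nonempty (Sylow p P0) := inferInstance
  set P := (S : Subgroup P0).map P0.subtype with hPdef
  have hP : IsPGroup p P := S.isPGroup'.map _
  have hPmap : P.map f = B := by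
    set g := f.subgroupComap B with hg
    have hgs : Function.Surjective g := f.subgroupComap_surjective_of_surjective B hfs
    have h1 : (S : Subgroup P0).map g = ⊤ := by
      rw [← Sylow.coe_mapSurjective hgs S]
      exact ((S.mapSurjective hgs).is_maximal' (hB.to_subgroup ⊤) le_top).symm
    refine le_antisymm ?_ fun y hy => ?_
    · rintro _ ⟨_, ⟨x, -, rfl⟩, rfl⟩
      exact x.2
    · obtain ⟨x, hx, hxy⟩ : (⟨y, hy⟩ : B) ∈ (S : Subgroup P0).map g := h1 ▸ Subgroup.mem_top _
      exact ⟨x, Subgroup.mem_map_of_mem _ hx, congrArg Subtype.val hxy⟩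
  have hPn : (Cfsg.pPrimeCore p G ⊔ P).Normal := by
    have h : (P.map f).comap f = Cfsg.pPrimeCore p G ⊔ P := by
      rw [Subgroup.comap_map_eq, hf, QuotientGroup.ker_mk', sup_comm]
    rw [← h, hPmap]
    exact ‹B.Normal›.comap f
  have hPM : P ≤ Cfsg.pPrimePCore p G := fun x hx => by
    have hx' : f x ∈ B := hPmap ▸ Subgroup.mem_map_of_mem f hx
    exact PBasic.le_pCore ‹B.Normal› hB hx'
  set N := Subgroup.normalizer (P : Set G) with hN
  have hNtop : N.map f = ⊤ := by
    rw [← CoprimeQuotient.normalizer_map f hfs hker hP, hPmap, Subgroup.normalizer_eq_top]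
  obtain ⟨x, hx, hxa⟩ : a ∈ N.map f := hNtop ▸ Subgroup.mem_top a
  obtain ⟨u, v, huv, hu, hv, ⟨k, hk⟩, hvo⟩ := PBasic.exists_pPart_mul (p := p) x
  have hfv : f v = 1 := by
    refine PBasic.eq_one_of_isPGroup_of_coprime ha ?_
      (Nat.Coprime.coprime_dvd_left (orderOf_map_dvd f v) hvo)
    obtain ⟨i, rfl⟩ := Subgroup.mem_zpowers_iff.1 hv
    rw [map_zpow, hxa]
    exact Subgroup.zpow_mem _ (Subgroup.mem_zpowers a) i
  have hua : f u = a := by rw [← hxa, ← huv, map_mul, hfv, mul_one]
  have huN : u ∈ N := (Subgroup.zpowers_le.2 hx) hu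
  set A := Subgroup.zpowers u with hA
  have hAp : IsPGroup p A := IsPGroup.of_card (n := k) (by rw [Nat.card_zpowers, hk])
  have hAN : A ≤ N := Subgroup.zpowers_le.2 huN
  have hAP : ∀ c ∈ A, ∀ y ∈ P, c * y * c⁻¹ ∈ P := fun c hc y hy =>
    (Subgroup.mem_normalizer_iff.1 (hAN hc) y).1 hy
  have hle : ∀ Y : Subgroup G, Y ≤ P → ⁅Y, A⁆ ≤ P := fun Y hY => by
    rw [Subgroup.commutator_le]
    intro y hy c hc
    rw [commutatorElement_def, mul_assoc, mul_assoc, ← mul_assoc c]
    exact P.mul_mem (hY hy) (hAP c hc _ (P.inv_mem (hY hy)))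
  have hquad : ⁅⁅P, A⁆, A⁆ = ⊥ := by
    have h1 : ⁅⁅P, A⁆, A⁆ ≤ f.ker := by
      rw [← Subgroup.map_eq_bot_iff, Subgroup.map_commutator, Subgroup.map_commutator, hPmap,
        hA, MonoidHom.map_zpowers, hua]
      exact hq
    rw [eq_bot_iff, ← PBasic.inf_eq_bot_of_coprime hker hP]
    exact le_inf h1 (hle _ (hle _ le_rfl))
  have hmain := hs.2.2 A P hAp hP hAP hPM hPn hquad
  set C := Subgroup.centralizer (B : Set (G ⧸ Cfsg.pPrimeCore p G)) with hC
  have hlift : (Subgroup.centralizer (P : Set G)).subgroupOf N ≤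
      ((QuotientGroup.mk' C).comp (f.comp N.subtype)).ker := by
    intro c hc
    rw [MonoidHom.mem_ker, MonoidHom.comp_apply, QuotientGroup.mk'_apply, QuotientGroup.eq_one_iff]
    intro y hy
    rw [← hPmap] at hy
    obtain ⟨z, hz, rfl⟩ := hy
    have := congrArg f ((Subgroup.mem_subgroupOf.1 hc) z hz)
    simpa using this
  set φ := QuotientGroup.lift _ ((QuotientGroup.mk' C).comp (f.comp N.subtype)) hlift with hφ
  have hφs : Function.Surjective φ := by
    intro y
    obtain ⟨z, rfl⟩ := QuotientGroup.mk'_surjective C y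
    obtain ⟨w, hw, rfl⟩ : z ∈ N.map f := hNtop ▸ Subgroup.mem_top z
    exact ⟨QuotientGroup.mk ⟨w, hw⟩, rfl⟩
  have h2 := PBasic.map_pCore_le_of_surjective (p := p) φ hφs
    (Subgroup.mem_map_of_mem φ (hmain (Subgroup.mem_map_of_mem _
      (show (⟨u, huN⟩ : N) ∈ A.subgroupOf N from Subgroup.mem_zpowers u))))
  rw [← hua]
  exact h2

theorem isQuad_congr {H : Type*} [Group H] (f : G ≃* H) (h : IsQuad p G) : IsQuad p H := by
  intro B _ a hB ha hq
  haveI : (B.comap f.toMonoidHom).Normal := ‹B.Normal›.comap _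
  have hmap : (B.comap f.toMonoidHom).map f.toMonoidHom = B :=
    Subgroup.map_comap_eq_self_of_surjective f.surjective B
  have hz : (Subgroup.zpowers (f.symm a)).map f.toMonoidHom = Subgroup.zpowers a := by
    rw [MonoidHom.map_zpowers]; simp
  have h1 := h (B.comap f.toMonoidHom) (f.symm a) (hB.comap_of_injective _ f.injective)
    ((hz ▸ ha).of_injective
      (f.toMonoidHom.subgroupMap (Subgroup.zpowers (f.symm a)))
      (fun x y hxy => Subtype.ext (f.injective (congrArg Subtype.val hxy)))) ?_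
  · set C := Subgroup.centralizer (B : Set H) with hC
    have hlift : Subgroup.centralizer ((B.comap f.toMonoidHom : Subgroup G) : Set G) ≤
        ((QuotientGroup.mk' C).comp f.toMonoidHom).ker := by
      intro c hc
      rw [MonoidHom.mem_ker, MonoidHom.comp_apply, QuotientGroup.mk'_apply, QuotientGroup.eq_one_iff]
      intro y hy
      have h3 := hc (f.symm y) (by
        rw [SetLike.mem_coe, Subgroup.mem_comap]
        simpa using hy)
      simpa using congrArg f h3
    have h2 := PBasic.map_pCore_le_of_surjective (p := p)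
      (QuotientGroup.lift _ ((QuotientGroup.mk' C).comp f.toMonoidHom) hlift)
      (fun y => by
        obtain ⟨z, rfl⟩ := QuotientGroup.mk'_surjective C y
        exact ⟨QuotientGroup.mk (f.symm z), congrArg (QuotientGroup.mk' C) (f.apply_symm_apply z)⟩)
      (Subgroup.mem_map_of_mem _ h1)
    rw [← f.apply_symm_apply a]
    exact h2
  · rw [← Subgroup.map_eq_bot_iff_of_injective _ (f := f.toMonoidHom) f.injective,
      Subgroup.map_commutator, Subgroup.map_commutator, hmap, hz]
    exact hq

/-- A `p`-stable group with trivial `O_{p'}`. -/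
theorem isQuad_of_isPStable [Finite G] [Fact p.Prime] (hs : Cfsg.IsPStable p G)
    (h0 : Cfsg.pPrimeCore p G = ⊥) : IsQuad p G :=
  isQuad_congr ((QuotientGroup.quotientMulEquivOfEq h0).trans QuotientGroup.quotientBot)
    (isQuad_quotient hs)

/-- In a subgroup of characteristic `p` with `p`-stable action, `Z(J(R))` is normal. -/
theorem le_normalizer_zJ_of_stable [Finite G] [Fact p.Prime] (hp2 : p ≠ 2) (K : Subgroup G)
    (hq : IsQuad p K) (hc : Subgroup.centralizer (Cfsg.pCore p K : Set K) ≤ Cfsg.pCore p K)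
    (R : Sylow p K) (e : Prop) :
    K ≤ Subgroup.normalizer (zJ p e ((R : Subgroup K).map K.subtype) : Set G) := by
  rw [← zJ_map K.subtype K.subtype_injective.injOn]
  haveI := zJ_normal hp2 hq hc R e
  refine le_trans ?_ (Subgroup.le_normalizer_map K.subtype)
  rw [Subgroup.normalizer_eq_top, ← MonoidHom.range_eq_map, Subgroup.range_subtype]

end Cfsg.Agent.ZJ
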