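/-
Normal `p`-complements from `C(Z(S))` and `N(J(S))` (abelian subgroups of largest order), for odd `p`
and for `p = 2` in `S₄`-free groups.
-/
import Cfsg.Agent.Lib.Functors.Offender2
import Cfsg.Agent.Lib.PLocal.ThompsonNPC
import Cfsg.Agent.Lib.PLocal.ZJNPC
import Cfsg.Agent.Lib.PStable.Involved

set_option autoImplicit false
set_option linter.style.haveILetI false
set_option linter.unusedSectionVars false

open scoped Pointwise commutatorElement

namespace Cfsg.Agent.JCentreNPC

open Cfsg.Agent Cfsg.Agent.ThompsonNPC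

universe u

variable {G : Type u} [Group G] {p : ℕ}

theorem jSub_ne_bot [Finite G] [hp : Fact p.Prime] {S : Subgroup G} (hS : IsPGroup p S)
    (h : S ≠ ⊥) : ZJ.jSub p False S ≠ ⊥ := fun h0 =>
  (JQuad.isConjugacyFunctor_J (p := p) S hS).2.1 h h0

/-- The hypotheses pass to subgroups containing the Sylow subgroup in question. -/
theorem hyps_subgroup [Finite G] [Fact p.Prime] (K : Subgroup G) (S : Subgroup K)
    (hJ : Cfsg.HasNormalPComplement p
      (Subgroup.normalizer (ZJ.jSub p False (S.map K.subtype) : Set G)))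
    (hZ : Cfsg.HasNormalPComplement p (Subgroup.centralizer
      ((S.map K.subtype ⊓ Subgroup.centralizer ((S.map K.subtype : Subgroup G) : Set G) :
        Subgroup G) : Set G))) :
    Cfsg.HasNormalPComplement p (Subgroup.normalizer (ZJ.jSub p False S : Set K)) ∧
    Cfsg.HasNormalPComplement p (Subgroup.centralizer
      ((S ⊓ Subgroup.centralizer (S : Set K) : Subgroup K) : Set K)) := by
  constructor
  · refine npc_normalizer_of_injective K.subtype Subtype.coe_injective _ ?_
    rwa [ZJ.jSub_map (S := S) K.subtype Subtype.coe_injective.injOn]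
  · refine npc_centralizer_of_injective K.subtype Subtype.coe_injective _ ?_
    rwa [CoprimeQuotient.inf_centralizer_map (p := p) K.subtype S
      Subtype.coe_injective.injOn]

/-- Thompson's first reduction: a minimal counterexample has a nontrivial normal `p`-subgroup. -/
theorem exists_normal_pSubgroup [Finite G] [hp : Fact p.Prime] (P : Sylow p G)
    (hJ : Cfsg.HasNormalPComplement p
      (Subgroup.normalizer (ZJ.jSub p False (P : Subgroup G) : Set G)))
    (hZ : Cfsg.HasNormalPComplement p (Subgroup.centralizer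
      (((P : Subgroup G) ⊓ Subgroup.centralizer ((P : Subgroup G) : Set G) : Subgroup G) : Set G)))
    (hIH : ∀ K : Subgroup G, K ≠ ⊤ → ∀ S : Sylow p K,
      Cfsg.HasNormalPComplement p
        (Subgroup.normalizer (ZJ.jSub p False (S : Subgroup K) : Set K)) →
      Cfsg.HasNormalPComplement p (Subgroup.centralizer
        (((S : Subgroup K) ⊓ Subgroup.centralizer ((S : Subgroup K) : Set K) : Subgroup K) : Set K)) →
      Cfsg.HasNormalPComplement p K)
    (hG : ¬ Cfsg.HasNormalPComplement p G) :
    ∃ U : Subgroup G, U.Normal ∧ IsPGroup p U ∧ U ≠ ⊥ := by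
  classical
  have hbad : ∃ U : Subgroup G, IsPGroup p U ∧
      ¬ Cfsg.HasNormalPComplement p (Subgroup.normalizer (U : Set G)) ∧ U ≠ ⊥ := by
    by_contra h
    push Not at h
    refine hG (Fusion.hasNormalPComplement_of_frobenius fun D hD g hg hgo => ?_)
    by_cases hD1 : D = ⊥
    · intro x hx
      rw [hD1] at hx
      rw [Subgroup.mem_bot.1 hx, one_mul, mul_one]
    · refine Fusion.mem_centralizer_of_hasNormalPComplement hD ?_ hg hgo
      by_contra hn
      exact hD1 (h D hD hn)
  obtain ⟨U, ⟨hUp, hUn, hU1⟩, hmax⟩ := Set.exists_max_image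
    {U : Subgroup G | IsPGroup p U ∧
      ¬ Cfsg.HasNormalPComplement p (Subgroup.normalizer (U : Set G)) ∧ U ≠ ⊥}
    (fun U => (Nat.card (Subgroup.normalizer (U : Set G))).factorization p) (Set.toFinite _) hbad
  obtain ⟨S⟩ : Nonempty (Sylow p (Subgroup.normalizer (U : Set G))) := inferInstance
  obtain ⟨R, hR⟩ := (S.isPGroup'.map (Subgroup.normalizer (U : Set G)).subtype).exists_le_sylow
  obtain ⟨g, hg⟩ := MulAction.exists_smul_eq G R P
  set e := (MulAut.conj g).toMonoidHom with he
  set U' := U.map e with hU'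
  have hN' : (Subgroup.normalizer (U : Set G)).map e = Subgroup.normalizer (U' : Set G) :=
    Subgroup.map_equiv_normalizer_eq U (MulAut.conj g)
  set N := Subgroup.normalizer (U' : Set G) with hN
  set S' := ((S : Subgroup _).map (Subgroup.normalizer (U : Set G)).subtype).map e with hS'
  have hS'P : S' ≤ (P : Subgroup G) := by
    rw [← hg, Sylow.coe_subgroup_smul]
    exact Subgroup.map_mono hR
  have hS'N : S' ≤ N := hN' ▸ Subgroup.map_mono (Subgroup.map_subtype_le _)
  have hS'p : IsPGroup p S' := P.isPGroup'.to_le hS'P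
  have hcardN : Nat.card N = Nat.card (Subgroup.normalizer (U : Set G)) := by
    rw [← hN', Subgroup.card_map_of_injective (f := e) (MulAut.conj g).injective]
  have hcardS' : Nat.card S' = p ^ (Nat.card N).factorization p := by
    rw [hS', Subgroup.card_map_of_injective (f := e) (MulAut.conj g).injective,
      Subgroup.card_map_of_injective Subtype.coe_injective, hcardN, ← S.card_eq_multiplicity]
  have hU'bad : ¬ Cfsg.HasNormalPComplement p N := by
    rw [← hN', ← PBasic.hasNormalPComplement_congr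
      (Subgroup.equivMapOfInjective _ e (MulAut.conj g).injective)]
    exact hUn
  have hU'p : IsPGroup p U' := hUp.map e
  have hU'1 : U' ≠ ⊥ := by
    rw [hU', Ne, Subgroup.map_eq_bot_iff_of_injective _ (f := e) (MulAut.conj g).injective]
    exact hU1
  have hS'cases : S' = (P : Subgroup G) ∨ S' < (P : Subgroup G) := eq_or_lt_of_le hS'P
  let SN : Sylow p N := Sylow.ofCard (S'.subgroupOf N) (by
    rw [Nat.card_congr (Subgroup.subgroupOfEquivOfLe hS'N).toEquiv, hcardS'])
  have hSNmap : (SN : Subgroup N).map N.subtype = S' := Subgroup.map_subgroupOf_eq_of_le hS'N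
  by_cases hNtop : N = ⊤
  · exact ⟨U', Subgroup.normalizer_eq_top_iff.1 hNtop, hU'p, hU'1⟩
  exfalso
  apply hU'bad
  have key : Cfsg.HasNormalPComplement p (Subgroup.normalizer (ZJ.jSub p False S' : Set G)) ∧
      Cfsg.HasNormalPComplement p (Subgroup.centralizer
        ((S' ⊓ Subgroup.centralizer (S' : Set G) : Subgroup G) : Set G)) := by
    rcases hS'cases with heq | hlt
    · rw [heq]; exact ⟨hJ, hZ⟩
    have hS'1 : S' ≠ ⊥ := by
      intro hbot
      have h1 : Nat.card U' ≤ Nat.card S' := by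
        rw [hcardS']; exact pow_le_of_pSubgroup_le hU'p (hN ▸ Subgroup.le_normalizer)
      rw [hbot, Subgroup.card_bot] at h1
      exact hU'1 (Subgroup.card_eq_one.1 (le_antisymm h1 Nat.card_pos))
    have hgrow := Fusion.lt_inf_normalizer (Fusion.sylow_isNilpotent P) hlt
    have hgood : ∀ W : Subgroup G, W ≠ ⊥ → IsPGroup p W →
        Subgroup.normalizer (S' : Set G) ≤ Subgroup.normalizer (W : Set G) →
        Cfsg.HasNormalPComplement p (Subgroup.normalizer (W : Set G)) := by
      intro W hW1 hWp hle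
      by_contra hn
      have h1 : (Nat.card (Subgroup.normalizer (W : Set G))).factorization p ≤
          (Nat.card (Subgroup.normalizer (U : Set G))).factorization p := hmax W ⟨hWp, hn, hW1⟩
      rw [← hcardN] at h1
      have h2 := pow_le_of_pSubgroup_le (p := p) (P.isPGroup'.to_inf_left
        (K := Subgroup.normalizer (S' : Set G))) (inf_le_right.trans hle)
      have h3 : Nat.card S' < Nat.card ↥((P : Subgroup G) ⊓ Subgroup.normalizer (S' : Set G)) := by
        rcases lt_or_ge (Nat.card S')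
          (Nat.card ↥((P : Subgroup G) ⊓ Subgroup.normalizer (S' : Set G))) with h | h
        · exact h
        · exact absurd (Subgroup.eq_of_le_of_card_ge hgrow.le h) hgrow.ne
      rw [hcardS'] at h3
      exact absurd (h3.trans_le (h2.trans (Nat.pow_le_pow_right hp.out.pos h1))) (lt_irrefl _)
    refine ⟨hgood _ (jSub_ne_bot hS'p hS'1) (hS'p.to_le (ZJ.jSub_le S'))
      (ZJ.normalizer_le_normalizer_jSub S'), ?_⟩
    refine npc_of_le (normalizer_center_le S') ?_
    exact hgood _ (center_ne_bot hS'p hS'1) hS'p.to_inf_left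
      (normalizer_le_normalizer_center (p := p) S')
  obtain ⟨h1, h2⟩ := hyps_subgroup N (SN : Subgroup N) (by rw [hSNmap]; exact key.1)
    (by rw [hSNmap]; exact key.2)
  exact hIH N hNtop SN h1 h2

/-- An element of order prime to `p` fixing the elements of order `p` of an abelian normal
`p`-subgroup centralizes it. -/
theorem fixed_of_omega [Finite G] [hp : Fact p.Prime] {Z : Subgroup G} (hZn : Z.Normal)
    (hZp : IsPGroup p Z) (hZc : ∀ a ∈ Z, ∀ b ∈ Z, a * b = b * a) {g : G}
    (hg : (orderOf g).Coprime p) (h : ∀ z ∈ Z, z ^ p = 1 → g * z * g⁻¹ = z) :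
    ∀ z ∈ Z, g * z * g⁻¹ = z := by
  haveI := hZn
  have hfix : ∀ k : ℕ, ∀ z ∈ Z, z ^ p ^ k = 1 → g * z * g⁻¹ = z := by
    intro k
    induction k with
    | zero =>
      intro z _ hzk
      rw [pow_zero, pow_one] at hzk
      rw [hzk, mul_one, mul_inv_cancel]
    | succ k ih =>
      intro z hz hzk
      have hzp : g * z ^ p * g⁻¹ = z ^ p := ih _ (Z.pow_mem hz p) (by
        rw [← pow_mul, ← pow_succ']; exact hzk)
      have hwZ : z⁻¹ * (g * z * g⁻¹) ∈ Z := Z.mul_mem (Z.inv_mem hz) (hZn.conj_mem z hz g)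
      have hwp : (z⁻¹ * (g * z * g⁻¹)) ^ p = 1 := by
        rw [Commute.mul_pow (hZc _ (Z.inv_mem hz) _ (hZn.conj_mem z hz g)), conj_pow, hzp,
          inv_pow, inv_mul_cancel]
      have := OffenderAction.fixed_of_fixed_quot hZp (MulAut.conjNormal (H := Z) g)
        (Nat.Coprime.coprime_dvd_left (orderOf_map_dvd _ g) hg) ⟨z, hz⟩ (by
          apply Subtype.ext
          simp only [MulAut.conjNormal_apply, Subgroup.coe_mul, Subgroup.coe_inv]
          exact h _ hwZ hwp)
      have := congrArg Subtype.val this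
      simpa using this
  intro z hz
  obtain ⟨k, hk⟩ := hZp ⟨z, hz⟩
  exact hfix k z hz (congrArg Subtype.val hk)

/-- An elementary abelian `2`-group acting on an abelian group of odd order centralizes it, as soon
as it centralizes the fixed points of its subgroups of index two. -/
theorem centralizes_of_hyperplanes {H : Type*} [Group H] [Finite H] {K B : Subgroup H}
    (hKc : ∀ a ∈ K, ∀ b ∈ K, a * b = b * a) (hK2 : (Nat.card K).Coprime 2)
    (hKn : ∀ b ∈ B, ∀ k ∈ K, b * k * b⁻¹ ∈ K) (hBc : ∀ a ∈ B, ∀ b ∈ B, a * b = b * a)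
    (hB2 : ∀ b ∈ B, b * b = 1)
    (hbase : ∀ D : Subgroup H, D ≤ B → D.relIndex B = 2 → ∀ k ∈ K, (∀ d ∈ D, d * k = k * d) →
      ∀ b ∈ B, b * k = k * b) :
    ∀ k ∈ K, ∀ b ∈ B, b * k = k * b := by
  classical
  suffices h : ∀ n : ℕ, ∀ D : Subgroup H, D ≤ B → Nat.card B - Nat.card D = n → D ≠ B →
      ∀ k ∈ K, (∀ d ∈ D, d * k = k * d) → ∀ b ∈ B, b * k = k * b by
    intro k hk b hb
    by_cases h0 : (⊥ : Subgroup H) = B
    · rw [← h0, Subgroup.mem_bot] at hb
      rw [hb, one_mul, mul_one]
    · exact h _ ⊥ bot_le rfl h0 k hk (fun d hd => by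
        rw [Subgroup.mem_bot.1 hd, one_mul, mul_one]) b hb
  intro n
  induction n using Nat.strong_induction_on with
  | _ n ih =>
    intro D hDB hn hne k hk hfix
    -- adjoining one element
    have hext : ∀ b ∈ B, b ∉ D → ∃ D' : Subgroup H, D < D' ∧ D' ≤ B ∧
        ∀ x, x ∈ D' ↔ x ∈ D ∨ x * b ∈ D ∧ x ∈ B := by
      intro b hb hbD
      refine ⟨{
        carrier := {x | x ∈ D ∨ x * b ∈ D ∧ x ∈ B}
        one_mem' := Or.inl (one_mem _)
        mul_mem' := ?_
        inv_mem' := ?_ }, ?_, ?_, fun x => Iff.rfl⟩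
      · intro x y hx hy
        rcases hx with hx | ⟨hxb, hxB⟩ <;> rcases hy with hy | ⟨hyb, hyB⟩
        · exact Or.inl (mul_mem hx hy)
        · exact Or.inr ⟨by rw [mul_assoc]; exact mul_mem hx hyb, mul_mem (hDB hx) hyB⟩
        · refine Or.inr ⟨?_, mul_mem hxB (hDB hy)⟩
          rw [mul_assoc, hBc y (hDB hy) b hb, ← mul_assoc]
          exact mul_mem hxb hy
        · refine Or.inl ?_
          have := mul_mem hxb hyb
          rwa [show x * b * (y * b) = x * y by
            rw [hBc y hyB b hb, mul_assoc, ← mul_assoc b, hB2 b hb, one_mul]] at this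
      · intro x hx
        rcases hx with hx | ⟨hxb, hxB⟩
        · exact Or.inl (inv_mem hx)
        · refine Or.inr ⟨?_, inv_mem hxB⟩
          rwa [inv_eq_of_mul_eq_one_right (hB2 x hxB)]
      · refine lt_of_le_of_ne (fun x hx => Or.inl hx) fun e => hbD ?_
        rw [e]
        exact Or.inr ⟨by rw [hB2 b hb]; exact one_mem _, hb⟩
      · rintro x (hx | ⟨-, hx⟩)
        exacts [hDB hx, hx]
    have hstep : ∀ D' : Subgroup H, D < D' → D' ≤ B → D' ≠ B → ∀ x ∈ K,
        (∀ d ∈ D', d * x = x * d) → ∀ b ∈ B, b * x = x * b := by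
      intro D' hlt hle hne' x hx hfx
      refine ih _ ?_ D' hle rfl hne' x hx hfx
      have h1 : Nat.card D < Nat.card D' :=
        Set.ncard_lt_ncard (SetLike.coe_ssubset_coe.2 hlt) (Set.toFinite _)
      have h2 : Nat.card D' ≤ Nat.card B := Subgroup.card_le_of_le hle
      omega
    obtain ⟨b1, hb1, hb1D⟩ := SetLike.exists_of_lt (lt_of_le_of_ne hDB hne)
    obtain ⟨D1, hlt1, hle1, hmem1⟩ := hext b1 hb1 hb1D
    by_cases hD1 : D1 = B
    · refine hbase D hDB ?_ k hk hfix
      rw [Subgroup.relIndex, Subgroup.index_eq_two_iff]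
      refine ⟨⟨b1, hb1⟩, fun x => ?_⟩
      simp only [Subgroup.mem_subgroupOf, Subgroup.coe_mul]
      rcases (hmem1 x).1 (hD1.symm ▸ x.2) with h | ⟨h, -⟩
      · exact Or.inr ⟨h, fun h' => hb1D (by simpa using mul_mem (inv_mem h) h')⟩
      · exact Or.inl ⟨h, fun h' => hb1D (by simpa using mul_mem (inv_mem h') h)⟩
    obtain ⟨b2, hb2, hb2D1⟩ := SetLike.exists_of_lt (lt_of_le_of_ne hle1 hD1)
    have hb2D : b2 ∉ D := fun h => hb2D1 ((hmem1 _).2 (Or.inl h))
    have hb21 : b2 * b1 ∉ D := fun h => hb2D1 ((hmem1 _).2 (Or.inr ⟨h, hb2⟩))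
    obtain ⟨D2, hlt2, hle2, hmem2⟩ := hext b2 hb2 hb2D
    have hD2 : D2 ≠ B := fun e => by
      rcases (hmem2 b1).1 (e.symm ▸ hb1) with h | ⟨h, -⟩
      · exact hb1D h
      · exact hb21 (by rwa [hBc b2 hb2 b1 hb1])
    set b3 := b2 * b1 with hb3def
    have hb3 : b3 ∈ B := mul_mem hb2 hb1
    obtain ⟨D3, hlt3, hle3, hmem3⟩ := hext b3 hb3 hb21
    have hD3 : D3 ≠ B := fun e => by
      rcases (hmem3 b1).1 (e.symm ▸ hb1) with h | ⟨h, -⟩
      · exact hb1D h
      · apply hb2D
        rwa [hb3def, hBc b2 hb2 b1 hb1, ← mul_assoc, hB2 b1 hb1, one_mul] at h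
    -- `k ^ (1 + b)` is fixed by `B`
    have key : ∀ b ∈ B, ∀ D' : Subgroup H, D < D' → D' ≤ B → D' ≠ B →
        (∀ x, x ∈ D' ↔ x ∈ D ∨ x * b ∈ D ∧ x ∈ B) →
        ∀ c ∈ B, c * (k * (b * k * b⁻¹)) = k * (b * k * b⁻¹) * c := by
      intro b hb D' hlt hle hne' hmem
      have hbk := hKn b hb k hk
      refine hstep D' hlt hle hne' _ (mul_mem hk hbk) fun d hd => ?_
      have hD : ∀ d ∈ D, Commute d (k * (b * k * b⁻¹)) := fun d hd =>
        (show Commute d k from hfix d hd).mul_right
          (((show Commute d b from hBc d (hDB hd) b hb).mul_right (hfix d hd)).mul_right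
            (show Commute d b from hBc d (hDB hd) b hb).inv_right)
      rcases (hmem d).1 hd with h | ⟨h, -⟩
      · exact hD d h
      · have hbfix : Commute b (k * (b * k * b⁻¹)) := by
          show b * (k * (b * k * b⁻¹)) = k * (b * k * b⁻¹) * b
          calc b * (k * (b * k * b⁻¹)) = (b * k * b⁻¹) * (b * b) * k * b⁻¹ := by group
            _ = (b * k * b⁻¹) * k * b⁻¹ := by rw [hB2 b hb, mul_one]
            _ = k * (b * k * b⁻¹) * b⁻¹ := by rw [hKc _ hbk k hk]
            _ = k * (b * k * b⁻¹) * b := by rw [inv_eq_of_mul_eq_one_right (hB2 b hb)]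
        have h1 := (hD _ h).mul_left hbfix
        rwa [mul_assoc, hB2 b hb, mul_one] at h1
    refine hstep D3 hlt3 hle3 hD3 k hk fun d hd => ?_
    rcases (hmem3 d).1 hd with h | ⟨h, -⟩
    · exact hfix d h
    suffices h3 : Commute b3 k by
      have h1 := (show Commute (d * b3) k from hfix _ h).mul_left h3
      rwa [mul_assoc, hB2 b3 hb3, mul_one] at h1
    set k1 := b1 * k * b1⁻¹ with hk1
    set k2 := b2 * k * b2⁻¹ with hk2
    set k12 := b3 * k * b3⁻¹ with hk12
    have e1 : k * k1 = k2 * k12 := by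
      have := key b1 hb1 D1 hlt1 hle1 hD1 hmem1 b2 hb2
      calc k * k1 = k * k1 * b2 * b2⁻¹ := by rw [mul_inv_cancel_right]
        _ = b2 * (k * k1) * b2⁻¹ := by rw [this]
        _ = k2 * k12 := by simp only [hk1, hk2, hk12, hb3def]; group
    have e2 : k * k2 = k1 * k12 := by
      have := key b2 hb2 D2 hlt2 hle2 hD2 hmem2 b1 hb1
      calc k * k2 = k * k2 * b1 * b1⁻¹ := by rw [mul_inv_cancel_right]
        _ = b1 * (k * k2) * b1⁻¹ := by rw [this]
        _ = k1 * ((b1 * b2) * k * (b1 * b2)⁻¹) := by simp only [hk1, hk2]; group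
        _ = k1 * k12 := by rw [hBc b1 hb1 b2 hb2]
    letI : CommGroup K := { (inferInstance : Group K) with
      mul_comm := fun a b => Subtype.ext (hKc a a.2 b b.2) }
    set x : K := ⟨k1, hKn b1 hb1 k hk⟩
    set y : K := ⟨k2, hKn b2 hb2 k hk⟩
    have f1 : (⟨k, hk⟩ : K) * x = y * ⟨k12, hKn b3 hb3 k hk⟩ := Subtype.ext e1
    have f2 : (⟨k, hk⟩ : K) * y = x * ⟨k12, hKn b3 hb3 k hk⟩ := Subtype.ext e2
    have hdiv : x / y = y / x := by
      rw [← mul_div_mul_left_eq_div x y (⟨k, hk⟩ : K), f1, f2, mul_div_mul_right_eq_div]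
    have hsq : (x / y) ^ 2 = 1 := by
      rw [pow_two]; nth_rewrite 2 [hdiv]
      rw [div_mul_div_cancel, div_self']
    have hxy : x = y := by
      rw [← div_eq_one]
      exact orderOf_eq_one_iff.1 (Nat.eq_one_of_dvd_coprimes hK2 (orderOf_dvd_natCard _)
        (orderOf_dvd_of_pow_eq_one hsq))
    have h12 : k1 = k2 := congrArg Subtype.val hxy
    show b3 * k = k * b3
    calc b3 * k = b2 * (b1 * k * b1⁻¹) * b1 := by simp only [hb3def]; group
      _ = b2 * (b2 * k * b2⁻¹) * b1 := by rw [← hk1, ← hk2, h12]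
      _ = k * b3 := by
        simp only [hb3def]
        rw [← mul_assoc, ← mul_assoc, hB2 b2 hb2, one_mul, inv_eq_of_mul_eq_one_right (hB2 b2 hb2),
          mul_assoc]

/-- The endgame: `C(O_p) ≤ O_p` and the quotient has an abelian complement. -/
theorem endgame [Finite G] [hp : Fact p.Prime]
    (hS4 : p ≠ 2 ∨ ¬ Cfsg.Involves (Equiv.Perm (Fin 4)) G) (P : Sylow p G)
    (hG : ¬ Cfsg.HasNormalPComplement p G)
    (hJ : Cfsg.HasNormalPComplement p
      (Subgroup.normalizer (ZJ.jSub p False (P : Subgroup G) : Set G)))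
    (hZ : Cfsg.HasNormalPComplement p (Subgroup.centralizer
      (((P : Subgroup G) ⊓ Subgroup.centralizer ((P : Subgroup G) : Set G) : Subgroup G) : Set G)))
    (hC : Subgroup.centralizer (Cfsg.pCore p G : Set G) ≤ Cfsg.pCore p G)
    (hbar : Cfsg.HasNormalPComplement p (G ⧸ Cfsg.pCore p G))
    (hmax : ∀ L : Subgroup G, (P : Subgroup G) ≤ L → L ≠ ⊤ → L = (P : Subgroup G)) : False := by
  classical
  set U := Cfsg.pCore p G with hU
  set f := QuotientGroup.mk' U with hf
  have hfs : Function.Surjective f := QuotientGroup.mk'_surjective U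
  have hUP : U ≤ (P : Subgroup G) := PBasic.pCore_le_sylow P
  set Pbar := P.mapSurjective hfs with hPbar
  have hmaxbar : ∀ L : Subgroup (G ⧸ U), (Pbar : Subgroup (G ⧸ U)) ≤ L → L ≠ ⊤ →
      L = (Pbar : Subgroup (G ⧸ U)) := by
    intro L hL hLtop
    have h := hmax (L.comap f) (by rw [← Subgroup.map_le_iff_le_comap]; exact hL) (fun h => hLtop (by
      rw [← Subgroup.map_comap_eq_self_of_surjective hfs L, h,
        Subgroup.map_top_of_surjective f hfs]))
    rw [hPbar, Sylow.coe_mapSurjective, ← h, Subgroup.map_comap_eq_self_of_surjective hfs]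
  have hKc := pResidual_commute_of_maximal Pbar hbar hmaxbar
  set K := Cfsg.pResidual p (G ⧸ U) with hK
  have hKcard : (Nat.card K).Coprime p := PBasic.hasNormalPComplement_iff_pResidual.1 hbar
  have hKn : K.Normal := PBasic.pResidual_normal_inst p (G ⧸ U)
  have hO : Cfsg.pCore p (G ⧸ U) = ⊥ := PBasic.pCore_quotient_pCore p G
  have hJn : ¬ (ZJ.jSub p False (P : Subgroup G)).Normal := fun hn => by
    rw [Subgroup.normalizer_eq_top_iff.2 hn, PBasic.hasNormalPComplement_congr Subgroup.topEquiv] at hJ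
    exact hG hJ
  obtain ⟨A, hA, hAU, hZA⟩ := JQuad.exists_abelian P hJn
  -- the module `V`
  let Z := U ⊓ Subgroup.centralizer (U : Set G)
  haveI hZn : Z.Normal := Subgroup.normal_inf_normal _ _
  have hZc : ∀ a ∈ Z, ∀ b ∈ Z, a * b = b * a := fun a ha b hb =>
    (Subgroup.mem_inf.1 hb).2 a (Subgroup.mem_inf.1 ha).1
  have hZp : IsPGroup p Z := (PBasic.pCore_isPGroup p G).to_le inf_le_left
  let V : Subgroup G :=
    { carrier := {z | z ∈ Z ∧ z ^ p = 1}
      mul_mem' := fun {a b} ha hb => ⟨Z.mul_mem ha.1 hb.1, by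
        rw [Commute.mul_pow (hZc a ha.1 b hb.1), ha.2, hb.2, mul_one]⟩
      one_mem' := ⟨Z.one_mem, one_pow p⟩
      inv_mem' := fun {a} ha => ⟨Z.inv_mem ha.1, by rw [inv_pow, ha.2, inv_one]⟩ }
  haveI hVn : V.Normal := ⟨fun v hv g => ⟨hZn.conj_mem v hv.1 g, by
    rw [conj_pow, hv.2, mul_one, mul_inv_cancel]⟩⟩
  have hVc : ∀ a ∈ V, ∀ b ∈ V, a * b = b * a := fun a ha b hb => hZc a ha.1 b hb.1
  have hVZ : V ≤ Z := fun v hv => hv.1
  have hVU : V ≤ U := hVZ.trans inf_le_left
  have hCV : Subgroup.centralizer (V : Set G) = U := by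
    refine le_antisymm ?_ fun u hu v hv => (((Subgroup.mem_inf.1 (hVZ hv)).2) u hu).symm
    by_cases htop : (P : Subgroup G) ⊔ Subgroup.centralizer (V : Set G) = ⊤
    · exfalso
      have hres : Cfsg.pResidual p G ≤ Subgroup.centralizer
          (((P : Subgroup G) ⊓ Subgroup.centralizer ((P : Subgroup G) : Set G) : Subgroup G) : Set G) := by
        rw [Cfsg.pResidual, Subgroup.closure_le]
        intro g hg
        have hgC : g ∈ Subgroup.centralizer (V : Set G) := by
          set π := QuotientGroup.mk' (Subgroup.centralizer (V : Set G))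
          have hπs : Function.Surjective π := QuotientGroup.mk'_surjective _
          have hq : IsPGroup p (G ⧸ Subgroup.centralizer (V : Set G)) := by
            have h1 : ((P : Subgroup G).map π) = ⊤ := by
              rw [← Subgroup.map_top_of_surjective π hπs, ← htop, Subgroup.map_sup,
                (Subgroup.map_eq_bot_iff (H := Subgroup.centralizer (V : Set G)) (f := π)).2
                  (QuotientGroup.ker_mk' _).ge, sup_bot_eq]
            have h2 := P.isPGroup'.map π
            rw [h1] at h2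
            exact h2.of_equiv Subgroup.topEquiv
          have h1 : orderOf (π g) = 1 := by
            obtain ⟨k, hk⟩ := IsPGroup.iff_orderOf.1 hq (π g)
            have h2 := Nat.Coprime.coprime_dvd_left (orderOf_map_dvd π g) hg
            rw [hk] at h2 ⊢
            rcases Nat.eq_zero_or_pos k with hk0 | hk0
            · rw [hk0, pow_zero]
            · exact absurd ((Nat.coprime_pow_left_iff hk0 p p).1 h2)
                fun h => hp.out.one_lt.ne' ((Nat.coprime_self p).1 h)
          exact (QuotientGroup.eq_one_iff g).1 (orderOf_eq_one_iff.1 h1)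
        intro z hz
        have hzU : z ∈ U := hC (Subgroup.centralizer_le (SetLike.coe_subset_coe.2 hUP)
          (Subgroup.mem_inf.1 hz).2)
        have hzZ : z ∈ Z := ⟨hzU, fun u hu => (Subgroup.mem_inf.1 hz).2 u (hUP hu)⟩
        have := fixed_of_omega hZn hZp hZc hg (fun w hw hwp => mul_inv_eq_iff_eq_mul.2
          (Subgroup.mem_centralizer_iff.1 hgC w ⟨hw, hwp⟩).symm) z hzZ
        exact (mul_inv_eq_iff_eq_mul.1 this).symm
      have hPle : (P : Subgroup G) ≤ Subgroup.centralizer
          (((P : Subgroup G) ⊓ Subgroup.centralizer ((P : Subgroup G) : Set G) : Subgroup G) : Set G) :=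
        fun x hx z hz => ((Subgroup.mem_inf.1 hz).2 x hx).symm
      have htop' := sup_le hPle hres
      rw [PBasic.sylow_sup_pResidual P, top_le_iff] at htop'
      rw [htop', PBasic.hasNormalPComplement_congr Subgroup.topEquiv] at hZ
      exact hG hZ
    · exact PBasic.le_pCore inferInstance
        (P.isPGroup'.to_le (le_sup_right.trans (hmax _ le_sup_left htop).le))
  letI : CommGroup V := { (inferInstance : Group V) with
    mul_comm := fun a b => Subtype.ext (hVc a a.2 b b.2) }
  have hVp : IsPGroup p V := hZp.to_le hVZ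
  have hUker : U ≤ (MulAut.conjNormal : G →* MulAut V).ker := by
    intro u hu
    rw [MonoidHom.mem_ker]
    ext v
    rw [MulAut.conjNormal_apply, MulAut.one_apply, (Subgroup.mem_inf.1 v.2.1).2 u hu]
    group
  let ρ : G ⧸ U →* MulAut V := QuotientGroup.lift U MulAut.conjNormal hUker
  have hρ : ∀ (g : G) (v : V), ((ρ (f g) v : V) : G) = g * v * g⁻¹ := fun g v =>
    MulAut.conjNormal_apply g v
  have hρinj : Function.Injective ρ := by
    rw [← MonoidHom.ker_eq_bot_iff, Subgroup.eq_bot_iff_forall]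
    intro x hx
    obtain ⟨g, rfl⟩ := hfs x
    refine (QuotientGroup.eq_one_iff g).2 (hCV.le ?_)
    intro v hv
    have h := hρ g ⟨v, hv⟩
    rw [MonoidHom.mem_ker.1 hx, MulAut.one_apply] at h
    exact (eq_mul_inv_iff_mul_eq.1 h)
  have hAC : ¬ A ≤ Subgroup.centralizer (V : Set G) := fun h => hAU (h.trans hCV.le)
  have hVA : V ≤ Subgroup.normalizer (A : Set G) := hVZ.trans hZA
  -- a subgroup of the Sylow subgroup centralizing `K`
  suffices key : ∃ B : Subgroup G, B ≤ (P : Subgroup G) ∧ ¬ B ≤ U ∧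
      ∀ a ∈ B, ∀ k ∈ K, f a * k = k * f a by
    obtain ⟨B, hBP, hBU, hcomm⟩ := key
    set S := (Pbar : Subgroup (G ⧸ U)) ⊓ Subgroup.centralizer (K : Set (G ⧸ U)) with hS
    have hSn : S.Normal := by
      rw [← Subgroup.normalizer_eq_top_iff, eq_top_iff, ← PBasic.sylow_sup_pResidual Pbar]
      refine sup_le ?_ ?_
      · refine le_trans (le_inf Subgroup.le_normalizer ?_) Subgroup.inf_normalizer_le_normalizer_inf
        rw [Subgroup.normalizer_eq_top]; exact le_top
      · refine le_trans ?_ (Subgroup.centralizer_le_normalizer _)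
        intro k hk s hs
        exact ((Subgroup.mem_inf.1 hs).2 k hk).symm
    have hS1 : S ≤ ⊥ := hO ▸ PBasic.le_pCore hSn Pbar.isPGroup'.to_inf_left
    refine hBU fun a ha => (QuotientGroup.eq_one_iff a).1 (Subgroup.mem_bot.1 (hS1 ?_))
    exact ⟨Subgroup.mem_map_of_mem f (hBP ha), fun k hk => (hcomm a ha k hk).symm⟩
  -- quadratic action
  have hquad : ∀ B : Subgroup G, ⁅⁅V, B⁆, B⁆ = ⊥ → ∀ a ∈ B, ∀ b ∈ B, ∀ v : V,
      ρ (f b) (ρ (f a) v * v⁻¹) = ρ (f a) v * v⁻¹ := by
    intro B hq a ha b hb v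
    apply Subtype.ext
    rw [hρ, Subgroup.coe_mul, hρ, Subgroup.coe_inv]
    have h1 : ⁅⁅a, (v : G)⁆, b⁆ = 1 := by
      rw [← Subgroup.mem_bot, ← hq]
      refine Subgroup.commutator_mem_commutator ?_ hb
      rw [← commutatorElement_inv]
      exact Subgroup.inv_mem _ (Subgroup.commutator_mem_commutator v.2 ha)
    rw [commutatorElement_eq_one_iff_mul_comm, commutatorElement_def] at h1
    rw [mul_inv_eq_iff_eq_mul]
    exact h1.symm
  by_cases hp2 : p = 2
  swap
  · refine ⟨A, hA.1, hAU, fun a ha k hk => ?_⟩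
    have hq : ⁅⁅V, A⁆, A⁆ = ⊥ := by
      rw [Subgroup.commutator_eq_bot_iff_le_centralizer]
      refine le_trans (Subgroup.commutator_le.2 fun v hv x hx => ?_)
        (fun x hx y hy => hA.2.1.comm hy hx)
      rw [commutatorElement_def]
      exact A.mul_mem ((Subgroup.mem_normalizer_iff.1 (hVA hv) x).1 hx) (A.inv_mem hx)
    apply hρinj
    rw [map_mul, map_mul]
    refine ZJNPC.act_commute hp2 hVp (ρ (f a)) (ρ k) (hquad A hq a ha a ha) ?_ ?_ hKcard ?_
    · rw [← map_inv, ← map_mul, ← map_mul]
      exact (show Commute (f a * k * (f a)⁻¹) k from hKc _ (hKn.conj_mem k hk _) _ hk).map ρ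
    · rw [← map_inv, ← map_mul, ← map_mul]
      exact (show Commute ((f a)⁻¹ * k * f a) k from
        hKc _ (by have := hKn.conj_mem k hk (f a)⁻¹; rwa [inv_inv] at this) _ hk).map ρ
    · rw [← map_pow, show k ^ Nat.card K = 1 from
        congrArg Subtype.val (pow_card_eq_one' (x := (⟨k, hk⟩ : K))), map_one]
  subst hp2
  have hS4' : ¬ Cfsg.Involves (Equiv.Perm (Fin 4)) G := hS4.resolve_left (by simp)
  have hO' : Cfsg.pCore 2 (G ⧸ Subgroup.centralizer (V : Set G)) = ⊥ := by
    have : ∀ (N : Subgroup G) [N.Normal], N = U → Cfsg.pCore 2 (G ⧸ N) = ⊥ := by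
      rintro N _ rfl
      exact hO
    exact this _ hCV
  obtain ⟨B, ⟨hBo, hBA⟩, hBmin⟩ := (Set.toFinite {B | Offender2.IsOff V B ∧ B ≤ A}).exists_minimal
    ⟨A, Offender2.isOff_of_max P.isPGroup' hVc (hVU.trans hUP) hA hVA hAC, le_rfl⟩
  have hmin : ∀ C < B, ¬ Offender2.IsOff V C := fun C hC hCo =>
    hC.not_ge (hBmin ⟨hCo, hC.le.trans hBA⟩ hC.le)
  refine ⟨B, hBA.trans hA.1, fun h => hBo.2.2.1 (h.trans hCV.ge), fun a ha k hk => ?_⟩
  have hq := hquad B hBo.2.2.2.1
  refine centralizes_of_hyperplanes (B := B.map f) hKc hKcard (fun b _ k hk => hKn.conj_mem k hk b)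
    ?_ ?_ ?_ k hk (f a) (Subgroup.mem_map_of_mem f ha)
  · rintro _ ⟨x, hx, rfl⟩ _ ⟨y, hy, rfl⟩
    rw [← map_mul, ← map_mul, hBo.2.1 x hx y hy]
  · -- exponent two
    rintro _ ⟨b, hb, rfl⟩
    apply hρinj
    rw [map_mul, map_one]
    refine MulEquiv.ext fun v => ?_
    set w := ρ (f b) v * v⁻¹ with hw
    have h1 : ρ (f b) v = w * v := by rw [hw, inv_mul_cancel_right]
    have h2 : w * w = 1 := by
      apply Subtype.ext
      rw [← pow_two, SubmonoidClass.coe_pow]
      exact w.2.2
    have h3 : ρ (f b) w = w := hq b hb b hb v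
    rw [MulAut.mul_apply, MulAut.one_apply, h1, map_mul, h3, h1, ← mul_assoc, h2, one_mul]
  · intro D hDB hidx k hk hfix b hb
    -- vectors fixed by `D` are fixed by `B`
    have hfixW : ∀ v : V, (∀ d ∈ D, ρ d v = v) → ∀ c ∈ B.map f, ρ c v = v := by
      intro v hv
      rintro _ ⟨c, hc, rfl⟩
      set B' := B ⊓ D.comap f with hB'
      have hidx' : B'.relIndex B = 2 := by
        rw [hB', Subgroup.inf_relIndex_left, Subgroup.relIndex_comap]
        exact hidx
      have := Offender2.fixed_of_minimal hS4' hVc hO' hBo hmin (B := B') inf_le_left hidx'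
        (fun t ht => Subgroup.mem_inf.2 ⟨(Subgroup.mem_inf.1 ht).1, by
          rw [Subgroup.mem_comap,
            show f t = 1 from (QuotientGroup.eq_one_iff t).2 (hCV.le (Subgroup.mem_inf.1 ht).2)]
          exact one_mem D⟩) v.2 (Subgroup.mem_centralizer_iff.2 fun t ht => by
          have h := congrArg Subtype.val (hv _ (Subgroup.mem_inf.1 ht).2)
          rw [hρ] at h
          exact mul_inv_eq_iff_eq_mul.1 h)
      apply Subtype.ext
      rw [hρ]
      exact mul_inv_eq_iff_eq_mul.2 (Subgroup.mem_centralizer_iff.1 this c hc)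
    have hkfix : ∀ v : V, (∀ c ∈ B.map f, ρ c v = v) →
        (∀ c ∈ B.map f, ρ c (ρ k v) = ρ k v) ∧ ∀ c ∈ B.map f, ρ c (ρ k⁻¹ v) = ρ k⁻¹ v := by
      intro v hv
      constructor <;> refine hfixW _ fun d hd => ?_
      · rw [← MulAut.mul_apply, ← map_mul, hfix d hd, map_mul, MulAut.mul_apply, hv d (hDB hd)]
      · rw [← MulAut.mul_apply, ← map_mul, (show Commute d k from hfix d hd).inv_right.eq, map_mul,
          MulAut.mul_apply, hv d (hDB hd)]
    obtain ⟨b, hbB, rfl⟩ := hb
    set c := f b * k * (f b)⁻¹ * k⁻¹ with hc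
    have hcK : c ∈ K := mul_mem (hKn.conj_mem k hk _) (inv_mem hk)
    have hcW : ∀ w : V, (∀ x ∈ B.map f, ρ x w = w) → ρ c w = w := by
      intro w hw
      rw [hc, map_mul, map_mul, map_mul, MulAut.mul_apply, MulAut.mul_apply, MulAut.mul_apply,
        (hkfix w hw).2 _ (inv_mem (Subgroup.mem_map_of_mem f hbB)),
        show ρ k (ρ k⁻¹ w) = w by
          rw [← MulAut.mul_apply, ← map_mul, mul_inv_cancel, map_one, MulAut.one_apply],
        hw _ (Subgroup.mem_map_of_mem f hbB)]
    have hc1 : ρ c = 1 := by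
      refine MulEquiv.ext fun v => ?_
      rw [MulAut.one_apply]
      refine OffenderAction.fixed_of_fixed_quot hVp (ρ c)
        (Nat.Coprime.coprime_dvd_left ((orderOf_map_dvd ρ c).trans
          (Subgroup.orderOf_dvd_natCard K hcK)) hKcard) v (hcW _ ?_)
      set u := ρ (f b)⁻¹ (ρ k⁻¹ v) with hu
      have hbu : ρ (f b) u = ρ k⁻¹ v := by
        rw [hu, ← MulAut.mul_apply, ← map_mul, mul_inv_cancel, map_one, MulAut.one_apply]
      have hw1 : ∀ u : V, ∀ x ∈ B.map f, ρ x (ρ (f b) u * u⁻¹) = ρ (f b) u * u⁻¹ := by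
        rintro u _ ⟨x, hx, rfl⟩
        exact hq b hbB x hx u
      set w1 := ρ (f b) u * u⁻¹ with hw1def
      set w2 := ρ (f b) (ρ k u) * (ρ k u)⁻¹ with hw2def
      have e : v⁻¹ * ρ c v = w2 * (ρ k w1)⁻¹ := by
        have ev : v = ρ k (w1 * u) := by
          rw [hw1def, inv_mul_cancel_right, hbu, ← MulAut.mul_apply, ← map_mul, mul_inv_cancel,
            map_one, MulAut.one_apply]
        have ec : ρ c v = ρ (f b) (ρ k u) := by
          simp only [hc, map_mul, MulAut.mul_apply, hu]
        rw [ec, ev, map_mul, hw2def, mul_inv]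
        rw [mul_assoc (ρ k w1)⁻¹, mul_comm (ρ k u)⁻¹, mul_comm (ρ k w1)⁻¹]
      intro x hx
      rw [e, map_mul, map_inv, hw1 _ x hx, (hkfix w1 (hw1 u)).1 x hx]
    have h := hρinj (hc1.trans (map_one ρ).symm)
    rw [hc, mul_inv_eq_one, mul_inv_eq_iff_eq_mul] at h
    exact h

/-- **Thompson's normal `p`-complement theorem**, abelian version, including `S₄`-free groups. -/
theorem hasNormalPComplement_of_jCentre {G : Type u} [Group G] [Finite G] [hp : Fact p.Prime]
    (hS4 : p ≠ 2 ∨ ¬ Cfsg.Involves (Equiv.Perm (Fin 4)) G) (P : Sylow p G)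
    (hJ : Cfsg.HasNormalPComplement p
      (Subgroup.normalizer (ZJ.jSub p False (P : Subgroup G) : Set G)))
    (hZ : Cfsg.HasNormalPComplement p (Subgroup.centralizer
      (((P : Subgroup G) ⊓ Subgroup.centralizer ((P : Subgroup G) : Set G) : Subgroup G) : Set G))) :
    Cfsg.HasNormalPComplement p G := by
  suffices h : ∀ n : ℕ, ∀ (G : Type u) [Group G] [Finite G], Nat.card G = n → (p ≠ 2 ∨ ¬ Cfsg.Involves (Equiv.Perm (Fin 4)) G) → ∀ P : Sylow p G,
      Cfsg.HasNormalPComplement p
        (Subgroup.normalizer (ZJ.jSub p False (P : Subgroup G) : Set G)) →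
      Cfsg.HasNormalPComplement p (Subgroup.centralizer
        (((P : Subgroup G) ⊓ Subgroup.centralizer ((P : Subgroup G) : Set G) : Subgroup G) : Set G)) →
      Cfsg.HasNormalPComplement p G from h _ G rfl hS4 P hJ hZ
  intro n
  induction n using Nat.strong_induction_on with
  | _ n ih =>
    intro G _ _ hn hS4 P hJ hZ
    by_contra hG
    have hIH : ∀ K : Subgroup G, K ≠ ⊤ → ∀ S : Sylow p K,
        Cfsg.HasNormalPComplement p
          (Subgroup.normalizer (ZJ.jSub p False (S : Subgroup K) : Set K)) →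
        Cfsg.HasNormalPComplement p (Subgroup.centralizer
          (((S : Subgroup K) ⊓ Subgroup.centralizer ((S : Subgroup K) : Set K) : Subgroup K) : Set K)) →
        Cfsg.HasNormalPComplement p K := by
      intro K hK S h1 h2
      refine ih _ ?_ K rfl (hS4.imp_right fun hh h => hh (PStable.involves_of_subgroup h)) S h1 h2
      rw [← hn]
      exact lt_of_le_of_ne (Subgroup.card_le_card_group K) (fun h => hK (Subgroup.eq_top_of_card_eq K h))
    obtain ⟨U0, hU0n, hU0p, hU01⟩ := exists_normal_pSubgroup P hJ hZ hIH hG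
    set U := Cfsg.pCore p G with hU
    have hU1 : U ≠ ⊥ := fun h => hU01 (le_bot_iff.1 (h ▸ PBasic.le_pCore hU0n hU0p))
    have hUP : U ≤ (P : Subgroup G) := PBasic.pCore_le_sylow P
    have hproper : ∀ L : Subgroup G, (P : Subgroup G) ≤ L → L ≠ ⊤ →
        Cfsg.HasNormalPComplement p L := by
      intro L hPL hL
      have hmap : ((P.subtype hPL : Sylow p L) : Subgroup L).map L.subtype = (P : Subgroup G) :=
        Subgroup.map_subgroupOf_eq_of_le hPL
      obtain ⟨h1, h2⟩ := hyps_subgroup L ((P.subtype hPL : Sylow p L) : Subgroup L)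
        (by rw [hmap]; exact hJ) (by rw [hmap]; exact hZ)
      exact hIH L hL _ h1 h2
    -- `O_{p'}(G) = 1`
    have hM : Cfsg.pPrimeCore p G = ⊥ := by
      by_contra hM1
      set M := Cfsg.pPrimeCore p G with hMdef
      set f := QuotientGroup.mk' M with hf
      have hfs : Function.Surjective f := QuotientGroup.mk'_surjective M
      have hker : (Nat.card f.ker).Coprime p := by
        rw [hf, QuotientGroup.ker_mk']; exact PBasic.pPrimeCore_coprime p G
      have hinj : Set.InjOn f (P : Subgroup G) := CoprimeQuotient.injOn_of_coprime_ker f hker P.isPGroup'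
      have hlt : Nat.card (G ⧸ M) < n := by
        rw [← hn]
        change M.index < _
        rw [← M.card_mul_index]
        exact lt_mul_of_one_lt_left (Nat.pos_of_ne_zero M.index_ne_zero_of_finite)
          (Subgroup.one_lt_card_iff_ne_bot M |>.2 hM1)
      have hq : Cfsg.HasNormalPComplement p (G ⧸ M) := by
        refine ih _ hlt (G ⧸ M) rfl (hS4.imp_right fun hh h => hh (PStable.involves_of_quotient f hfs h)) (P.mapSurjective hfs) ?_ ?_
        · rw [Sylow.coe_mapSurjective, ← ZJ.jSub_map f hinj,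
            CoprimeQuotient.normalizer_map f hfs hker
              (P.isPGroup'.to_le (ZJ.jSub_le _))]
          exact PBasic.hasNormalPComplement_of_surjective (f.subgroupMap _)
            (f.subgroupMap_surjective _) hJ
        · rw [Sylow.coe_mapSurjective, ← CoprimeQuotient.inf_centralizer_map (p := p) f _ hinj,
            CoprimeQuotient.centralizer_map f hfs hker P.isPGroup'.to_inf_left]
          exact PBasic.hasNormalPComplement_of_surjective (f.subgroupMap _)
            (f.subgroupMap_surjective _) hZ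
      apply hG
      rw [PBasic.hasNormalPComplement_iff_pResidual, PBasic.coprime_card_iff]
      intro x hx
      have h1 := (PBasic.mem_pResidual_iff hq).1 (PBasic.map_pResidual_le f (Subgroup.mem_map_of_mem f hx))
      have h2 : x ^ orderOf (f x) ∈ f.ker := by rw [MonoidHom.mem_ker, map_pow, pow_orderOf_eq_one]
      have h3 : orderOf x ∣ orderOf (f x) * Nat.card f.ker :=
        orderOf_dvd_of_pow_eq_one (by
          rw [pow_mul]
          exact congrArg Subtype.val (pow_card_eq_one' (x := (⟨_, h2⟩ : f.ker))))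
      exact Nat.Coprime.coprime_dvd_left h3 (Nat.Coprime.mul_left h1 hker)
    -- the quotient by `O_p(G)` has a normal complement
    set f := QuotientGroup.mk' U with hf
    have hfs : Function.Surjective f := QuotientGroup.mk'_surjective U
    have hO : Cfsg.pCore p (G ⧸ U) = ⊥ := PBasic.pCore_quotient_pCore p G
    have hbar : Cfsg.HasNormalPComplement p (G ⧸ U) := by
      set Pbar := P.mapSurjective hfs with hPbar
      have hPbar1 : (Pbar : Subgroup (G ⧸ U)) ≠ ⊥ := by
        intro h
        rw [hPbar, Sylow.coe_mapSurjective, Subgroup.map_eq_bot_iff, hf, QuotientGroup.ker_mk'] at h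
        have hPU : (P : Subgroup G) = U := le_antisymm h hUP
        have h1 : Subgroup.normalizer (ZJ.jSub p False (P : Subgroup G) : Set G) = ⊤ := by
          rw [hPU, eq_top_iff]
          refine le_trans ?_ (ZJ.normalizer_le_normalizer_jSub U)
          rw [Subgroup.normalizer_eq_top]
        rw [h1, PBasic.hasNormalPComplement_congr Subgroup.topEquiv] at hJ
        exact hG hJ
      have hgood : ∀ W : Subgroup (G ⧸ U), W ≠ ⊥ → IsPGroup p W →
          (Pbar : Subgroup (G ⧸ U)) ≤ Subgroup.normalizer (W : Set (G ⧸ U)) →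
          Cfsg.HasNormalPComplement p (Subgroup.normalizer (W : Set (G ⧸ U))) := by
        intro W hW1 hWp hle
        set L := (Subgroup.normalizer (W : Set (G ⧸ U))).comap f with hL
        have hLtop : L ≠ ⊤ := by
          intro h
          have h1 : Subgroup.normalizer (W : Set (G ⧸ U)) = ⊤ := by
            rw [← Subgroup.map_comap_eq_self_of_surjective hfs
              (Subgroup.normalizer (W : Set (G ⧸ U))), ← hL, h,
              Subgroup.map_top_of_surjective f hfs]
          exact hW1 (le_bot_iff.1 (hO ▸ PBasic.le_pCore (Subgroup.normalizer_eq_top_iff.1 h1) hWp))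
        have h2 := hproper L (Subgroup.map_le_iff_le_comap.1 hle) hLtop
        have h3 := PBasic.hasNormalPComplement_of_surjective (f.subgroupMap L)
          (f.subgroupMap_surjective L) h2
        rwa [hL, Subgroup.map_comap_eq_self_of_surjective hfs] at h3
      refine ih _ ?_ (G ⧸ U) rfl (hS4.imp_right fun hh h => hh (PStable.involves_of_quotient f hfs h)) Pbar ?_ ?_
      · rw [← hn]
        change U.index < _
        rw [← U.card_mul_index]
        exact lt_mul_of_one_lt_left (Nat.pos_of_ne_zero U.index_ne_zero_of_finite)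
          (Subgroup.one_lt_card_iff_ne_bot U |>.2 hU1)
      · exact hgood _ (jSub_ne_bot Pbar.isPGroup' hPbar1)
          (Pbar.isPGroup'.to_le (ZJ.jSub_le _))
          (Subgroup.le_normalizer.trans (ZJ.normalizer_le_normalizer_jSub _))
      · exact npc_of_le (normalizer_center_le _) (hgood _ (center_ne_bot Pbar.isPGroup' hPbar1)
          Pbar.isPGroup'.to_inf_left
          (Subgroup.le_normalizer.trans (normalizer_le_normalizer_center (p := p) _)))
    -- `C(O_p(G)) ≤ O_p(G)`
    have hC : Subgroup.centralizer (U : Set G) ≤ U := by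
      set C := Subgroup.centralizer (U : Set G) ⊓ (Cfsg.pResidual p (G ⧸ U)).comap f with hCdef
      haveI hCn : C.Normal := Subgroup.normal_inf_normal _ _
      obtain ⟨PC, hPC⟩ := PBasic.exists_sylow_subgroupOf P C
      have hcen : ∀ x : C, x ∈ (PC : Subgroup C) → (x : G) ∈ U := by
        intro x hx
        rw [hPC] at hx
        have h1 : f (x : G) ∈ Cfsg.pResidual p (G ⧸ U) ⊓ (P.mapSurjective hfs : Subgroup (G ⧸ U)) :=
          Subgroup.mem_inf.2 ⟨(Subgroup.mem_inf.1 x.2).2, Subgroup.mem_map_of_mem f hx⟩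
        rw [PBasic.inf_eq_bot_of_coprime (PBasic.hasNormalPComplement_iff_pResidual.1 hbar)
          (P.mapSurjective hfs).isPGroup', Subgroup.mem_bot] at h1
        exact (QuotientGroup.eq_one_iff _).1 h1
      have hCnpc : Cfsg.HasNormalPComplement p C := by
        refine Fusion.hasNormalPComplement_of_normalizer_le_centralizer PC fun y _ x hx => ?_
        exact Subtype.ext ((Subgroup.mem_inf.1 y.2).1 (x : G) (hcen x hx))
      have hres : (Cfsg.pResidual p C).map C.subtype = ⊥ := by
        rw [← le_bot_iff, ← hM]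
        refine le_trans (Subgroup.map_mono ?_) (PBasic.map_pPrimeCore_le_of_normal C)
        exact (PBasic.pPrimeCore_eq_pResidual hCnpc).ge
      rw [Subgroup.map_eq_bot_iff_of_injective _ Subtype.coe_injective] at hres
      have hCp : IsPGroup p C := by
        refine PBasic.isPGroup_iff_forall_coprime.2 fun x hx => ?_
        rw [← Subgroup.mem_bot, ← hres]
        exact PBasic.mem_pResidual hx
      have hCU : C ≤ U := PBasic.le_pCore hCn hCp
      haveI : ((Subgroup.centralizer (U : Set G)).map f).Normal :=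
        Subgroup.Normal.map inferInstance f hfs
      have h1 : (Subgroup.centralizer (U : Set G)).map f = ⊥ := by
        refine eq_bot_of_inf_pResidual hO _ ?_
        rw [Subgroup.eq_bot_iff_forall]
        rintro _ ⟨⟨g, hg, rfl⟩, h2⟩
        exact (QuotientGroup.eq_one_iff g).2 (hCU ⟨hg, h2⟩)
      rwa [Subgroup.map_eq_bot_iff, hf, QuotientGroup.ker_mk'] at h1
    -- `P` is maximal
    have hmax : ∀ L : Subgroup G, (P : Subgroup G) ≤ L → L ≠ ⊤ → L = (P : Subgroup G) := by
      intro L hPL hL
      have hnpc := hproper L hPL hL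
      refine P.is_maximal' ?_ hPL
      refine PBasic.isPGroup_iff_forall_coprime.2 fun x hx => ?_
      have h1 : (x : G) ∈ Subgroup.centralizer (U : Set G) := by
        intro u hu
        have hu' : u ∈ L := hPL (hUP hu)
        have h2 : (⟨u, hu'⟩ : L) * x * (⟨u, hu'⟩ : L)⁻¹ * x⁻¹ = 1 := by
          refine PBasic.eq_one_of_isPGroup_of_coprime (p := p)
            (P := U.subgroupOf L) (PBasic.pCore_isPGroup p G).comap_subtype ?_ ?_
          · rw [Subgroup.mem_subgroupOf]
            simp only [Subgroup.coe_mul, Subgroup.coe_inv, mul_assoc]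
            refine U.mul_mem hu ?_
            simpa [mul_assoc] using (Cfsg.pCore_normal p G).conj_mem u⁻¹ (U.inv_mem hu) (x : G)
          · refine (PBasic.mem_pResidual_iff hnpc).1 ?_
            exact Subgroup.mul_mem _
              ((PBasic.pResidual_normal_inst p L).conj_mem x (PBasic.mem_pResidual hx) _)
              (Subgroup.inv_mem _ (PBasic.mem_pResidual hx))
        rw [mul_inv_eq_one, mul_inv_eq_iff_eq_mul] at h2
        exact congrArg Subtype.val h2
      exact Subtype.ext (PBasic.eq_one_of_isPGroup_of_coprime (PBasic.pCore_isPGroup p G) (hC h1)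
        (by rwa [Subgroup.orderOf_coe]))
    exact endgame hS4 P hG hJ hZ hC hbar hmax


end Cfsg.Agent.JCentreNPC
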