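import Cfsg.Agent.Lib.PLocal.MaxClass
import Cfsg.Agent.Lib.FiniteGroup.PolySeq
import Mathlib

/-!
The universal linear part of `(S * X) ^ p` in a group of class at most `p`: it is a multiple, prime
to `p`, of the commutator `[X, S, …, S]` of weight `p`.
-/

set_option autoImplicit false
set_option linter.style.haveILetI false

open scoped commutatorElement

namespace Cfsg.Agent.MaxClassLinear

open Cfsg.Agent.PolySeq

universe u

variable {G : Type*} [Group G]

/-- iterated commutators -/
def fold (v : Bool → G) (z : G) (w : List Bool) : G := w.foldl (fun a b => ⁅a, v b⁆) z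

theorem fold_nil (v : Bool → G) (z : G) : fold v z [] = z := rfl

theorem fold_cons (v : Bool → G) (z : G) (b : Bool) (w : List Bool) :
    fold v z (b :: w) = fold v ⁅z, v b⁆ w := rfl

/-- the left-normed commutator of a word -/
def br (v : Bool → G) : List Bool → G
  | [] => 1
  | a :: w => fold v (v a) w

theorem br_append (v : Bool → G) {w : List Bool} (hw : w ≠ []) (b : Bool) :
    br v (w ++ [b]) = ⁅br v w, v b⁆ := by
  cases w with
  | nil => exact absurd rfl hw
  | cons a w => simp [br, fold]

theorem map_fold {H : Type*} [Group H] (f : G →* H) (v : Bool → G) (w : List Bool) : ∀ z : G,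
    f (fold v z w) = fold (fun b => f (v b)) (f z) w := by
  induction w with
  | nil => intro z; rfl
  | cons b w ih => intro z; rw [fold_cons, fold_cons, ih, map_commutatorElement]

theorem map_br {H : Type*} [Group H] (f : G →* H) (v : Bool → G) (w : List Bool) :
    f (br v w) = br (fun b => f (v b)) w := by
  cases w with
  | nil => exact map_one f
  | cons a w => exact map_fold f v w (v a)

theorem gam_one : gam G 1 = ⊤ := rfl

theorem gam_step {i : ℕ} (hi : 1 ≤ i) : gam G (i + 1) = ⁅gam G i, (⊤ : Subgroup G)⁆ := by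
  obtain ⟨j, rfl⟩ := Nat.exists_eq_add_of_le' hi
  rfl

theorem gam_map_le {H : Type*} [Group H] (f : G →* H) (i : ℕ) : (gam G i).map f ≤ gam H i := by
  rcases Nat.eq_zero_or_pos i with rfl | hi
  · exact le_top
  induction i, hi using Nat.le_induction with
  | base => exact le_top
  | succ i hi ih =>
    rw [gam_step hi, gam_step hi, Subgroup.map_commutator]
    exact Subgroup.commutator_mono ih le_top

theorem gam_map_eq {H : Type*} [Group H] (f : G →* H) (hf : Function.Surjective f) (i : ℕ) :
    (gam G i).map f = gam H i := by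
  unfold gam
  rw [Subgroup.map_lowerCentralSeries, Subgroup.map_top_of_surjective f hf]

/-- iterated commutators gain a level at each step, and one more at each argument of level two -/
theorem fold_mem {v : Bool → G} {c : Bool → ℕ} (hv : ∀ b, v b ∈ gam G (c b)) (w : List Bool) :
    ∀ {i : ℕ} {z : G}, z ∈ gam G i → fold v z w ∈ gam G (i + (w.map c).sum) := by
  induction w with
  | nil => intro i z hz; simpa [fold_nil] using hz
  | cons b w ih =>
    intro i z hz
    rw [fold_cons, List.map_cons, List.sum_cons, ← Nat.add_assoc]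
    exact ih (gam_commutator hz (hv b))

theorem br_mem {v : Bool → G} {c : Bool → ℕ} (hv : ∀ b, v b ∈ gam G (c b)) {w : List Bool}
    (hw : w ≠ []) : br v w ∈ gam G (w.map c).sum := by
  cases w with
  | nil => exact absurd rfl hw
  | cons a w => exact fold_mem hv w (hv a)

theorem comm_zpow_zpow {c g : G} (hc : Commute ⁅c, g⁆ c) (hg : Commute ⁅c, g⁆ g) (m j : ℤ) :
    ⁅c ^ m, g ^ j⁆ = ⁅c, g⁆ ^ (m * j) := by
  set z := ⁅c, g⁆ with hz
  have h1 : g * c * g⁻¹ = z⁻¹ * c := by rw [hz, commutatorElement_def]; group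
  have h2 : ∀ m : ℤ, g * c ^ m * g⁻¹ = z ^ (-m) * c ^ m := fun m => by
    rw [← conj_zpow, h1, (hc.inv_left).mul_zpow, inv_zpow']
  have hcm : Commute ⁅c ^ m, g⁆ g ∧ ⁅c ^ m, g⁆ = z ^ m := by
    have e : ⁅c ^ m, g⁆ = z ^ m := by
      have e' : ⁅c ^ m, g⁆ = c ^ m * (g * c ^ m * g⁻¹)⁻¹ := by rw [commutatorElement_def]; group
      rw [e', h2, _root_.mul_inv_rev, ← mul_assoc, mul_inv_cancel, one_mul, ← zpow_neg, neg_neg]
    exact ⟨e ▸ hg.zpow_left m, e⟩
  have h3 : c ^ m * g * (c ^ m)⁻¹ = z ^ m * g := by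
    rw [← hcm.2, commutatorElement_def]; group
  have e' : ⁅c ^ m, g ^ j⁆ = (c ^ m * g * (c ^ m)⁻¹) ^ j * (g ^ j)⁻¹ := by
    rw [conj_zpow, commutatorElement_def]
  rw [e', h3, (hg.zpow_left m).mul_zpow, mul_inv_cancel_right, zpow_mul]

/-- commutators are bilinear modulo the next term -/
theorem comm_congr {i : ℕ} (hi : 1 ≤ i) {a c : G} (g : G) {m j : ℤ} (hc : c ∈ gam G i)
    (ha : (c ^ m)⁻¹ * a ∈ gam G (i + 1)) :
    (⁅c, g⁆ ^ (m * j))⁻¹ * ⁅a, g ^ j⁆ ∈ gam G (i + 2) := by
  set f := QuotientGroup.mk' (gam G (i + 2)) with hf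
  have hcen : ∀ z ∈ gam G (i + 1), ∀ y : G, Commute (f z) (f y) := fun z hz y => by
    rw [Commute, SemiconjBy, ← commutatorElement_eq_one_iff_mul_comm, ← map_commutatorElement]
    exact (QuotientGroup.eq_one_iff _).2 (gam_commutator (j := 1) hz (Subgroup.mem_top y))
  have hzc : ⁅c, g⁆ ∈ gam G (i + 1) := gam_commutator (j := 1) hc (Subgroup.mem_top g)
  refine (QuotientGroup.eq_one_iff _).1 ?_
  show f _ = 1
  rw [map_mul, map_inv, inv_mul_eq_one, map_zpow, map_commutatorElement, map_commutatorElement,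
    map_zpow]
  have hw : f a = f c ^ m * f ((c ^ m)⁻¹ * a) := by rw [← map_zpow, ← map_mul]; group
  set w := f ((c ^ m)⁻¹ * a) with hwdef
  have hwc : Commute w (f g ^ j) := (hcen _ ha g).zpow_right j
  have e : ⁅f c ^ m * w, f g ^ j⁆ = ⁅f c ^ m, f g ^ j⁆ := by
    rw [commutatorElement_def, commutatorElement_def, _root_.mul_inv_rev, mul_assoc (f c ^ m) w,
      hwc.eq]
    group
  rw [hw, e, comm_zpow_zpow (by rw [← map_commutatorElement]; exact hcen _ hzc c)
    (by rw [← map_commutatorElement]; exact hcen _ hzc g)]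

theorem fold_congr {v v' : Bool → G} {k : Bool → ℤ} (hv : ∀ b, v' b = v b ^ k b) (w : List Bool) :
    ∀ {i : ℕ} {a c : G} {m : ℤ}, 1 ≤ i → c ∈ gam G i → (c ^ m)⁻¹ * a ∈ gam G (i + 1) →
      (fold v c w ^ (m * (w.map k).prod))⁻¹ * fold v' a w ∈ gam G (i + w.length + 1) := by
  induction w with
  | nil => intro i a c m _ _ h; simpa [fold_nil] using h
  | cons b w ih =>
    intro i a c m hi hc h
    have h1 := comm_congr hi (v b) (j := k b) hc h
    rw [← hv b] at h1
    have h2 := ih (show 1 ≤ i + 1 by omega) (gam_commutator (j := 1) hc (Subgroup.mem_top (v b))) h1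
    rw [fold_cons, fold_cons, List.map_cons, List.prod_cons, List.length_cons]
    rw [show i + 1 + w.length + 1 = i + (w.length + 1) + 1 by omega, mul_assoc] at h2
    exact h2

/-- the terms of the lower central series are generated by left-normed commutators -/
theorem gam_le_br {v : Bool → G} (hv : Subgroup.closure (Set.range v) = ⊤) {l : ℕ} (hl : 1 ≤ l) :
    gam G l ≤ Subgroup.closure ({a | ∃ w : List Bool, w.length = l ∧ br v w = a} ∪ gam G (l + 1)) := by
  induction l, hl using Nat.le_induction with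
  | base =>
    rw [gam_one, ← hv]
    refine Subgroup.closure_mono fun a ⟨b, hb⟩ => Or.inl ⟨[b], rfl, ?_⟩
    simpa [br, fold] using hb
  | succ l hl ih =>
    set M := Subgroup.closure
      ({a | ∃ w : List Bool, w.length = l + 1 ∧ br v w = a} ∪ (gam G (l + 1 + 1) : Set G)) with hM
    have hconj : ∀ z ∈ gam G (l + 1), z ∈ M → ∀ y : G, y * z * y⁻¹ ∈ M := fun z hz hzM y => by
      have e : y * z * y⁻¹ = ⁅y, z⁆ * z := by rw [commutatorElement_def]; group
      rw [e]
      refine mul_mem (Subgroup.subset_closure (Or.inr ?_)) hzM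
      have := gam_commutator (i := 1) (Subgroup.mem_top y) hz
      rwa [Nat.add_comm] at this
    have hcm : ∀ a ∈ gam G l, ∀ y : G, ⁅a, y⁆ ∈ gam G (l + 1) := fun a ha y =>
      gam_commutator (j := 1) ha (Subgroup.mem_top y)
    have key : ∀ a ∈ Subgroup.closure
        ({a | ∃ w : List Bool, w.length = l ∧ br v w = a} ∪ (gam G (l + 1) : Set G)),
        a ∈ gam G l ∧ ∀ y : G, ⁅a, y⁆ ∈ M := by
      intro a ha
      induction ha using Subgroup.closure_induction with
      | mem a ha =>
        rcases ha with ⟨w, hw, rfl⟩ | ha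
        · have hne : w ≠ [] := fun h => by simp [h] at hw; omega
          have hmem : br v w ∈ gam G l := by
            have := br_mem (v := v) (c := fun _ => 1) (fun b => Subgroup.mem_top _) hne
            simpa [hw] using this
          refine ⟨hmem, fun y => ?_⟩
          have hy : y ∈ Subgroup.closure (Set.range v) := hv ▸ Subgroup.mem_top y
          induction hy using Subgroup.closure_induction with
          | mem y hy =>
            obtain ⟨b, rfl⟩ := hy
            exact Subgroup.subset_closure (Or.inl ⟨w ++ [b], by simp [hw], br_append v hne b⟩)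
          | one => simp
          | mul y z _ _ hy hz =>
            rw [show ⁅br v w, y * z⁆ = ⁅br v w, y⁆ * (y * ⁅br v w, z⁆ * y⁻¹) by
              simp only [commutatorElement_def]; group]
            exact mul_mem hy (hconj _ (hcm _ hmem z) hz y)
          | inv y _ hy =>
            rw [show ⁅br v w, y⁻¹⁆ = y⁻¹ * ⁅br v w, y⁆⁻¹ * y⁻¹⁻¹ by
              simp only [commutatorElement_def]; group]
            exact hconj _ (inv_mem (hcm _ hmem y)) (inv_mem hy) _
        · exact ⟨gam_anti (Nat.le_succ l) ha, fun y =>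
            Subgroup.subset_closure (Or.inr (gam_commutator (j := 1) ha (Subgroup.mem_top y)))⟩
      | one => exact ⟨one_mem _, fun y => by simp⟩
      | mul a b _ _ ha hb =>
        refine ⟨mul_mem ha.1 hb.1, fun y => ?_⟩
        rw [show ⁅a * b, y⁆ = (a * ⁅b, y⁆ * a⁻¹) * ⁅a, y⁆ by simp only [commutatorElement_def]; group]
        exact mul_mem (hconj _ (hcm _ hb.1 y) (hb.2 y) a) (ha.2 y)
      | inv a _ ha =>
        refine ⟨inv_mem ha.1, fun y => ?_⟩
        rw [show ⁅a⁻¹, y⁆ = a⁻¹ * ⁅a, y⁆⁻¹ * a⁻¹⁻¹ by simp only [commutatorElement_def]; group]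
        exact hconj _ (inv_mem (hcm _ ha.1 y)) (inv_mem (ha.2 y)) _
    rw [gam_step hl, Subgroup.commutator_le]
    exact fun a ha y _ => (key a (ih ha)).2 y

/-! ### The model -/

theorem fold_eq_one {v : Bool → G} {A : Subgroup G} [A.Normal] (hA : ∀ a ∈ A, ∀ b ∈ A, a * b = b * a)
    (ht : v true ∈ A) (w : List Bool) :
    ∀ z : G, (z ∈ A ∧ 1 ≤ w.count true) ∨ 2 ≤ w.count true → fold v z w = 1 := by
  have hone : ∀ w : List Bool, fold v 1 w = 1 := fun w => by
    induction w with
    | nil => rfl
    | cons b w ih => rw [fold_cons, commutatorElement_one_left, ih]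
  induction w with
  | nil => intro z h; simp at h
  | cons b w ih =>
    intro z h
    rw [fold_cons]
    have hmem : ∀ y, z ∈ A → ⁅z, y⁆ ∈ A := fun y hz => by
      rw [show ⁅z, y⁆ = z * (y * z⁻¹ * y⁻¹) by rw [commutatorElement_def]; group]
      exact mul_mem hz ((inferInstance : A.Normal).conj_mem _ (inv_mem hz) y)
    cases b with
    | false =>
      refine ih _ ?_
      rcases h with ⟨hz, h⟩ | h
      · exact Or.inl ⟨hmem _ hz, by simpa using h⟩
      · exact Or.inr (by simpa using h)
    | true =>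
      rcases h with ⟨hz, -⟩ | h
      · rw [commutatorElement_eq_one_iff_mul_comm.2 (hA _ hz _ ht), hone]
      · refine ih _ (Or.inl ⟨?_, ?_⟩)
        · rw [show ⁅z, v true⁆ = (z * v true * z⁻¹) * (v true)⁻¹ by rw [commutatorElement_def]]
          exact mul_mem ((inferInstance : A.Normal).conj_mem _ ht z) (inv_mem ht)
        · rw [List.count_cons_self] at h
          omega

theorem br_eq_one {v : Bool → G} {A : Subgroup G} [A.Normal] (hA : ∀ a ∈ A, ∀ b ∈ A, a * b = b * a)
    (ht : v true ∈ A) {w : List Bool} (hw : 2 ≤ w.count true) : br v w = 1 := by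
  cases w with
  | nil => simp at hw
  | cons a w =>
    refine fold_eq_one hA ht w _ ?_
    cases a with
    | false => exact Or.inr (by simpa using hw)
    | true =>
      refine Or.inl ⟨ht, ?_⟩
      rw [List.count_cons_self] at hw
      omega

/-- the two arguments -/
def pair (s x : G) : Bool → G := fun b => if b then x else s

/-- the commutator `[x, s, …, s]` of weight `p` -/
def engel (p : ℕ) (s x : G) : G := fold (pair s x) x (List.replicate (p - 1) false)

theorem engel_mem {p : ℕ} (hp : 1 ≤ p) (s x : G) : engel p s x ∈ gam G p := by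
  have h := fold_mem (v := pair s x) (c := fun _ => 1) (fun b => Subgroup.mem_top _)
    (List.replicate (p - 1) false) (i := 1) (z := x) (Subgroup.mem_top x)
  simp at h
  rwa [show 1 + (p - 1) = p by omega] at h

/-- `x` is linear on `γ_p` -/
def IsChar (p : ℕ) (χ : G → ZMod p) : Prop :=
  ∀ a ∈ gam G p, ∀ b ∈ gam G p, χ (a * b) = χ a + χ b

theorem IsChar.zpow {p : ℕ} {χ : G → ZMod p} (hχ : IsChar p χ) {a : G} (ha : a ∈ gam G p) (m : ℤ) :
    χ (a ^ m) = m * χ a := by
  let f : ↥(gam G p) →* Multiplicative (ZMod p) :=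
    MonoidHom.mk' (fun a => Multiplicative.ofAdd (χ a)) fun a b => by
      simp [hχ _ a.2 _ b.2]
  have h := congrArg Multiplicative.toAdd (map_zpow f ⟨a, ha⟩ m)
  rw [toAdd_zpow] at h
  change χ ((⟨a, ha⟩ ^ m : ↥(gam G p)) : G) = m • χ a at h
  rw [zsmul_eq_mul] at h
  simpa using h

theorem IsChar.one {p : ℕ} {χ : G → ZMod p} (hχ : IsChar p χ) : χ 1 = 0 := by
  simpa using hχ.zpow (one_mem (gam G p)) 0

theorem IsChar.inv {p : ℕ} {χ : G → ZMod p} (hχ : IsChar p χ) {a : G} (ha : a ∈ gam G p) :
    χ a⁻¹ = -χ a := by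
  simpa using hχ.zpow ha (-1)

/-- the linear part of `h` is `e` times the Engel commutator -/
def HasLin (p : ℕ) (h : FreeGroup Bool) (e : ℤ) : Prop :=
  ∀ (G : Type u) [Group G], gam G (p + 1) = ⊥ → ∀ s x : G,
    ((∀ w : List Bool, w.length = p → 2 ≤ w.count true → br (pair s x) w = 1) →
      FreeGroup.lift (pair s x) h = engel p s x ^ e) ∧
    ∀ χ : G → ZMod p, IsChar p χ → ∃ q : Polynomial (ZMod p), q.natDegree < p ∧
      q.coeff 1 = e * χ (engel p s x) ∧ ∀ k : ℕ, q.eval (k : ZMod p) = χ (FreeGroup.lift (pair s (x ^ k)) h)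

theorem lift_mem {p : ℕ} (v : Bool → G) {h : FreeGroup Bool} (hh : h ∈ gam (FreeGroup Bool) p) :
    FreeGroup.lift v h ∈ gam G p := gam_map_le _ p ⟨h, hh, rfl⟩

theorem closure_of : Subgroup.closure (Set.range (FreeGroup.of : Bool → FreeGroup Bool)) = ⊤ :=
  FreeGroup.closure_range_of Bool

theorem lift_br (v : Bool → G) (w : List Bool) :
    FreeGroup.lift v (br FreeGroup.of w) = br v w := by
  rw [map_br]
  simp

theorem map_pair_prod (k : ℤ) (w : List Bool) :
    (w.map fun b => if b then k else 1).prod = k ^ w.count true := by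
  induction w with
  | nil => simp
  | cons b w ih => cases b <;> simp [ih, pow_succ']

theorem hasLin_br {p : ℕ} [hp : Fact p.Prime] {w : List Bool} (hw : w.length = p) :
    ∃ e, HasLin.{u} p (br FreeGroup.of w) e := by
  have hp2 := hp.out.two_le
  obtain ⟨a, b, r, rfl⟩ : ∃ a b r, w = a :: b :: r := by
    match w, hw with
    | [], h => simp at h; omega
    | [_], h => simp at h; omega
    | a :: b :: r, _ => exact ⟨a, b, r, rfl⟩
  -- the value at a scaled argument
  have hscale : ∀ {G : Type u} [Group G], gam G (p + 1) = ⊥ → ∀ (s x : G) (k : ℕ),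
      br (pair s (x ^ k)) (a :: b :: r) =
        br (pair s x) (a :: b :: r) ^ ((k : ℤ) ^ (a :: b :: r).count true) := by
    intro G _ hG s x k
    have hv : ∀ c, pair s (x ^ k) c = pair s x c ^ (if c then (k : ℤ) else 1) := fun c => by
      cases c <;> simp [pair]
    have h := fold_congr hv (b :: r) (i := 1) (a := pair s (x ^ k) a) (c := pair s x a)
      (m := if a then (k : ℤ) else 1) le_rfl (Subgroup.mem_top _) (by rw [hv, inv_mul_cancel]; exact one_mem _)
    simp only [List.length_cons] at h hw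
    rw [show 1 + (r.length + 1) + 1 = p + 1 by omega, hG, Subgroup.mem_bot, inv_mul_eq_one] at h
    rw [← map_pair_prod, List.map_cons, List.prod_cons]
    exact h.symm
  have hone : ∀ {G : Type u} [Group G] (v : Bool → G), a = b → br v (a :: b :: r) = 1 := by
    intro G _ v hab
    subst hab
    show fold v ⁅v a, v a⁆ r = 1
    rw [commutatorElement_self]
    clear hw hscale
    induction r with
    | nil => rfl
    | cons c r ih => rw [fold_cons, commutatorElement_one_left, ih]
  by_cases hab : a = b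
  · refine ⟨0, fun G _ hG s x => ⟨fun _ => by rw [lift_br, hone _ hab, zpow_zero],
      fun χ hχ => ⟨0, by simp [hp.out.pos], by simp, fun k => by
        rw [lift_br, hone _ hab, hχ.one]; simp⟩⟩⟩
  have hcnt : 1 ≤ (a :: b :: r).count true ∧ (a :: b :: r).count true < p := by
    have h1 := List.count_le_length (a := true) (l := r)
    simp only [List.length_cons] at hw
    cases a <;> cases b <;> simp at hab ⊢ <;> omega
  have hmem : ∀ {G : Type u} [Group G] (s x : G), br (pair s x) (a :: b :: r) ∈ gam G p :=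
    fun s x => by
      have h := br_mem (v := pair s x) (c := fun _ => 1) (fun b => Subgroup.mem_top _)
        (w := a :: b :: r) (by simp)
      simp only [List.map_const', List.sum_replicate, smul_eq_mul, mul_one] at h
      rwa [hw] at h
  by_cases hc : 2 ≤ (a :: b :: r).count true
  · refine ⟨0, fun G _ hG s x => ⟨fun hV => by rw [lift_br, hV _ hw hc, zpow_zero],
      fun χ hχ => ⟨Polynomial.C (χ (br (pair s x) (a :: b :: r))) * Polynomial.X ^ (a :: b :: r).count true,
        ?_, ?_, fun k => ?_⟩⟩⟩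
    · exact lt_of_le_of_lt (Polynomial.natDegree_C_mul_X_pow_le _ _) hcnt.2
    · rw [Polynomial.coeff_C_mul_X_pow, if_neg (by omega)]
      simp
    · rw [lift_br, hscale hG, hχ.zpow (hmem s x), Polynomial.eval_mul, Polynomial.eval_C,
        Polynomial.eval_pow, Polynomial.eval_X]
      push_cast
      ring
  have hc1 : (a :: b :: r).count true = 1 := by omega
  have hr : r = List.replicate (p - 2) false := by
    rw [List.eq_replicate_iff]
    simp only [List.length_cons] at hw
    refine ⟨by omega, fun c hc' => ?_⟩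
    cases c
    · rfl
    · have := List.count_pos_iff.2 hc'
      cases a <;> cases b <;> simp at hab hc1 <;> omega
  -- both admissible words give the Engel commutator up to sign
  obtain ⟨e, he⟩ : ∃ e : ℤ, ∀ {G : Type u} [Group G], gam G (p + 1) = ⊥ → ∀ s x : G,
      br (pair s x) (a :: b :: r) = engel p s x ^ e := by
    have hE : ∀ {G : Type u} [Group G] (s x : G), engel p s x = fold (pair s x) ⁅x, s⁆ r := by
      intro G _ s x
      rw [engel, hr, show p - 1 = (p - 2) + 1 by omega, List.replicate_succ]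
      rfl
    cases a with
    | true =>
      obtain rfl : b = false := by simpa using hab
      exact ⟨1, fun {G} _ hG s x => by rw [zpow_one, hE]; rfl⟩
    | false =>
      obtain rfl : b = true := by simpa using hab
      refine ⟨-1, fun {G} _ hG s x => ?_⟩
      have h := fold_congr (v := pair s x) (v' := pair s x) (k := fun _ => 1) (by simp) r (i := 2)
        (a := ⁅s, x⁆) (c := ⁅x, s⁆) (m := -1) (by omega)
        (gam_commutator (i := 1) (j := 1) (Subgroup.mem_top x) (Subgroup.mem_top s))
        (by rw [zpow_neg, zpow_one, inv_inv, ← commutatorElement_inv s x, inv_mul_cancel]; exact one_mem _)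
      have hl : r.length = p - 2 := by rw [hr, List.length_replicate]
      rw [hl, show 2 + (p - 2) + 1 = p + 1 by omega, hG, Subgroup.mem_bot, inv_mul_eq_one] at h
      simp only [List.map_const', List.prod_replicate, one_pow, mul_one] at h
      rw [hE]
      exact h.symm
  refine ⟨e, fun G _ hG s x => ⟨fun _ => by rw [lift_br, he hG],
    fun χ hχ => ⟨Polynomial.C (e * χ (engel p s x)) * Polynomial.X, ?_, by simp, fun k => ?_⟩⟩⟩
  · exact lt_of_le_of_lt ((Polynomial.natDegree_C_mul_le _ _).trans Polynomial.natDegree_X_le)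
      hp.out.one_lt
  · rw [lift_br, hscale hG, hc1, pow_one, he hG, ← zpow_mul,
      hχ.zpow (engel_mem hp.out.one_le s x)]
    simp
    ring

theorem exists_hasLin {p : ℕ} [hp : Fact p.Prime] {h : FreeGroup Bool}
    (hh : h ∈ gam (FreeGroup Bool) p) : ∃ e, HasLin.{u} p h e := by
  suffices hs : ∀ h ∈ Subgroup.closure
      ({a | ∃ w : List Bool, w.length = p ∧ br FreeGroup.of w = a} ∪
        (gam (FreeGroup Bool) (p + 1) : Set _)),
      h ∈ gam (FreeGroup Bool) p ∧ ∃ e, HasLin.{u} p h e from
    (hs h (gam_le_br closure_of hp.out.one_le hh)).2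
  clear hh h
  intro h hh
  induction hh using Subgroup.closure_induction with
  | mem h hh =>
    rcases hh with ⟨w, hw, rfl⟩ | hh
    · refine ⟨?_, hasLin_br hw⟩
      have := br_mem (v := (FreeGroup.of : Bool → FreeGroup Bool)) (c := fun _ => 1)
        (fun b => Subgroup.mem_top _) (w := w) (fun e => by have := hp.out.pos; simp [e] at hw; omega)
      simpa [hw] using this
    · refine ⟨gam_anti (Nat.le_succ p) hh, 0, fun G _ hG s x => ?_⟩
      have h1 : ∀ v : Bool → G, FreeGroup.lift v h = 1 := fun v => by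
        have := lift_mem v (p := p + 1) hh
        rwa [hG, Subgroup.mem_bot] at this
      exact ⟨fun _ => by rw [h1, zpow_zero],
        fun χ hχ => ⟨0, by simp [hp.out.pos], by simp, fun k => by simp [h1, hχ.one]⟩⟩
  | one =>
    exact ⟨one_mem _, 0, fun G _ hG s x => ⟨fun _ => by simp,
      fun χ hχ => ⟨0, by simp [hp.out.pos], by simp, fun k => by simp [hχ.one]⟩⟩⟩
  | mul a b _ _ ha hb =>
    obtain ⟨ha, e, he⟩ := ha
    obtain ⟨hb, e', he'⟩ := hb
    refine ⟨mul_mem ha hb, e + e', fun G _ hG s x => ⟨fun hV => ?_, fun χ hχ => ?_⟩⟩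
    · rw [map_mul, (he G hG s x).1 hV, (he' G hG s x).1 hV, zpow_add]
    · obtain ⟨q, hq, hq1, hqe⟩ := (he G hG s x).2 χ hχ
      obtain ⟨q', hq', hq1', hqe'⟩ := (he' G hG s x).2 χ hχ
      refine ⟨q + q', lt_of_le_of_lt (Polynomial.natDegree_add_le _ _) (max_lt hq hq'), ?_, fun k => ?_⟩
      · rw [Polynomial.coeff_add, hq1, hq1']
        push_cast
        ring
      · rw [Polynomial.eval_add, hqe, hqe', map_mul, hχ _ (lift_mem _ ha) _ (lift_mem _ hb)]
  | inv a _ ha =>
    obtain ⟨ha, e, he⟩ := ha
    refine ⟨inv_mem ha, -e, fun G _ hG s x => ⟨fun hV => ?_, fun χ hχ => ?_⟩⟩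
    · rw [map_inv, (he G hG s x).1 hV, zpow_neg]
    · obtain ⟨q, hq, hq1, hqe⟩ := (he G hG s x).2 χ hχ
      refine ⟨-q, by rwa [Polynomial.natDegree_neg], by simp [hq1], fun k => ?_⟩
      rw [Polynomial.eval_neg, hqe, map_inv, hχ.inv (lift_mem _ ha)]

/-- the `p`-th powers of the derived subgroup -/
def derPow (p : ℕ) (F : Type*) [Group F] : Subgroup F :=
  Subgroup.closure {z | ∃ d ∈ gam F 2, z = d ^ p}

theorem derPow_eq_one {p : ℕ} {F : Type*} [Group F] (f : F →* G)
    (h : ∀ d ∈ gam G 2, d ^ p = 1) {c : F} (hc : c ∈ derPow p F) : f c = 1 := by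
  have : derPow p F ≤ f.ker := by
    rw [derPow, Subgroup.closure_le]
    rintro _ ⟨d, hd, rfl⟩
    rw [SetLike.mem_coe, MonoidHom.mem_ker, map_pow]
    exact h _ (gam_map_le f 2 ⟨d, hd, rfl⟩)
  exact this hc

/-- the wreath product of two groups of order `p` -/
theorem exists_model (p : ℕ) [hp : Fact p.Prime] :
    ∃ (W : Type u) (_ : Group W) (A : Subgroup W) (s x : W), A.Normal ∧ gam W (p + 1) = ⊥ ∧
      (∀ a ∈ A, ∀ b ∈ A, a * b = b * a) ∧ (∀ a ∈ A, a ^ p = 1) ∧ gam W 2 ≤ A ∧ x ∈ A ∧
      s ^ p = 1 ∧ (s * x) ^ p ≠ 1 := by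
  let C := Multiplicative (ULift.{u} (ZMod p))
  haveI : NeZero p := ⟨hp.out.ne_zero⟩
  let a : C := Multiplicative.ofAdd ⟨1⟩
  let r : RegularWreathProduct C C →* C := RegularWreathProduct.rightHom
  have hC : Nat.card C = p := by simp [C]
  have hCp : ∀ z : C, z ^ p = 1 := fun z => by
    have := pow_card_eq_one' (G := C) (x := z)
    rwa [hC] at this
  have hcard : Nat.card (RegularWreathProduct C C) = p ^ (p + 1) := by
    rw [RegularWreathProduct.card, hC, pow_succ]
  haveI : Finite (RegularWreathProduct C C) :=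
    Nat.finite_of_card_ne_zero (by rw [hcard]; exact pow_ne_zero _ hp.out.ne_zero)
  have hker : ∀ w ∈ r.ker, ∀ (k : ℕ), (w ^ k).left = w.left ^ k ∧ (w ^ k).right = 1 := by
    intro w hw k
    have h1 : w.right = 1 := hw
    induction k with
    | zero => simp
    | succ k ih =>
      refine ⟨?_, by rw [pow_succ, RegularWreathProduct.mul_right, ih.2, h1, one_mul]⟩
      rw [pow_succ, RegularWreathProduct.mul_left, ih.1, ih.2, pow_succ]
      simp only [inv_one, one_mul]
  refine ⟨RegularWreathProduct C C, inferInstance, r.ker, ⟨1, a⟩, ⟨Pi.mulSingle 1 a, 1⟩,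
    inferInstance, ?_, ?_, ?_, ?_, rfl, ?_, ?_⟩
  · exact MaxClass.lcs_eq_bot (IsPGroup.of_card hcard) hcard (by have := hp.out.two_le; omega)
  · intro w hw w' hw'
    have h1 : w.right = 1 := hw
    have h2 : w'.right = 1 := hw'
    refine RegularWreathProduct.ext (funext fun q => ?_) (by simp only [RegularWreathProduct.mul_right, h1, h2])
    simp only [RegularWreathProduct.mul_left, h1, h2, inv_one, one_mul, Pi.mul_apply]
    exact mul_comm _ _
  · intro w hw
    refine RegularWreathProduct.ext (funext fun q => ?_) (hker w hw p).2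
    rw [(hker w hw p).1, Pi.pow_apply, hCp]
    rfl
  · rw [gam_step le_rfl, Subgroup.commutator_le]
    intro y _ z _
    rw [MonoidHom.mem_ker, map_commutatorElement, commutatorElement_eq_one_iff_mul_comm]
    exact mul_comm _ _
  · show (RegularWreathProduct.inl a : RegularWreathProduct C C) ^ p = 1
    rw [← map_pow, hCp, map_one]
  · set w : RegularWreathProduct C C := ⟨Pi.mulSingle a a, a⟩ with hw
    have hsx : (⟨1, a⟩ : RegularWreathProduct C C) * ⟨Pi.mulSingle 1 a, 1⟩ = w := by
      refine RegularWreathProduct.ext (funext fun q => ?_) (mul_one _)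
      have e : (1 = a⁻¹ * q) ↔ q = a := by rw [eq_inv_mul_iff_mul_eq, mul_one, eq_comm]
      simp only [hw, RegularWreathProduct.mul_left, one_mul, Pi.mulSingle_apply]
      by_cases hq : q = a
      · simp [hq]
      · simp [hq, inv_mul_eq_one, Ne.symm hq]
    have hpow : ∀ k : ℕ, ∀ q,
        (w ^ k).left q = ∏ j ∈ Finset.range k, Pi.mulSingle (M := fun _ : C => C) a a ((a⁻¹) ^ j * q) := by
      intro k
      induction k with
      | zero => intro q; simp
      | succ k ih =>
        intro q
        rw [pow_succ', RegularWreathProduct.mul_left, Finset.prod_range_succ', Pi.mul_apply]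
        simp only [ih]
        rw [mul_comm, pow_zero, one_mul]
        refine congrArg (· * _) (Finset.prod_congr rfl fun j _ => ?_)
        rw [pow_succ, mul_assoc]
    intro h
    rw [hsx] at h
    have h1 := congrFun (congrArg RegularWreathProduct.left h) 1
    rw [hpow, RegularWreathProduct.one_left, Pi.one_apply, Finset.prod_eq_single (p - 1)] at h1
    · rw [show (a⁻¹ : C) ^ (p - 1) * 1 = a by
        rw [mul_one, inv_pow, inv_eq_iff_mul_eq_one, ← pow_succ, Nat.sub_add_cancel hp.out.one_le, hCp],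
        Pi.mulSingle_eq_same] at h1
      exact one_ne_zero (α := ZMod p) (congrArg (fun z : C => z.toAdd.down) h1)
    · intro j hj hjne
      refine Pi.mulSingle_eq_of_ne (fun hj1 => hjne ?_) _
      rw [mul_one, inv_pow, inv_eq_iff_mul_eq_one, ← pow_succ] at hj1
      have hj2 : ((j + 1 : ℕ) : ZMod p) = 0 := by
        have h' : Multiplicative.ofAdd ((j + 1) • (⟨1⟩ : ULift.{u} (ZMod p))) = 1 := by
          rw [ofAdd_nsmul]; exact hj1
        rw [ofAdd_eq_one] at h'
        simpa using congrArg ULift.down h' 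
      have := Nat.le_of_dvd (by omega) ((ZMod.natCast_eq_zero_iff _ _).1 hj2)
      have := Finset.mem_range.1 hj
      omega
    · intro hj
      exact absurd (Finset.mem_range.2 (Nat.sub_lt hp.out.pos one_pos)) hj

/-- `(s * x) ^ p` in a group of class at most `p`, up to powers of the derived subgroup -/
theorem exists_universal (p : ℕ) [hp : Fact p.Prime] :
    ∃ (c h : FreeGroup Bool) (e : ℤ), c ∈ derPow p (FreeGroup Bool) ∧
      h ∈ gam (FreeGroup Bool) p ∧ HasLin.{u} p h e ∧ ¬ (p : ℤ) ∣ e ∧
      (FreeGroup.of false * FreeGroup.of true) ^ p =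
        FreeGroup.of false ^ p * FreeGroup.of true ^ p * c * h := by
  set S : FreeGroup Bool := FreeGroup.of false
  set X : FreeGroup Bool := FreeGroup.of true
  set f := QuotientGroup.mk' (gam (FreeGroup Bool) p) with hf
  have hfs : Function.Surjective f := QuotientGroup.mk'_surjective _
  have hN : gam (FreeGroup Bool ⧸ gam (FreeGroup Bool) p) p = ⊥ := by
    rw [← gam_map_eq f hfs, hf, QuotientGroup.map_mk'_self]
  obtain ⟨c', hc', heq⟩ := hall_petrescu hp.out hN (f S) (f X) 1
  have hle : Subgroup.closure {z : FreeGroup Bool ⧸ gam (FreeGroup Bool) p |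
      ∃ d ∈ _root_.commutator _, z = d ^ p ^ 1} ≤ (derPow p (FreeGroup Bool)).map f := by
    rw [Subgroup.closure_le]
    rintro _ ⟨d, hd, rfl⟩
    have hd2 : d ∈ gam (FreeGroup Bool ⧸ gam (FreeGroup Bool) p) 2 := by
      rw [gam_step le_rfl, gam_one, ← commutator_def]
      exact hd
    rw [← gam_map_eq f hfs] at hd2
    obtain ⟨d', hd', rfl⟩ := hd2
    exact ⟨d' ^ p, Subgroup.subset_closure ⟨d', hd', rfl⟩, by rw [map_pow, pow_one]⟩
  obtain ⟨c, hc, rfl⟩ := hle hc'
  have hh : (S ^ p * X ^ p * c)⁻¹ * (S * X) ^ p ∈ gam (FreeGroup Bool) p := by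
    refine (QuotientGroup.eq_one_iff _).1 ?_
    show f _ = 1
    rw [map_mul, map_inv, map_mul, map_mul, map_pow, map_pow, map_pow, map_mul, inv_mul_eq_one]
    simpa using heq.symm
  obtain ⟨e, he⟩ := exists_hasLin.{u} hh
  refine ⟨c, _, e, hc, hh, he, fun hpe => ?_, by group⟩
  obtain ⟨W, _, A, s, x, _, hG, hA, hexp, hg2, hx, hs, hne⟩ := exists_model.{u} p
  have hV : ∀ w : List Bool, w.length = p → 2 ≤ w.count true → br (pair s x) w = 1 := fun w _ hw =>
    br_eq_one hA (show pair s x true ∈ A from hx) hw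
  have h2 := (he W hG s x).1 hV
  simp only [map_mul, map_inv, map_pow, derPow_eq_one _ (fun d hd => hexp d (hg2 hd)) hc, S, X,
    FreeGroup.lift_apply_of, pair, if_true, Bool.false_eq_true, if_false, hs, hexp x hx, mul_one,
    one_mul, inv_one] at h2
  obtain ⟨d, rfl⟩ := hpe
  have hL := hexp _ (hg2 (gam_anti hp.out.two_le (engel_mem hp.out.one_le s x)))
  rw [zpow_mul, zpow_natCast, hL, one_zpow] at h2
  exact hne h2

end Cfsg.Agent.MaxClassLinear
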