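import Cfsg.Agent.Lib.PLocal.JAutFinal
import Cfsg.Agent.Lib.Functors.NPC
import Cfsg.Agent.Lib.Functors.JQuad

/-!
`N(J(S))` alone controls normal `p`-complements for `p ≥ 5`.
-/

set_option autoImplicit false
set_option linter.style.haveILetI false

open scoped commutatorElement Pointwise

namespace Cfsg.Agent.JAut

open Cfsg Cfsg.Agent

universe u

variable {p : ℕ}

/-- `J` as a functor on groups. -/
def jFun (p : ℕ) (Q : Type u) [Group Q] : Subgroup Q := ZJ.jSub p False (⊤ : Subgroup Q)

theorem inducedFunctor_jFun {G : Type u} [Group G] (P : Subgroup G) :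
    inducedFunctor (fun Q [Group Q] => jFun p Q) P = ZJ.jSub p False P := by
  rw [inducedFunctor]
  change (ZJ.jSub p False (⊤ : Subgroup P)).map P.subtype = _
  rw [ZJ.jSub_map (S := (⊤ : Subgroup P)) P.subtype Subtype.coe_injective.injOn,
    ← MonoidHom.range_eq_map, Subgroup.range_subtype]

theorem isCharPFunctor_jFun [Fact p.Prime] :
    IsCharPFunctor.{u} p (fun Q [Group Q] => jFun p Q) := by
  refine ⟨fun Q _ _ hQ hn => ?_, fun Q R _ _ _ _ φ => ?_⟩
  · haveI := hn
    have hne : (⊤ : Subgroup Q) ≠ ⊥ := top_ne_bot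
    exact (JQuad.isConjugacyFunctor_J (p := p) (⊤ : Subgroup Q) (hQ.to_subgroup ⊤)).2.1 hne
  · change (ZJ.jSub p False (⊤ : Subgroup Q)).map φ.toMonoidHom = ZJ.jSub p False (⊤ : Subgroup R)
    rw [ZJ.jSub_map (S := (⊤ : Subgroup Q)) φ.toMonoidHom φ.injective.injOn,
      Subgroup.map_top_of_surjective φ.toMonoidHom φ.surjective]

/-- **Thompson's conjecture**: for `p ≥ 5`, `N(J(S))` controls normal `p`-complements. -/
theorem hasNormalPComplement_of_jSub {G : Type u} [Group G] [Finite G] [hp : Fact p.Prime]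
    (hp5 : 5 ≤ p) (S : Sylow p G)
    (hJ : HasNormalPComplement p
      (Subgroup.normalizer (ZJ.jSub p False (S : Subgroup G) : Set G))) :
    HasNormalPComplement p G := by
  suffices h : ∀ n : ℕ, ∀ (G : Type u) [Group G] [Finite G], Nat.card G = n → ∀ S : Sylow p G,
      HasNormalPComplement p (Subgroup.normalizer (ZJ.jSub p False (S : Subgroup G) : Set G)) →
      HasNormalPComplement p G from h _ G rfl S hJ
  intro n
  induction n using Nat.strong_induction_on with
  | _ n ih =>
    intro G _ _ hn S hJ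
    refine FunctorNPC.hasNormalPComplement_of_finalCase isCharPFunctor_jFun G ?_ S
      (by rw [inducedFunctor_jFun]; exact hJ)
    intro Y _ _ hsec hC hbar hA T _ hT
    rw [inducedFunctor_jFun] at hT
    have hle : Nat.card Y ≤ n := by
      obtain ⟨K, f, hf⟩ := hsec
      exact (Nat.card_le_card_of_surjective f hf).trans (hn ▸ Subgroup.card_le_card_group K)
    have hIH : InSubgroups p Y := fun H hH T' hT' => by
      refine ih _ ?_ H rfl T' hT'
      refine lt_of_lt_of_le ?_ hle
      exact lt_of_le_of_ne (Subgroup.card_le_card_group H) (fun h => hH (Subgroup.eq_top_of_card_eq H h))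
    by_contra hY
    set U := pCore p Y with hU
    haveI : U.Normal := Cfsg.pCore_normal p Y
    obtain ⟨A, hmax, hAU⟩ : ∃ A, ZJ.IsMaxIn p False (T : Subgroup Y) A ∧ ¬ A ≤ U := by
      by_contra h
      push Not at h
      apply hY
      have hTU : U ≤ (T : Subgroup Y) := PBasic.pCore_le_sylow T
      have e : ZJ.jSub p False (T : Subgroup Y) = ZJ.jSub p False U := by
        obtain ⟨A₀, hA₀⟩ := ZJ.exists_isMaxIn p False (T : Subgroup Y)
        rw [ZJ.jSub, ZJ.jSub]
        congr 1
        ext A
        exact ⟨fun hA' => ⟨h A hA', hA'.2.1, fun B hB hBs => hA'.2.2 B (hB.trans hTU) hBs⟩,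
          fun hA' => ⟨hA'.1.trans hTU, hA'.2.1, fun B hB hBs =>
            (hA₀.2.2 B hB hBs).trans (hA'.2.2 A₀ (h A₀ hA₀) hA₀.2.1)⟩⟩
      have hN : Subgroup.normalizer (ZJ.jSub p False (T : Subgroup Y) : Set Y) = ⊤ := by
        rw [e, eq_top_iff]
        refine le_trans ?_ (ZJ.normalizer_le_normalizer_jSub U)
        rw [Subgroup.normalizer_eq_top]
      rw [hN, PBasic.hasNormalPComplement_congr Subgroup.topEquiv] at hT
      exact hT
    set f := QuotientGroup.mk' U with hf
    have hK : ∀ x ∈ pResidual p (Y ⧸ U), ∀ y ∈ pResidual p (Y ⧸ U), x * y = y * x := by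
      obtain ⟨K, hKn, hKp, hpow⟩ := hA
      haveI := hKn
      haveI : (K.map f).Normal := hKn.map f (QuotientGroup.mk'_surjective U)
      have hle' : pResidual p (Y ⧸ U) ≤ K.map f := by
        refine PBasic.pResidual_le fun z => ?_
        obtain ⟨w, rfl⟩ := QuotientGroup.mk'_surjective (K.map f) z
        obtain ⟨y, rfl⟩ := QuotientGroup.mk'_surjective U w
        obtain ⟨k, hk⟩ := hpow y
        refine ⟨k, ?_⟩
        rw [← map_pow]
        refine (QuotientGroup.eq_one_iff _).2 ?_
        exact ⟨y ^ p ^ k, hk, map_pow f y _⟩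
      intro x hx y hy
      rw [← commutatorElement_eq_one_iff_mul_comm]
      haveI := PBasic.pResidual_normal_inst p (Y ⧸ U)
      have h1 : ⁅x, y⁆ ∈ pResidual p (Y ⧸ U) :=
        Subgroup.commutator_le_left _ _ (Subgroup.commutator_mem_commutator hx hy
          (H₁ := pResidual p (Y ⧸ U)) (H₂ := pResidual p (Y ⧸ U)))
      have h2 : ⁅x, y⁆ ∈ (⁅K, K⁆).map f := by
        rw [Subgroup.map_commutator]
        exact Subgroup.commutator_mem_commutator (hle' hx) (hle' hy)
      rw [← Subgroup.mem_bot, ← PBasic.inf_eq_bot_of_coprime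
        (PBasic.hasNormalPComplement_iff_pResidual.1 hbar) (hKp.map f)]
      exact Subgroup.mem_inf.2 ⟨h1, h2⟩
    exact final_case hp5 hIH hC hbar hK hY T hmax hAU

end Cfsg.Agent.JAut
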