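import Mathlib.GroupTheory.PGroup
import Mathlib.GroupTheory.SpecificGroups.Cyclic
import Mathlib.Data.Nat.Choose.Dvd
import Cfsg.Agent.Lib.MetacyclicOdd.Arith
import Cfsg.Agent.Lib.TwoGroups.CentFour
import Cfsg.Agent.Lib.LocalEven.OmegaOne

/-!
Groups of prime power order with a cyclic maximal subgroup.
-/

set_option autoImplicit false
set_option linter.style.haveILetI false

namespace Cfsg.Agent.CyclicMaximal

variable {G : Type*} [Group G] {p : ℕ} [hp : Fact p.Prime]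

/-- Generators `a`, `g` with `g a g⁻¹ = a ^ r`, for some `r ≢ 1`. -/
theorem exists_setup [Finite G] {n : ℕ} (hn : 3 ≤ n) (hG : Nat.card G = p ^ n) (C : Subgroup G)
    (hC : IsCyclic C) (hCi : C.index = p) (hna : ∃ x y : G, x * y ≠ y * x) :
    ∃ (a g : G) (r : ℤ), orderOf a = p ^ (n - 1) ∧ g ∉ Subgroup.zpowers a ∧
      g ^ p ∈ Subgroup.zpowers a ∧ g * a * g⁻¹ = a ^ r ∧ ¬ ((p : ℤ) ^ (n - 1) ∣ r - 1) ∧
      (p : ℤ) ^ (n - 1) ∣ r ^ p - 1 := by
  haveI : C.Normal := Subgroup.normal_of_index_eq_minFac_card (by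
    rw [hG, hCi, Nat.pow_minFac (by omega : n ≠ 0), hp.out.minFac_eq])
  obtain ⟨⟨a, haC⟩, ha⟩ := IsCyclic.exists_generator (α := C)
  have hCa : C = Subgroup.zpowers a := by
    refine le_antisymm (fun x hx => ?_) (Subgroup.zpowers_le.2 haC)
    obtain ⟨i, hi⟩ := Subgroup.mem_zpowers_iff.1 (ha ⟨x, hx⟩)
    exact ⟨i, congrArg Subtype.val hi⟩
  have hord : orderOf a = p ^ (n - 1) := by
    have h := C.card_mul_index
    rw [hCi, hG, hCa, Nat.card_zpowers, show p ^ n = p ^ (n - 1) * p by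
      rw [← pow_succ]; congr 1; omega] at h
    exact Nat.eq_of_mul_eq_mul_right hp.out.pos h
  have hcent : ∃ g, g ∉ C ∧ g * a ≠ a * g := by
    by_contra hcon
    push Not at hcon
    obtain ⟨x, y, hxy⟩ := hna
    have hCC : ∀ u ∈ C, ∀ v : G, u * v = v * u := by
      intro u hu v
      obtain ⟨i, rfl⟩ := Subgroup.mem_zpowers_iff.1 (hCa ▸ hu)
      by_cases hv : v ∈ C
      · obtain ⟨j, rfl⟩ := Subgroup.mem_zpowers_iff.1 (hCa ▸ hv)
        exact ((Commute.refl a).zpow_zpow i j).eq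
      · exact ((show Commute a v from (hcon v hv).symm).zpow_left i).eq
    haveI : IsCyclic (G ⧸ C) := isCyclic_of_prime_card (p := p) (by rw [← Subgroup.index_eq_card, hCi])
    exact hxy (commutative_of_cyclic_center_quotient (QuotientGroup.mk' C)
      (by rw [QuotientGroup.ker_mk']; exact fun u hu => Subgroup.mem_center_iff.2 fun v => (hCC u hu v).symm)
      x y)
  obtain ⟨g, hg, hga⟩ := hcent
  have hgp : g ^ p ∈ C := by
    have h : (QuotientGroup.mk' C g) ^ p = 1 := by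
      rw [← hCi, Subgroup.index_eq_card]; exact pow_card_eq_one'
    rw [← map_pow] at h
    exact (QuotientGroup.eq_one_iff _).1 h
  obtain ⟨r, hr⟩ := Subgroup.mem_zpowers_iff.1
    (hCa ▸ (inferInstance : C.Normal).conj_mem a haC g : g * a * g⁻¹ ∈ Subgroup.zpowers a)
  refine ⟨a, g, r, hord, hCa ▸ hg, hCa ▸ hgp, hr.symm, fun h => hga ?_, ?_⟩
  · rw [show ((p : ℤ) ^ (n - 1)) = ((orderOf a : ℕ) : ℤ) by rw [hord]; push_cast; rfl,
      orderOf_dvd_iff_zpow_eq_one, zpow_sub, zpow_one, mul_inv_eq_one] at h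
    rw [h] at hr
    exact mul_inv_eq_iff_eq_mul.1 hr.symm
  · have hk : ∀ k : ℕ, g ^ k * a * (g ^ k)⁻¹ = a ^ (r ^ k) := by
      intro k
      induction k with
      | zero => simp
      | succ k ih =>
        rw [pow_succ g, show g ^ k * g * a * (g ^ k * g)⁻¹ = g ^ k * (g * a * g⁻¹) * (g ^ k)⁻¹ by group,
          ← hr, ← conj_zpow, ih, ← zpow_mul, ← pow_succ]
    have h := hk p
    have hc : g ^ p * a = a * g ^ p := by
      obtain ⟨i, hi⟩ := Subgroup.mem_zpowers_iff.1 (hCa ▸ hgp)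
      rw [← hi]; exact (Commute.zpow_left (Commute.refl a) i).eq
    rw [hc, mul_inv_cancel_right] at h
    rw [show ((p : ℤ) ^ (n - 1)) = ((orderOf a : ℕ) : ℤ) by rw [hord]; push_cast; rfl,
      orderOf_dvd_iff_zpow_eq_one, zpow_sub, zpow_one, mul_inv_eq_one]
    exact h.symm

/-- Odd primes: the modular group. -/
theorem exists_modular [Finite G] (hp2 : p ≠ 2) {n : ℕ} (hn : 3 ≤ n) (hG : Nat.card G = p ^ n)
    (C : Subgroup G) (hC : IsCyclic C) (hCi : C.index = p) (hna : ∃ x y : G, x * y ≠ y * x) :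
    ∃ a b : G, orderOf a = p ^ (n - 1) ∧ orderOf b = p ∧ b ∉ Subgroup.zpowers a ∧
      b * a * b⁻¹ = a ^ (1 + p ^ (n - 2)) := by
  obtain ⟨a, g, r, hord, hg, hgp, hr, hr1, hrp⟩ := exists_setup hn hG C hC hCi hna
  obtain ⟨t, rfl⟩ : ∃ t, n = t + 3 := ⟨n - 3, by omega⟩
  simp only [show t + 3 - 1 = t + 2 from rfl, show t + 3 - 2 = t + 1 from rfl] at *
  have hz : ∀ i : ℤ, a ^ i = 1 ↔ (p : ℤ) ^ (t + 2) ∣ i := fun i => by
    rw [← orderOf_dvd_iff_zpow_eq_one, hord]; push_cast; rfl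
  have hfer : (p : ℤ) ∣ r - 1 := by
    have h1 : (p : ℤ) ∣ r ^ p - 1 := (dvd_pow_self _ (by omega)).trans hrp
    rw [← ZMod.intCast_zmod_eq_zero_iff_dvd] at h1 ⊢
    push_cast at h1 ⊢
    rwa [ZMod.pow_card] at h1
  obtain ⟨e, he⟩ := MetaOdd.geom_p hp2 hfer
  have hgs : r ^ p - 1 = (r - 1) * MetaOdd.geom r p := by
    rw [MetaOdd.geom, mul_geom_sum]
  rw [hgs, he] at hrp
  have hd : (p : ℤ) ^ (t + 1) ∣ r - 1 := by
    have hco : IsCoprime ((p : ℤ) ^ (t + 1)) (1 + p * e) :=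
      (show IsCoprime (p : ℤ) (1 + p * e) from ⟨-e, 1, by ring⟩).pow_left
    refine hco.dvd_of_dvd_mul_right ?_
    rw [pow_succ', show (r - 1) * ((p : ℤ) * (1 + p * e)) = p * ((r - 1) * (1 + p * e)) by ring] at hrp
    exact (mul_dvd_mul_iff_left (by exact_mod_cast hp.out.ne_zero)).1 hrp
  obtain ⟨k, hk⟩ := hd
  have hkp : ¬ (p : ℤ) ∣ k := fun h => hr1 (by
    rw [hk, pow_succ _ (t + 1)]; exact mul_dvd_mul_left _ h)
  set q : ℤ := (p : ℤ) ^ (t + 1) with hq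
  have hc0 : ∀ s : ℤ, Commute (a ^ (q * s)) g := by
    intro s
    have h : g * a ^ (q * s) * g⁻¹ = a ^ (q * s) := by
      rw [← conj_zpow, hr, ← zpow_mul, ← mul_inv_eq_one, ← zpow_sub, hz,
        show r * (q * s) - q * s = q * ((r - 1) * s) by ring, hk, pow_succ (p : ℤ) (t + 1), hq]
      exact mul_dvd_mul_left _ (((dvd_pow_self (p : ℤ) (Nat.succ_ne_zero t)).mul_right _).mul_right _)
    exact (mul_inv_eq_iff_eq_mul.1 h).symm
  have hpow : ∀ j : ℕ, g ^ j * a * (g ^ j)⁻¹ = a ^ (1 + q * (k * j)) := by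
    intro j
    induction j with
    | zero => simp
    | succ j ih =>
      rw [pow_succ' g, show g * g ^ j * a * (g * g ^ j)⁻¹ = g * (g ^ j * a * (g ^ j)⁻¹) * g⁻¹ by group,
        ih, zpow_add, zpow_one, ← mul_assoc g a,
        show g * a * a ^ (q * (k * j)) * g⁻¹ = g * a * (g⁻¹ * g) * a ^ (q * (k * j)) * g⁻¹ by group]
      rw [show g * a * (g⁻¹ * g) * a ^ (q * (k * j)) * g⁻¹ =
        (g * a * g⁻¹) * (g * a ^ (q * (k * j)) * g⁻¹) by group, hr, ← (hc0 _).eq,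
        mul_inv_cancel_right, ← zpow_add]
      congr 1
      push_cast
      linear_combination hk
  obtain ⟨j, hj⟩ : ∃ j : ℕ, (p : ℤ) ∣ k * j - 1 := by
    have hk0 : (k : ZMod p) ≠ 0 := fun h => hkp ((ZMod.intCast_zmod_eq_zero_iff_dvd _ _).1 h)
    refine ⟨((k : ZMod p)⁻¹).val, (ZMod.intCast_zmod_eq_zero_iff_dvd _ _).1 ?_⟩
    push_cast
    rw [ZMod.natCast_zmod_val, mul_inv_cancel₀ hk0, sub_self]
  have hjp : ¬ p ∣ j := fun h => by
    have h1 : (p : ℤ) ∣ k * j := (Int.natCast_dvd_natCast.2 h).mul_left k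
    have h2 : (p : ℤ) ∣ 1 := by simpa using dvd_sub h1 hj
    exact hp.out.ne_one (Nat.eq_one_of_dvd_one (by exact_mod_cast h2))
  set g' := g ^ j with hg'
  have hg'a : g' * a * g'⁻¹ = a ^ (1 + q) := by
    rw [hpow, ← mul_inv_eq_one, ← zpow_sub, hz,
      show 1 + q * (k * j) - (1 + q) = q * (k * j - 1) by ring, hq, pow_succ (p : ℤ) (t + 1)]
    exact mul_dvd_mul_left _ hj
  have hg'p : g' ^ p ∈ Subgroup.zpowers a := by
    rw [hg', ← pow_mul, mul_comm, pow_mul]; exact pow_mem hgp j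
  obtain ⟨s, hs⟩ := Subgroup.mem_zpowers_iff.1 hg'p
  obtain ⟨m, hm⟩ : (p : ℤ) ∣ s := by
    have h : g' * a ^ s * g'⁻¹ = a ^ s := by
      rw [hs]; group
    rw [← conj_zpow, hg'a, ← zpow_mul, ← mul_inv_eq_one, ← zpow_sub, hz,
      show (1 + q) * s - s = q * s by ring, hq, pow_succ (p : ℤ) (t + 1)] at h
    exact (mul_dvd_mul_iff_left (pow_ne_zero _ (by exact_mod_cast hp.out.ne_zero))).1 h
  set u := a ^ (-m) with hu
  set b := u * g' with hb
  have hgu : g' * u = u * g' * a ^ (q * (-m)) := by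
    have h1 : g' * u * g'⁻¹ = u * a ^ (q * (-m)) := by
      rw [hu, ← conj_zpow, hg'a, ← zpow_mul, ← zpow_add]; congr 1; ring
    have h2 : Commute (a ^ (q * (-m))) g' := by rw [hg']; exact (hc0 _).pow_right j
    calc g' * u = g' * u * g'⁻¹ * g' := by group
      _ = u * a ^ (q * (-m)) * g' := by rw [h1]
      _ = _ := by rw [mul_assoc, h2.eq, ← mul_assoc]
  have hbp : b ^ p = 1 := by
    obtain ⟨d, hd⟩ : p ∣ p.choose 2 :=
      hp.out.dvd_choose_self (by norm_num) (lt_of_le_of_ne hp.out.two_le (Ne.symm hp2))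
    rw [hb, LEOmega.mul_pow_class_two hgu ((Commute.refl a).zpow_zpow _ _)
      (by rw [hg']; exact (hc0 _).pow_right j), ← hs, hu, ← zpow_natCast, ← zpow_natCast (a ^ (q * (-m))),
      ← zpow_mul, ← zpow_mul, ← zpow_add, ← zpow_add, hz, hd, hm, hq, pow_succ (p : ℤ) (t + 1)]
    refine ⟨-m * d, ?_⟩
    push_cast
    ring
  have hbnot : b ∉ Subgroup.zpowers a := by
    intro h
    have h1 : g' ∈ Subgroup.zpowers a := by
      have h2 := mul_mem (inv_mem (show u ∈ Subgroup.zpowers a from ⟨-m, rfl⟩)) h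
      rwa [hb, inv_mul_cancel_left] at h2
    refine hg ?_
    obtain ⟨x, y, hxy⟩ := Int.isCoprime_iff_nat_coprime.2
      (show ((j : ℤ).natAbs).Coprime (p : ℤ).natAbs by
        simpa using ((hp.out.coprime_iff_not_dvd).2 hjp).symm)
    have : g = g' ^ x * (g ^ p) ^ y := by
      rw [hg', ← zpow_natCast, ← zpow_natCast g p, ← zpow_mul, ← zpow_mul, ← zpow_add,
        show (j : ℤ) * x + p * y = 1 by linear_combination hxy, zpow_one]
    rw [this]
    exact mul_mem (zpow_mem h1 x) (zpow_mem hgp y)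
  refine ⟨a, b, hord, orderOf_eq_prime hbp fun h => hbnot (h ▸ one_mem _), hbnot, ?_⟩
  calc b * a * b⁻¹ = u * (g' * a * g'⁻¹) * u⁻¹ := by rw [hb]; group
    _ = a ^ (1 + q) := by
      rw [hg'a, hu, ← zpow_add, ← zpow_neg, ← zpow_add]; congr 1; ring
    _ = a ^ (1 + p ^ (t + 1)) := by rw [← zpow_natCast]; congr 1

/-- The prime two. -/
theorem classify_two [Finite G] {n : ℕ} (hn : 3 ≤ n) (hG : Nat.card G = 2 ^ n) (C : Subgroup G)
    (hC : IsCyclic C) (hCi : C.index = 2) (hna : ∃ x y : G, x * y ≠ y * x) :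
    ∃ a b : G, orderOf a = 2 ^ (n - 1) ∧ b ∉ Subgroup.zpowers a ∧
      ((b ^ 2 = 1 ∧ b * a * b⁻¹ = a⁻¹) ∨
        (b ^ 2 = a ^ (2 ^ (n - 2)) ∧ b * a * b⁻¹ = a⁻¹) ∨
        (4 ≤ n ∧ b ^ 2 = 1 ∧ b * a * b⁻¹ = a ^ (1 + 2 ^ (n - 2))) ∨
        (4 ≤ n ∧ b ^ 2 = 1 ∧ b * a * b⁻¹ = a ^ (2 ^ (n - 2) - 1))) := by
  haveI : Fact (Nat.Prime 2) := ⟨Nat.prime_two⟩
  obtain ⟨a, g, r, hord, hg, hgp, hr, hr1, hrp⟩ := exists_setup hn hG C hC hCi hna
  suffices h : ∃ b : G, b ∉ Subgroup.zpowers a ∧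
      ((b ^ 2 = 1 ∧ b * a * b⁻¹ = a⁻¹) ∨
        (b ^ 2 = a ^ (2 ^ (n - 2)) ∧ b * a * b⁻¹ = a⁻¹) ∨
        (4 ≤ n ∧ b ^ 2 = 1 ∧ b * a * b⁻¹ = a ^ (1 + 2 ^ (n - 2))) ∨
        (4 ≤ n ∧ b ^ 2 = 1 ∧ b * a * b⁻¹ = a ^ (2 ^ (n - 2) - 1))) by
    obtain ⟨b, hb⟩ := h
    exact ⟨a, b, hord, hb⟩
  obtain ⟨t, rfl⟩ : ∃ t, n = t + 3 := ⟨n - 3, by omega⟩
  simp only [show t + 3 - 1 = t + 2 from rfl, show t + 3 - 2 = t + 1 from rfl, Nat.cast_ofNat] at *
  have hz : ∀ i : ℤ, a ^ i = 1 ↔ (2 : ℤ) ^ (t + 2) ∣ i := fun i => by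
    rw [← orderOf_dvd_iff_zpow_eq_one, hord]; push_cast; rfl
  set M : ℤ := 2 ^ (t + 1) with hM
  have h2M : (2 : ℤ) ^ (t + 2) = 2 * M := by rw [hM, ← pow_succ']
  simp only [h2M] at hz hr1 hrp
  have hMpos : (0 : ℤ) < M := by rw [hM]; positivity
  have hnat : ((2 ^ (t + 1) : ℕ) : ℤ) = M := by rw [hM]; push_cast; rfl
  obtain ⟨s, hs⟩ := Subgroup.mem_zpowers_iff.1 hgp
  have hfix : 2 * M ∣ (r - 1) * s := by
    have h : g * a ^ s * g⁻¹ = a ^ s := by rw [hs]; group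
    rw [← conj_zpow, hr, ← zpow_mul, ← mul_inv_eq_one, ← zpow_sub, hz] at h
    rwa [sub_mul, one_mul]
  have hcases : 2 * M ∣ r + 1 ∨
      (1 ≤ t ∧ (2 * M ∣ r - (1 + M) ∨ 2 * M ∣ r - (M - 1))) := by
    rw [pow_two] at hrp
    rcases Nat.eq_zero_or_pos t with rfl | ht
    · left
      norm_num [hM] at hr1 hrp ⊢
      rcases Int.even_or_odd' r with ⟨k, rfl | rfl⟩
      · have h2 : (2 : ℤ) ∣ 2 * k * (2 * k) - 1 := (dvd_mul_left 2 2).trans (by norm_num; exact hrp)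
        have : (2 : ℤ) ∣ 1 := by
          obtain ⟨c, hc⟩ := h2
          exact ⟨2 * k * k - c, by linear_combination -hc⟩
        omega
      · omega
    · rcases CentFour.modEq_of_sq_modEq_one (m := t + 2) (by omega) (i := r) (by rw [h2M]; exact hrp)
        with h | h <;> rw [show t + 2 - 1 = t + 1 from rfl, ← hM] at h <;> obtain ⟨c, hc⟩ := h
      · rcases Int.even_or_odd' c with ⟨d, rfl | rfl⟩
        · exact absurd ⟨d, by rw [hc]; ring⟩ hr1
        · exact Or.inr ⟨ht, Or.inl ⟨d, by linear_combination hc⟩⟩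
      · rcases Int.even_or_odd' c with ⟨d, rfl | rfl⟩
        · exact Or.inl ⟨d, by rw [hc]; ring⟩
        · exact Or.inr ⟨ht, Or.inr ⟨d, by linear_combination hc⟩⟩
  have hconj : ∀ i : ℤ, ∀ x : ℤ, 2 * M ∣ r - x → (a ^ i * g) * a * (a ^ i * g)⁻¹ = a ^ x := by
    intro i x hx
    have h : g * a * g⁻¹ = a ^ x := by
      rw [hr, ← mul_inv_eq_one, ← zpow_sub, hz]; exact hx
    calc (a ^ i * g) * a * (a ^ i * g)⁻¹ = a ^ i * (g * a * g⁻¹) * (a ^ i)⁻¹ := by group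
      _ = a ^ x := by rw [h, ← zpow_neg, ← zpow_add, ← zpow_add]; congr 1; ring
  have hnot : ∀ i : ℤ, a ^ i * g ∉ Subgroup.zpowers a := fun i h => hg (by
    have h2 := mul_mem (inv_mem (show a ^ i ∈ Subgroup.zpowers a from ⟨i, rfl⟩)) h
    rwa [inv_mul_cancel_left] at h2)
  have hsq : ∀ i : ℤ, (a ^ i * g) ^ 2 = a ^ (i + r * i + s) := by
    intro i
    have h : g * a ^ i = a ^ (r * i) * g := by
      rw [← mul_inv_eq_iff_eq_mul, ← conj_zpow, hr, ← zpow_mul]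
    calc (a ^ i * g) ^ 2 = a ^ i * (g * a ^ i) * g := by rw [pow_two]; group
      _ = a ^ i * a ^ (r * i) * g ^ 2 := by rw [h, pow_two]; group
      _ = _ := by rw [← hs, ← zpow_add, ← zpow_add]
  rcases hcases with ⟨d, hd⟩ | ⟨ht, ⟨d, hd⟩ | ⟨d, hd⟩⟩
  · have hinv : g * a * g⁻¹ = a⁻¹ := by
      have := hconj 0 (-1) ⟨d, by linear_combination hd⟩
      rwa [zpow_zero, one_mul, zpow_neg_one] at this
    have hMs : M ∣ s := by
      obtain ⟨c, hc⟩ := hfix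
      refine ⟨s * d - c, ?_⟩
      have : r = 2 * M * d - 1 := by linear_combination hd
      subst this
      linarith
    obtain ⟨c, hc⟩ := hMs
    refine ⟨g, hg, ?_⟩
    rcases Int.even_or_odd' c with ⟨e, rfl | rfl⟩
    · left
      exact ⟨by rw [← hs, hz]; exact ⟨e, by rw [hc]; ring⟩, hinv⟩
    · right; left
      refine ⟨?_, hinv⟩
      rw [← hs, ← zpow_natCast, hnat, ← mul_inv_eq_one, ← zpow_sub, hz]
      exact ⟨e, by rw [hc]; ring⟩
  · have hM4 : M = 2 * (2 * 2 ^ (t - 1)) := by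
      rw [hM, ← pow_succ', ← pow_succ']; congr 1; omega
    obtain ⟨e, he⟩ : (2 : ℤ) ∣ s := by
      obtain ⟨c, hc⟩ := hfix
      rw [show r = 1 + M + 2 * M * d by linear_combination hd] at hc
      refine ⟨c - s * d, ?_⟩
      have h : M * s = M * (2 * (c - s * d)) := by linear_combination hc
      exact mul_left_cancel₀ hMpos.ne' h
    have hco : IsCoprime M (1 + 2 ^ (t - 1) * 2) :=
      (show IsCoprime (2 : ℤ) (1 + 2 ^ (t - 1) * 2) from ⟨-(2 ^ (t - 1)), 1, by ring⟩).pow_left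
    obtain ⟨x, y, hxy⟩ := hco
    refine ⟨a ^ (-e * y) * g, hnot _, Or.inr (Or.inr (Or.inl ⟨by omega, ?_, ?_⟩))⟩
    · rw [hsq, hz]
      refine ⟨x * e - d * e * y, ?_⟩
      rw [show r = 1 + M + 2 * M * d by linear_combination hd, he]
      have hP : (2 : ℤ) ^ (t - 1) * 2 * 2 = M := by rw [hM4]; ring
      linear_combination -2 * e * hxy + e * y * hP
    · rw [hconj _ (1 + M) ⟨d, hd⟩, ← zpow_natCast]
      congr 1
  · have hM4 : M = 2 * (2 * 2 ^ (t - 1)) := by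
      rw [hM, ← pow_succ', ← pow_succ']; congr 1; omega
    obtain ⟨e, he⟩ : M ∣ s := by
      obtain ⟨c, hc⟩ := hfix
      rw [show r = M - 1 + 2 * M * d by linear_combination hd] at hc
      have h : (2 : ℤ) * (s * (2 * 2 ^ (t - 1) - 1)) = 2 * (M * (c - s * d)) := by
        linear_combination hc - s * hM4
      have h' := mul_left_cancel₀ two_ne_zero h
      have hco : IsCoprime M (2 * 2 ^ (t - 1) - 1) :=
        (show IsCoprime (2 : ℤ) (2 * 2 ^ (t - 1) - 1) from ⟨2 ^ (t - 1), -1, by ring⟩).pow_left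
      exact hco.dvd_of_dvd_mul_right ⟨_, h'⟩
    have hb : ∀ i : ℤ, (a ^ i * g) ^ 2 = 1 → ∃ b : G, b ∉ Subgroup.zpowers a ∧ b ^ 2 = 1 ∧
        b * a * b⁻¹ = a ^ (2 ^ (t + 1) - 1) := fun i hi => by
      refine ⟨a ^ i * g, hnot i, hi, ?_⟩
      rw [hconj i (M - 1) ⟨d, hd⟩, ← zpow_natCast, Nat.cast_sub Nat.one_le_two_pow, hnat]
      rfl
    obtain ⟨b, hb1, hb2, hb3⟩ : ∃ b : G, b ∉ Subgroup.zpowers a ∧ b ^ 2 = 1 ∧
        b * a * b⁻¹ = a ^ (2 ^ (t + 1) - 1) := by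
      rcases Int.even_or_odd' e with ⟨f, rfl | rfl⟩
      · exact hb 0 (by rw [hsq, hz]; exact ⟨f, by rw [he]; ring⟩)
      · refine hb 1 ?_
        rw [hsq, hz]
        refine ⟨d + f + 1, ?_⟩
        rw [show r = M - 1 + 2 * M * d by linear_combination hd, he]; ring
    exact ⟨b, hb1, Or.inr (Or.inr (Or.inr ⟨by omega, hb2, hb3⟩))⟩

end Cfsg.Agent.CyclicMaximal
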