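import Cfsg.Agent.Lib.PLocal.ZJ
import Cfsg.Agent.Lib.Solvable.Basic

/-!
Thompson's replacement count for an element `x` with `[x, A]` inside an abelian subgroup.
-/

set_option autoImplicit false
set_option linter.style.haveILetI false

open scoped commutatorElement

namespace Cfsg.Agent.JAut

open Cfsg.Agent

variable {G : Type*} [Group G]

/-- The subgroup generated by the `[x, a]`, `a ∈ A`. -/
def commX (x : G) (A : Subgroup G) : Subgroup G :=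
  Subgroup.closure {g | ∃ a ∈ A, g = ⁅x, a⁆}

theorem mem_commX {x a : G} {A : Subgroup G} (ha : a ∈ A) : ⁅x, a⁆ ∈ commX x A :=
  Subgroup.subset_closure ⟨a, ha, rfl⟩

theorem commX_le {x : G} {A V : Subgroup G} (h : ∀ a ∈ A, ⁅x, a⁆ ∈ V) : commX x A ≤ V := by
  rw [commX, Subgroup.closure_le]
  rintro g ⟨a, ha, rfl⟩
  exact h a ha

theorem commutator_mul_right_eq (x a c : G) : ⁅x, a * c⁆ = ⁅x, a⁆ * (a * ⁅x, c⁆ * a⁻¹) := by
  simp only [commutatorElement_def]; group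

theorem conj_commutator_mem {x a c : G} {A : Subgroup G} (ha : a ∈ A) (hc : c ∈ A) :
    c * ⁅x, a⁆ * c⁻¹ ∈ commX x A := by
  rw [show c * ⁅x, a⁆ * c⁻¹ = ⁅x, c⁆⁻¹ * ⁅x, c * a⁆ by rw [commutator_mul_right_eq]; group]
  exact mul_mem (inv_mem (mem_commX hc)) (mem_commX (A.mul_mem hc ha))

theorem le_normalizer_commX (x : G) (A : Subgroup G) :
    A ≤ Subgroup.normalizer (commX x A : Set G) := by
  intro c hc
  have h : ∀ d ∈ A, ∀ m ∈ commX x A, d * m * d⁻¹ ∈ commX x A := by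
    intro d hd m hm
    have : (commX x A).map (MulAut.conj d).toMonoidHom ≤ commX x A := by
      rw [commX, MonoidHom.map_closure, Subgroup.closure_le]
      rintro _ ⟨g, ⟨a, ha, rfl⟩, rfl⟩
      exact conj_commutator_mem ha hd
    exact this ⟨m, hm, rfl⟩
  rw [Subgroup.mem_normalizer_iff]
  refine fun m => ⟨fun hm => h c hc m hm, fun hm => ?_⟩
  have := h c⁻¹ (A.inv_mem hc) _ hm
  simpa [mul_assoc] using this

variable [Finite G] {p : ℕ}

/-- Every element of `[x, A]` is `[x, a] d` with `a ∈ A` and `d ∈ A`. -/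
theorem exists_eq_commutator_mul {S A V : Subgroup G} (hA : ZJ.IsMaxIn p False S A) {x : G}
    (hx : x ∈ S) (hV : ∀ u ∈ V, ∀ v ∈ V, u * v = v * u) (hxV : ∀ a ∈ A, ⁅x, a⁆ ∈ V) :
    ∀ m ∈ commX x A, ∃ a ∈ A, ∃ d ∈ commX x A, d ∈ A ∧ m = ⁅x, a⁆ * d := by
  set M := commX x A with hM
  have hMV : M ≤ V := commX_le hxV
  have hMS : M ≤ S := commX_le fun a ha => by
    rw [commutatorElement_def]
    exact S.mul_mem (S.mul_mem (S.mul_mem hx (hA.1 ha)) (S.inv_mem hx)) (S.inv_mem (hA.1 ha))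
  have hMc : ∀ u ∈ M, ∀ v ∈ M, u * v = v * u := fun u hu v hv => hV u (hMV hu) v (hMV hv)
  have key : ∀ a ∈ A, ∀ c ∈ A,
      c * ⁅x, a⁆ * c⁻¹ * ⁅x, a⁆⁻¹ = a * ⁅x, c⁆ * a⁻¹ * ⁅x, c⁆⁻¹ := by
    intro a ha c hc
    have e : ⁅x, a⁆ * (a * ⁅x, c⁆ * a⁻¹) = ⁅x, c⁆ * (c * ⁅x, a⁆ * c⁻¹) := by
      rw [← commutator_mul_right_eq, ← commutator_mul_right_eq, hA.2.1.comm ha hc]
    have hta : ⁅x, a⁆ ∈ M := mem_commX ha
    have htc : ⁅x, c⁆ ∈ M := mem_commX hc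
    have hac := conj_commutator_mem (x := x) hc ha
    have hca := conj_commutator_mem (x := x) ha hc
    calc c * ⁅x, a⁆ * c⁻¹ * ⁅x, a⁆⁻¹
        = ⁅x, c⁆⁻¹ * (⁅x, c⁆ * (c * ⁅x, a⁆ * c⁻¹)) * ⁅x, a⁆⁻¹ := by group
      _ = ⁅x, c⁆⁻¹ * (a * ⁅x, c⁆ * a⁻¹ * ⁅x, a⁆) * ⁅x, a⁆⁻¹ := by
          rw [← e, hMc _ hta _ hac]
      _ = ⁅x, c⁆⁻¹ * (a * ⁅x, c⁆ * a⁻¹) := by group
      _ = a * ⁅x, c⁆ * a⁻¹ * ⁅x, c⁆⁻¹ := hMc _ (inv_mem htc) _ hac
  set B := A ⊓ Subgroup.centralizer (M : Set G) with hB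
  have hAB : ∀ b ∈ B, ∀ m ∈ M, m * b = b * m := fun b hb m hm => (Subgroup.mem_inf.1 hb).2 m hm
  have hinf : M ⊓ B = M ⊓ A := by
    refine le_antisymm (inf_le_inf_left M inf_le_left) (le_inf inf_le_left (le_inf inf_le_right ?_))
    exact fun w hw m hm => hMc m hm w (Subgroup.mem_inf.1 hw).1
  have hY : IsMulCommutative (M ⊔ B : Subgroup G) := by
    have : IsMulCommutative (Subgroup.closure ((M : Set G) ∪ (B : Set G))) := by
      refine Subgroup.isMulCommutative_closure ?_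
      rintro u (hu | hu) v (hv | hv)
      · exact hMc u hu v hv
      · exact hAB v hv u hu
      · exact (hAB u hu v hv).symm
      · exact hA.2.1.comm (Subgroup.mem_inf.1 hu).1 (Subgroup.mem_inf.1 hv).1
    rwa [Subgroup.closure_union, Subgroup.closure_eq, Subgroup.closure_eq] at this
  have hle : Nat.card (M ⊔ B : Subgroup G) ≤ Nat.card A :=
    hA.2.2 _ (sup_le hMS (inf_le_left.trans hA.1)) ⟨hY, False.elim⟩
  have hprod := SolvBasic.card_sup_mul_card_inf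
    (N := M) (H := B) (inf_le_left.trans (le_normalizer_commX x A))
  rw [hinf] at hprod
  -- the injection
  set T := (M ⊓ A).subgroupOf M with hT
  let φ : A ⧸ B.subgroupOf A → M ⧸ T := fun q =>
    QuotientGroup.mk ⟨⁅x, ((Quotient.out q : A) : G)⁆, mem_commX (Quotient.out q : A).2⟩
  have hφ : Function.Injective φ := by
    intro q₁ q₂ hq
    rw [← Quotient.out_eq q₁, ← Quotient.out_eq q₂]
    set a₁ : A := Quotient.out q₁
    set a₂ : A := Quotient.out q₂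
    have hd := (QuotientGroup.eq (s := T)).1 hq
    rw [hT, Subgroup.mem_subgroupOf] at hd
    obtain ⟨-, hdA⟩ := Subgroup.mem_inf.1 hd
    refine (QuotientGroup.eq (s := B.subgroupOf A)).2 ?_
    rw [Subgroup.mem_subgroupOf, hB, Subgroup.mem_inf]
    refine ⟨(a₁⁻¹ * a₂ : A).2, ?_⟩
    set d : G := ⁅x, (a₁ : G)⁆⁻¹ * ⁅x, (a₂ : G)⁆ with hdd
    have hdA' : d ∈ A := by simpa [hdd] using hdA
    have h2 : ⁅x, (a₂ : G)⁆ = ⁅x, (a₁ : G)⁆ * d := by rw [hdd]; group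
    have hle : M ≤ Subgroup.centralizer {((a₁⁻¹ * a₂ : A) : G)} := by
      rw [hM, commX, Subgroup.closure_le]
      rintro _ ⟨c, hc, rfl⟩
      have hcd : c * d * c⁻¹ = d := by rw [hA.2.1.comm hc hdA', mul_inv_cancel_right]
      have e : (a₂ : G) * ⁅x, c⁆ * (a₂ : G)⁻¹ * ⁅x, c⁆⁻¹ =
          (a₁ : G) * ⁅x, c⁆ * (a₁ : G)⁻¹ * ⁅x, c⁆⁻¹ := by
        rw [← key _ a₂.2 _ hc, ← key _ a₁.2 _ hc, h2]
        calc _ = c * ⁅x, (a₁ : G)⁆ * c⁻¹ * (c * d * c⁻¹) * d⁻¹ * ⁅x, (a₁ : G)⁆⁻¹ := by group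
          _ = _ := by rw [hcd]; group
      have e2 := mul_right_cancel e
      rw [SetLike.mem_coe, Subgroup.mem_centralizer_singleton_iff, Subgroup.coe_mul,
        Subgroup.coe_inv]
      calc ⁅x, c⁆ * ((a₁ : G)⁻¹ * a₂)
          = (a₁ : G)⁻¹ * ((a₁ : G) * ⁅x, c⁆ * (a₁ : G)⁻¹) * a₂ := by group
        _ = (a₁ : G)⁻¹ * ((a₂ : G) * ⁅x, c⁆ * (a₂ : G)⁻¹) * a₂ := by rw [e2]
        _ = (a₁ : G)⁻¹ * a₂ * ⁅x, c⁆ := by group
    exact fun m hm => (Subgroup.mem_centralizer_singleton_iff.1 (hle hm))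
  have hcard : Nat.card (M ⧸ T) ≤ Nat.card (A ⧸ B.subgroupOf A) := by
    change T.index ≤ (B.subgroupOf A).index
    have h1 := T.card_mul_index
    have h2 := (B.subgroupOf A).card_mul_index
    have h3 : Nat.card T = Nat.card (M ⊓ A : Subgroup G) :=
      Nat.card_congr (Subgroup.subgroupOfEquivOfLe inf_le_left).toEquiv
    have h4 : Nat.card (B.subgroupOf A) = Nat.card B :=
      Nat.card_congr (Subgroup.subgroupOfEquivOfLe inf_le_left).toEquiv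
    rw [h3] at h1
    rw [h4] at h2
    have h5 : Nat.card M * Nat.card B ≤ Nat.card A * Nat.card (M ⊓ A : Subgroup G) :=
      hprod ▸ Nat.mul_le_mul_right _ hle
    rw [← h1, ← h2] at h5
    have hpos : 0 < Nat.card (M ⊓ A : Subgroup G) * Nat.card B := Nat.mul_pos Nat.card_pos Nat.card_pos
    refine Nat.le_of_mul_le_mul_left ?_ hpos
    calc _ = Nat.card (M ⊓ A : Subgroup G) * T.index * Nat.card B := by ring
      _ ≤ _ := h5
      _ = _ := by ring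
  intro m hm
  obtain ⟨q, hq⟩ := (hφ.bijective_of_nat_card_le hcard).2 (QuotientGroup.mk ⟨m, hm⟩)
  set a : A := Quotient.out q
  refine ⟨a, a.2, ⁅x, (a : G)⁆⁻¹ * m, mul_mem (inv_mem (mem_commX a.2)) hm, ?_, by group⟩
  have hd := (QuotientGroup.eq (s := T)).1 hq
  rw [hT, Subgroup.mem_subgroupOf] at hd
  exact (Subgroup.mem_inf.1 hd).2

end Cfsg.Agent.JAut
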