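import Cfsg.Agent.Lib.PLocal.ZJ
import Cfsg.Agent.Lib.PLocal.ThompsonNPC
import Cfsg.Agent.Lib.Solvable.Basic
import Cfsg.Agent.Lib.FiniteGroup.CyclicPGroup

/-!
A counterexample to the automizer criterion is, modulo `O_p`, an abelian group extended by a cyclic
semiregular image of an abelian subgroup of largest order.
-/

set_option autoImplicit false
set_option linter.style.haveILetI false

open scoped commutatorElement Pointwise

namespace Cfsg.Agent.JAut

open Cfsg Cfsg.Agent

universe u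

variable {p : ℕ}

/-- The criterion holds in the proper subgroups. -/
def InSubgroups (p : ℕ) (Y : Type u) [Group Y] : Prop :=
  ∀ H : Subgroup Y, H ≠ ⊤ → ∀ T : Sylow p H,
    HasNormalPComplement p (Subgroup.normalizer (ZJ.jSub p False (T : Subgroup H) : Set H)) →
    HasNormalPComplement p H

variable {Y : Type u} [Group Y] [Finite Y] [hp : Fact p.Prime]

omit [Finite Y] hp in
/-- A normal subgroup of coprime order, commuting by commutators with an element of order a power of
`p`, has no commutator fixed by that element. -/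
theorem eq_one_of_commutator_fixed {R : Subgroup Y} (hR : (Nat.card R).Coprime p)
    {r b : Y} (hb : ∃ k, orderOf b = p ^ k) (hs : ⁅r, b⁆ ∈ R)
    (hcom : b * ⁅r, b⁆ * b⁻¹ = ⁅r, b⁆) : ⁅r, b⁆ = 1 := by
  set s := ⁅r, b⁆ with hsdef
  have h1 : b * r * b⁻¹ = s⁻¹ * r := by rw [hsdef, commutatorElement_def]; group
  have hk : ∀ i : ℕ, b ^ i * r * (b ^ i)⁻¹ = (s⁻¹) ^ i * r := by
    intro i
    induction i with
    | zero => simp
    | succ i ih =>
      calc b ^ (i + 1) * r * (b ^ (i + 1))⁻¹ = b * (b ^ i * r * (b ^ i)⁻¹) * b⁻¹ := by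
            rw [pow_succ']; group
        _ = (b * (s⁻¹) ^ i * b⁻¹) * (b * r * b⁻¹) := by rw [ih]; group
        _ = (s⁻¹) ^ (i + 1) * r := by
            rw [h1, ← conj_pow, show b * s⁻¹ * b⁻¹ = (b * s * b⁻¹)⁻¹ by group, hcom, pow_succ]
            group
  obtain ⟨k, hk'⟩ := hb
  have h2 := hk (p ^ k)
  rw [← hk', pow_orderOf_eq_one, one_mul, inv_one, mul_one, right_eq_mul, inv_pow,
    inv_eq_one] at h2
  have h3 : orderOf s ∣ p ^ k := hk' ▸ orderOf_dvd_of_pow_eq_one h2
  have h4 : (orderOf s).Coprime p := PBasic.coprime_orderOf_of_mem hR hs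
  exact orderOf_eq_one_iff.1 (Nat.eq_one_of_dvd_coprimes (h4.pow_right k) dvd_rfl h3)

/-- The structure modulo `O_p`. -/
theorem frobenius_image (hIH : InSubgroups p Y)
    (hC : Subgroup.centralizer (pCore p Y : Set Y) ≤ pCore p Y)
    (hbar : HasNormalPComplement p (Y ⧸ pCore p Y))
    (hK : ∀ x ∈ pResidual p (Y ⧸ pCore p Y), ∀ y ∈ pResidual p (Y ⧸ pCore p Y), x * y = y * x)
    (hp2 : p ≠ 2)
    (S : Sylow p Y) {A : Subgroup Y} (hA : ZJ.IsMaxIn p False (S : Subgroup Y) A)
    (hAU : ¬ A ≤ pCore p Y) :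
    (∀ b ∈ A.map (QuotientGroup.mk' (pCore p Y)), b ≠ 1 → ∀ s ∈ pResidual p (Y ⧸ pCore p Y),
      ∃ r ∈ pResidual p (Y ⧸ pCore p Y), ⁅r, b⁆ = s) ∧
    IsCyclic (A.map (QuotientGroup.mk' (pCore p Y))) := by
  classical
  set U := pCore p Y with hU
  haveI : U.Normal := Cfsg.pCore_normal p Y
  set f := QuotientGroup.mk' U with hf
  have hfs : Function.Surjective f := QuotientGroup.mk'_surjective U
  set R := pResidual p (Y ⧸ U) with hRdef
  haveI hRn : R.Normal := PBasic.pResidual_normal_inst p (Y ⧸ U)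
  have hRcop : (Nat.card R).Coprime p := PBasic.hasNormalPComplement_iff_pResidual.1 hbar
  have hO : pCore p (Y ⧸ U) = ⊥ := PBasic.pCore_quotient_pCore p Y
  have hUp : IsPGroup p U := PBasic.pCore_isPGroup p Y
  have hUS : U ≤ (S : Subgroup Y) := PBasic.pCore_le_sylow S
  set Ab := A.map f with hAb
  have hAbp : IsPGroup p Ab := (S.isPGroup'.to_le hA.1).map f
  have hAbc : ∀ a ∈ Ab, ∀ b ∈ Ab, a * b = b * a := by
    rintro _ ⟨a, ha, rfl⟩ _ ⟨b, hb, rfl⟩
    rw [← map_mul, ← map_mul, hA.2.1.comm ha hb]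
  have hRA : ∀ x, x ∈ R → x ∈ Ab → x = 1 := fun x hxR hxA => by
    have := PBasic.inf_eq_bot_of_coprime hRcop hAbp
    rw [← Subgroup.mem_bot, ← this]
    exact Subgroup.mem_inf.2 ⟨hxR, hxA⟩
  -- `A` acts faithfully on the residual
  have hfaith : ∀ b ∈ Ab, (∀ r ∈ R, ⁅r, b⁆ = 1) → b = 1 := by
    intro b hb hbR
    set Pb := S.mapSurjective hfs with hPb
    set X := (Pb : Subgroup (Y ⧸ U)) ⊓ Subgroup.centralizer (R : Set (Y ⧸ U)) with hX
    have hXn : X.Normal := by
      rw [← Subgroup.normalizer_eq_top_iff, eq_top_iff, ← PBasic.sylow_sup_pResidual Pb]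
      refine sup_le ?_ ?_
      · refine le_trans (le_inf Subgroup.le_normalizer ?_) Subgroup.inf_normalizer_le_normalizer_inf
        rw [Subgroup.normalizer_eq_top]; exact le_top
      · refine le_trans ?_ (Subgroup.centralizer_le_normalizer _)
        intro k hk s hs
        exact ((Subgroup.mem_inf.1 hs).2 k hk).symm
    have hX1 : X ≤ ⊥ := hO ▸ PBasic.le_pCore hXn Pb.isPGroup'.to_inf_left
    have hbX : b ∈ X := ⟨Subgroup.map_mono hA.1 hb, fun r hr =>
      commutatorElement_eq_one_iff_mul_comm.1 (hbR r hr)⟩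
    exact Subgroup.mem_bot.1 (hX1 hbX)
  have main : ∀ b ∈ Ab, b ≠ 1 → ∀ s ∈ R, ∃ r ∈ R, ⁅r, b⁆ = s := by
    intro b hb hb1
    have hcR : ∀ r ∈ R, ⁅r, b⁆ ∈ R := fun r hr => by
      rw [commutatorElement_def, mul_assoc r, mul_assoc r]
      exact R.mul_mem hr (hRn.conj_mem _ (R.inv_mem hr) b)
    let R1 : Subgroup (Y ⧸ U) :=
      { carrier := {s | ∃ r ∈ R, ⁅r, b⁆ = s}
        one_mem' := ⟨1, R.one_mem, commutatorElement_one_left b⟩
        mul_mem' := by
          rintro _ _ ⟨r, hr, rfl⟩ ⟨r', hr', rfl⟩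
          refine ⟨r' * r, R.mul_mem hr' hr, ?_⟩
          have h := hK r' hr' ⁅r, b⁆ (hcR r hr)
          rw [show ⁅r' * r, b⁆ = r' * ⁅r, b⁆ * r'⁻¹ * ⁅r', b⁆ by
            simp only [commutatorElement_def]; group, h, mul_inv_cancel_right]
        inv_mem' := by
          rintro _ ⟨r, hr, rfl⟩
          refine ⟨r⁻¹, R.inv_mem hr, eq_inv_of_mul_eq_one_right ?_⟩
          have h := hK r⁻¹ (R.inv_mem hr) ⁅r, b⁆ (hcR r hr)
          calc ⁅r, b⁆ * ⁅r⁻¹, b⁆ = (r⁻¹ * ⁅r, b⁆ * r⁻¹⁻¹) * ⁅r⁻¹, b⁆ := by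
                rw [h, mul_inv_cancel_right]
            _ = 1 := by simp only [commutatorElement_def]; group }
    have hR1R : R1 ≤ R := by
      rintro _ ⟨r, hr, rfl⟩
      exact hcR r hr
    have hAR1 : Ab ≤ Subgroup.normalizer (R1 : Set (Y ⧸ U)) := by
      have h1 : ∀ c ∈ Ab, ∀ s ∈ R1, c * s * c⁻¹ ∈ R1 := by
        rintro c hc _ ⟨r, hr, rfl⟩
        refine ⟨c * r * c⁻¹, hRn.conj_mem r hr c, ?_⟩
        rw [← MulAut.conj_apply c r, ← MulAut.conj_apply c ⁅r, b⁆, map_commutatorElement,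
          MulAut.conj_apply c b, hAbc c hc b hb, mul_inv_cancel_right]
      intro c hc
      rw [Subgroup.mem_normalizer_iff]
      refine fun s => ⟨fun hs => h1 c hc s hs, fun hs => ?_⟩
      have := h1 c⁻¹ (Ab.inv_mem hc) _ hs
      simpa [mul_assoc] using this
    set Hb := R1 ⊔ Ab with hHb
    have hHbR : ∀ x ∈ Hb, x ∈ R → x ∈ R1 := by
      intro x hx hxR
      rw [hHb, ← SetLike.mem_coe, Subgroup.coe_mul_of_right_le_normalizer_left _ _ hAR1] at hx
      obtain ⟨s, hs, c, hc, rfl⟩ := Set.mem_mul.1 hx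
      have hc' : c ∈ R := by
        have := R.mul_mem (R.inv_mem (hR1R hs)) hxR
        rwa [inv_mul_cancel_left] at this
      rw [hRA c hc' hc, mul_one]
      exact hs
    set H := Hb.comap f with hH
    set T' := Ab.comap f with hT'
    have hT'UA : T' = A ⊔ U := by rw [hT', hAb, Subgroup.comap_map_eq, hf, QuotientGroup.ker_mk']
    have hT'S : T' ≤ (S : Subgroup Y) := hT'UA ▸ sup_le hA.1 hUS
    have hT'H : T' ≤ H := Subgroup.comap_mono le_sup_right
    have hidx : ¬ p ∣ (T'.subgroupOf H).index := by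
      have h1 : (T'.subgroupOf H).index = Ab.relIndex Hb := by
        change T'.relIndex H = _
        rw [hT', Subgroup.relIndex_comap, hH, Subgroup.map_comap_eq_self_of_surjective hfs]
      have h2 : Ab.relIndex Hb ∣ Nat.card R := by
        have e1 := SolvBasic.card_sup_mul_card_inf hAR1
        have e2 := PBasic.card_mul_relIndex (show Ab ≤ Hb from le_sup_right)
        rw [show R1 ⊓ Ab = ⊥ from eq_bot_iff.2 fun x hx => Subgroup.mem_bot.2
          (hRA x (hR1R hx.1) hx.2), Subgroup.card_bot, mul_one, ← hHb, ← e2,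
          mul_comm (Nat.card R1)] at e1
        rw [Nat.eq_of_mul_eq_mul_left Nat.card_pos e1]
        exact Subgroup.card_dvd_of_le hR1R
      rw [h1]
      intro hdvd
      exact hp.out.ne_one (Nat.eq_one_of_dvd_coprimes hRcop (hdvd.trans h2) dvd_rfl)
    have hT'p : IsPGroup p (T'.subgroupOf H) := (S.isPGroup'.to_le hT'S).comap_subtype
    set T : Sylow p H := hT'p.toSylow hidx with hTdef
    have hTmap : (T : Subgroup H).map H.subtype = T' := by
      rw [hTdef, IsPGroup.toSylow_coe, Subgroup.map_subgroupOf_eq_of_le hT'H]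
    have hJmap : (ZJ.jSub p False (T : Subgroup H)).map H.subtype = ZJ.jSub p False T' := by
      rw [← hTmap, ZJ.jSub_map (S := (T : Subgroup H)) H.subtype Subtype.coe_injective.injOn]
    have hAmax : ZJ.IsMaxIn p False T' A :=
      ⟨hT'UA ▸ le_sup_left, hA.2.1, fun B hB hBs => hA.2.2 B (hB.trans hT'S) hBs⟩
    have hJimg : (ZJ.jSub p False T').map f = Ab := by
      refine le_antisymm ?_ (Subgroup.map_mono (ZJ.le_jSub hAmax))
      exact (Subgroup.map_mono (ZJ.jSub_le T')).trans (Subgroup.map_comap_le _ _)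
    have hN : HasNormalPComplement p
        (Subgroup.normalizer (ZJ.jSub p False (T : Subgroup H) : Set H)) := by
      refine PBasic.hasNormalPComplement_of_isPGroup (PBasic.isPGroup_iff_forall_coprime.2 ?_)
      intro g hg
      rw [← Subgroup.orderOf_coe] at hg
      set g0 : Y := ((g : H) : Y) with hg0
      have hgo : (orderOf g0).Coprime p := by rwa [hg0, Subgroup.orderOf_coe]
      have hgR : f g0 ∈ R :=
        PBasic.mem_pResidual (Nat.Coprime.coprime_dvd_left (orderOf_map_dvd f g0) hgo)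
      obtain ⟨r, hr, hrg⟩ : f g0 ∈ R1 := hHbR _ (g : H).2 hgR
      have hconj : f g0 * b * (f g0)⁻¹ ∈ Ab := by
        obtain ⟨j, hj, hjb⟩ := hJimg.ge hb
        rw [← hjb, ← map_inv, ← map_mul, ← map_mul, ← hJimg]
        refine Subgroup.mem_map_of_mem f ?_
        rw [← hJmap] at hj ⊢
        obtain ⟨j0, hj0, rfl⟩ := hj
        exact ⟨(g : H) * j0 * (g : H)⁻¹, (Subgroup.mem_normalizer_iff.1 g.2 j0).1 hj0, rfl⟩
      have hcb : ⁅f g0, b⁆ = 1 :=
        hRA _ (hcR _ hgR) (Ab.mul_mem hconj (Ab.inv_mem hb))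
      have hb' : b * f g0 * b⁻¹ = f g0 := by
        rw [← commutatorElement_eq_one_iff_mul_comm.1 hcb, mul_inv_cancel_right]
      have hg1 : f g0 = 1 := by
        rw [← hrg]
        refine eq_one_of_commutator_fixed hRcop ?_ (hcR r hr) (by rw [hrg]; exact hb')
        obtain ⟨k, hk⟩ := IsPGroup.iff_orderOf.1 hAbp ⟨b, hb⟩
        exact ⟨k, by rwa [Subgroup.orderOf_mk] at hk⟩
      have hgU : g0 ∈ U := (QuotientGroup.eq_one_iff g0).1 hg1
      exact Subtype.ext (Subtype.ext (PBasic.eq_one_of_isPGroup_of_coprime hUp hgU hgo))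
    -- hence `H = Y`
    have hHtop : H = ⊤ := by
      by_contra hne
      have hnpc := hIH H hne T hN
      have hUH : U ≤ H := le_trans (le_sup_right.trans hT'UA.ge) hT'H
      have hHp : IsPGroup p H := by
        refine PBasic.isPGroup_iff_forall_coprime.2 fun x hx => ?_
        have h1 : (x : Y) ∈ Subgroup.centralizer (U : Set Y) := by
          intro u hu
          have hu' : u ∈ H := hUH hu
          have h2 : (⟨u, hu'⟩ : H) * x * (⟨u, hu'⟩ : H)⁻¹ * x⁻¹ = 1 := by
            refine PBasic.eq_one_of_isPGroup_of_coprime (p := p)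
              (P := U.subgroupOf H) hUp.comap_subtype ?_ ?_
            · rw [Subgroup.mem_subgroupOf]
              simp only [Subgroup.coe_mul, Subgroup.coe_inv, mul_assoc]
              refine U.mul_mem hu ?_
              simpa [mul_assoc] using (Cfsg.pCore_normal p Y).conj_mem u⁻¹ (U.inv_mem hu) (x : Y)
            · refine (PBasic.mem_pResidual_iff hnpc).1 ?_
              exact Subgroup.mul_mem _
                ((PBasic.pResidual_normal_inst p H).conj_mem x (PBasic.mem_pResidual hx) _)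
                (Subgroup.inv_mem _ (PBasic.mem_pResidual hx))
          rw [mul_inv_eq_one, mul_inv_eq_iff_eq_mul] at h2
          exact congrArg Subtype.val h2
        exact Subtype.ext (PBasic.eq_one_of_isPGroup_of_coprime hUp (hC h1)
          (by rwa [Subgroup.orderOf_coe]))
      have hHbp : IsPGroup p Hb := by
        have := hHp.map f
        rwa [hH, Subgroup.map_comap_eq_self_of_surjective hfs] at this
      refine hb1 (hfaith b hb fun r hr => ?_)
      have : R1 ≤ ⊥ := by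
        rw [← PBasic.inf_eq_bot_of_coprime hRcop (hHbp.to_le (le_sup_left : R1 ≤ Hb))]
        exact le_inf hR1R le_rfl
      exact Subgroup.mem_bot.1 (this ⟨r, hr, rfl⟩)
    intro s hs
    refine hHbR s ?_ hs
    obtain ⟨y, rfl⟩ := hfs s
    exact (hHtop.ge (Subgroup.mem_top y) : y ∈ H)
  refine ⟨main, ?_⟩
  have hAne : Ab ≠ ⊥ := by
    rw [hAb, Ne, Subgroup.map_eq_bot_iff, hf, QuotientGroup.ker_mk']
    exact hAU
  refine CyclicPGroup.isCyclic_of_fixedPointFree hp2 hAbp ?_ ?_ (K := R) ?_ ?_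
  · rw [Subgroup.normalizer_eq_top]; exact le_top
  · obtain ⟨k, hk⟩ := IsPGroup.iff_card.1 hAbp
    rw [hk]
    exact hRcop.symm.pow_left k
  · intro hR
    obtain ⟨⟨a, ha⟩, hne⟩ := (Subgroup.ne_bot_iff_exists_ne_one).1 hAne
    refine hne (Subtype.ext (hfaith a ha fun r hr => ?_))
    rw [Subgroup.mem_bot.1 (hR.le hr)]
    exact commutatorElement_one_left a
  · intro a ha ha1 k hk hk1 hak
    have hmem : ∀ r : R, ⁅(r : Y ⧸ U), a⁆ ∈ R := fun r => by
      rw [commutatorElement_def, mul_assoc (r : Y ⧸ U), mul_assoc (r : Y ⧸ U)]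
      exact R.mul_mem r.2 (hRn.conj_mem _ (R.inv_mem r.2) a)
    have hinj : Function.Injective (fun r : R => (⟨⁅(r : Y ⧸ U), a⁆, hmem r⟩ : R)) :=
      Finite.injective_iff_surjective.2 fun s => by
        obtain ⟨r, hr, e⟩ := main a ha ha1 s s.2
        exact ⟨⟨r, hr⟩, Subtype.ext e⟩
    refine hk1 (congrArg Subtype.val (@hinj ⟨k, hk⟩ 1 ?_))
    apply Subtype.ext
    change ⁅k, a⁆ = ⁅(1 : Y ⧸ U), a⁆
    rw [commutatorElement_one_left, commutatorElement_eq_one_iff_mul_comm, hak]

end Cfsg.Agent.JAut
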