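import Cfsg.Agent.Lib.PLocal.JAutLin
import Cfsg.Agent.Lib.PLocal.JAutCount
import Cfsg.Agent.Lib.PLocal.JAutFrob
import Cfsg.Agent.Lib.PLocal.ZJNPC

/-!
The final case of the automizer criterion with `J(S)`, `p ≥ 5`.
-/

set_option autoImplicit false
set_option linter.style.haveILetI false

open scoped commutatorElement Pointwise

namespace Cfsg.Agent.JAut

open Cfsg Cfsg.Agent

universe u

variable {p : ℕ} {Y : Type u} [Group Y] [Finite Y] [hp : Fact p.Prime]

/-- A normal `p`-subgroup of class at most two with a chief factor on top on which some element of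
order prime to `p` acts nontrivially. -/
theorem exists_factor (hC : Subgroup.centralizer (pCore p Y : Set Y) ≤ pCore p Y)
    (hY : ¬ HasNormalPComplement p Y) :
    ∃ B C : Subgroup Y, B.Normal ∧ C.Normal ∧ B ≤ pCore p Y ∧ C ≤ B ∧ ⁅B, pCore p Y⁆ ≤ C ∧
      (∀ b ∈ B, b ^ p ∈ C) ∧ ⁅B, C⁆ = ⊥ ∧ ⁅⁅B, B⁆, pCore p Y⁆ = ⊥ ∧
      ∃ g : Y, (orderOf g).Coprime p ∧ ∃ y ∈ B, y⁻¹ * (g * y * g⁻¹) ∉ C := by
  classical
  set U := pCore p Y with hU
  haveI : U.Normal := Cfsg.pCore_normal p Y
  have hUp : IsPGroup p U := PBasic.pCore_isPGroup p Y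
  set L := pResidual p Y with hL
  haveI hLn : L.Normal := PBasic.pResidual_normal_inst p Y
  have hLU : ¬ L ≤ Subgroup.centralizer (U : Set Y) := by
    intro h
    refine hY (PBasic.hasNormalPComplement_of_isPGroup (PBasic.isPGroup_iff_forall_coprime.2 ?_))
    intro x hx
    exact PBasic.eq_one_of_isPGroup_of_coprime hUp (hC (h (PBasic.mem_pResidual hx))) hx
  obtain ⟨B, ⟨hBn, hBU, hBL⟩, hBmin⟩ := Set.exists_min_image
    {B : Subgroup Y | B.Normal ∧ B ≤ U ∧ ¬ L ≤ Subgroup.centralizer (B : Set Y)}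
    (fun B => Nat.card B) (Set.toFinite _) ⟨U, inferInstance, le_rfl, hLU⟩
  haveI := hBn
  have hsmall : ∀ N : Subgroup Y, N.Normal → N < B → L ≤ Subgroup.centralizer (N : Set Y) := by
    intro N hN hlt
    by_contra h
    have := hBmin N ⟨hN, hlt.le.trans hBU, h⟩
    have hlt' : Nat.card N < Nat.card B :=
      Set.ncard_lt_ncard (SetLike.coe_ssubset_coe.2 hlt) (Set.toFinite _)
    omega
  have hBne : B ≠ ⊥ := fun h => hBL fun l _ x hx => by
    rw [h, SetLike.mem_coe, Subgroup.mem_bot] at hx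
    rw [hx, one_mul, mul_one]
  -- `[B, U] < B`
  set K1 := ⁅B, U⁆ with hK1
  haveI : K1.Normal := Subgroup.commutator_normal B U
  have hK1B : K1 ≤ B := Subgroup.commutator_le_left B U
  set f1 := QuotientGroup.mk' K1 with hf1
  have hne1 : B.map f1 ≠ ⊥ := by
    rw [Ne, Subgroup.map_eq_bot_iff, hf1, QuotientGroup.ker_mk']
    intro h
    refine hBne (le_bot_iff.1 (Fusion.le_of_le_commutator_sup (hUp.isNilpotent) hBU bot_le ?_ ?_))
    · rw [Subgroup.normalizer_eq_top]; exact le_top
    · exact h.trans le_sup_left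
  have hB1c : ∀ u ∈ B.map f1, ∀ v ∈ B.map f1, u * v = v * u := by
    rintro _ ⟨u, hu, rfl⟩ _ ⟨v, hv, rfl⟩
    rw [← commutatorElement_eq_one_iff_mul_comm, ← map_commutatorElement]
    exact (QuotientGroup.eq_one_iff _).2 (Subgroup.commutator_mem_commutator hu (hBU hv))
  let D : Subgroup (Y ⧸ K1) :=
    { carrier := {z | ∃ b ∈ B.map f1, b ^ p = z}
      one_mem' := ⟨1, one_mem _, one_pow p⟩
      mul_mem' := by
        rintro _ _ ⟨u, hu, rfl⟩ ⟨v, hv, rfl⟩
        exact ⟨u * v, mul_mem hu hv, Commute.mul_pow (hB1c u hu v hv) p⟩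
      inv_mem' := by
        rintro _ ⟨u, hu, rfl⟩
        exact ⟨u⁻¹, inv_mem hu, inv_pow u p⟩ }
  haveI hB1n : (B.map f1).Normal := hBn.map f1 (QuotientGroup.mk'_surjective K1)
  have hDn : D.Normal := ⟨by
    rintro _ ⟨u, hu, rfl⟩ g
    exact ⟨g * u * g⁻¹, hB1n.conj_mem u hu g, conj_pow⟩⟩
  set C := D.comap f1 with hCdef
  haveI hCn : C.Normal := hDn.comap f1
  have hDle : D ≤ B.map f1 := by
    rintro _ ⟨u, hu, rfl⟩
    exact pow_mem hu p
  have hCB : C ≤ B := by
    refine (Subgroup.comap_mono hDle).trans ?_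
    rw [Subgroup.comap_map_eq, hf1, QuotientGroup.ker_mk']
    exact sup_le le_rfl hK1B
  have hK1C : K1 ≤ C := fun x hx => by
    rw [hCdef, Subgroup.mem_comap, hf1, QuotientGroup.mk'_apply, (QuotientGroup.eq_one_iff x).2 hx]
    exact one_mem D
  have hpow : ∀ b ∈ B, b ^ p ∈ C := fun b hb => ⟨f1 b, Subgroup.mem_map_of_mem f1 hb, (map_pow f1 b p).symm⟩
  have hClt : C < B := by
    refine lt_of_le_of_ne hCB fun heq => hne1 ?_
    have hsurj : Function.Surjective
        (fun u : B.map f1 => (⟨(u : Y ⧸ K1) ^ p, pow_mem u.2 p⟩ : B.map f1)) := by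
      rintro ⟨_, b, hb, rfl⟩
      obtain ⟨u, hu, e⟩ := (heq.ge hb : b ∈ C)
      exact ⟨⟨u, hu⟩, Subtype.ext e⟩
    have hinj := Finite.injective_iff_surjective.2 hsurj
    have hB1p : IsPGroup p (B.map f1) := (hUp.to_le hBU).map f1
    by_contra hne
    obtain ⟨k, hk⟩ := IsPGroup.iff_card.1 hB1p
    haveI : Nontrivial (B.map f1) := (Subgroup.nontrivial_iff_ne_bot _).2 hne
    have hk0 : k ≠ 0 := fun h0 => absurd (by rw [hk, h0, pow_zero] : Nat.card (B.map f1) = 1)
      (Finite.one_lt_card (α := B.map f1)).ne'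
    obtain ⟨u, hu⟩ := exists_prime_orderOf_dvd_card' p (G := B.map f1) (hk ▸ dvd_pow_self p hk0)
    have h1 : u = 1 := hinj (Subtype.ext (by
      have := congrArg Subtype.val (hu ▸ pow_orderOf_eq_one u : u ^ p = 1)
      rw [SubmonoidClass.coe_pow] at this
      simpa using this))
    rw [h1, orderOf_one] at hu
    exact hp.out.one_lt.ne hu
  have hLC : L ≤ Subgroup.centralizer (C : Set Y) := hsmall C hCn hClt
  have hgen : ∀ g : Y, (orderOf g).Coprime p → g ∈ L := fun g hg => PBasic.mem_pResidual hg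
  -- `[B, L] = B`
  have hBLeq : ⁅B, L⁆ = B := by
    by_contra hne
    haveI : (⁅B, L⁆ : Subgroup Y).Normal := Subgroup.commutator_normal B L
    have hle : ⁅B, L⁆ ≤ B := Subgroup.commutator_le_left B L
    have hLN := hsmall _ inferInstance (lt_of_le_of_ne hle hne)
    refine hBL ?_
    rw [hL, pResidual, Subgroup.closure_le]
    intro g hg
    refine ZJNPC.mem_centralizer_of_factor (hUp.to_le hBU) hle hg (hLN (hgen g hg)) fun y hy => ?_
    have := Subgroup.commutator_mem_commutator (B.inv_mem hy) (hgen g hg) (H₁ := B) (H₂ := L)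
    rwa [show ⁅y⁻¹, g⁆ = y⁻¹ * (g * y * g⁻¹) by rw [commutatorElement_def]; group] at this
  have hBC : ⁅B, C⁆ = ⊥ := by
    have h1 : ⁅⁅L, C⁆, B⁆ = ⊥ := by
      rw [(Subgroup.commutator_eq_bot_iff_le_centralizer).2 hLC, Subgroup.commutator_bot_left]
    have h2 : ⁅⁅C, B⁆, L⁆ = ⊥ := by
      rw [eq_bot_iff]
      refine (Subgroup.commutator_mono (Subgroup.commutator_le_left C B) le_rfl).trans (le_of_eq ?_)
      rw [Subgroup.commutator_comm, (Subgroup.commutator_eq_bot_iff_le_centralizer).2 hLC]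
    have := Subgroup.commutator_commutator_eq_bot_of_rotate h1 h2
    rwa [hBLeq] at this
  refine ⟨B, C, hBn, hCn, hBU, hCB, hK1C, hpow, hBC, ?_, ?_⟩
  · have hCB' : ⁅C, B⁆ = ⊥ := by rw [Subgroup.commutator_comm, hBC]
    refine Subgroup.commutator_commutator_eq_bot_of_rotate ?_ ?_
    · rw [eq_bot_iff, ← hCB']
      exact Subgroup.commutator_mono hK1C le_rfl
    · rw [eq_bot_iff, ← hCB']
      refine Subgroup.commutator_mono ?_ le_rfl
      rw [Subgroup.commutator_comm]
      exact hK1C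
  · by_contra hall
    push Not at hall
    refine hBL ?_
    rw [hL, pResidual, Subgroup.closure_le]
    intro g hg
    exact ZJNPC.mem_centralizer_of_factor (hUp.to_le hBU) hCB hg (hLC (hgen g hg)) (hall g hg)

theorem three_mul_le {p : ℕ} (hp5 : 5 ≤ p) : ∀ k, 1 ≤ k → 3 * k + 2 ≤ p ^ k := by
  intro k hk
  induction k, hk using Nat.le_induction with
  | base => simpa using hp5
  | succ k hk ih =>
    rw [pow_succ]
    nlinarith [Nat.mul_le_mul ih hp5]

/-- The final case. -/
theorem final_case (hp5 : 5 ≤ p) (hIH : InSubgroups p Y)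
    (hC : Subgroup.centralizer (pCore p Y : Set Y) ≤ pCore p Y)
    (hbar : HasNormalPComplement p (Y ⧸ pCore p Y))
    (hK : ∀ x ∈ pResidual p (Y ⧸ pCore p Y), ∀ y ∈ pResidual p (Y ⧸ pCore p Y), x * y = y * x)
    (hY : ¬ HasNormalPComplement p Y)
    (S : Sylow p Y) {A : Subgroup Y} (hA : ZJ.IsMaxIn p False (S : Subgroup Y) A)
    (hAU : ¬ A ≤ pCore p Y) : False := by
  classical
  have hp2 : p ≠ 2 := by omega
  obtain ⟨hsurj, hcyc⟩ := frobenius_image hIH hC hbar hK hp2 S hA hAU
  obtain ⟨B, C, hBn, hCn, hBU, hCB, hBUC, hBp, hBC, hZU, g0, hg0, y0, hy0, hy0C⟩ :=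
    exists_factor hC hY
  haveI := hBn
  haveI := hCn
  set U := pCore p Y with hU
  haveI : U.Normal := Cfsg.pCore_normal p Y
  have hUp : IsPGroup p U := PBasic.pCore_isPGroup p Y
  have hUS : U ≤ (S : Subgroup Y) := PBasic.pCore_le_sylow S
  set f := QuotientGroup.mk' U with hf
  have hfs : Function.Surjective f := QuotientGroup.mk'_surjective U
  set Ab := A.map f with hAb
  obtain ⟨⟨_, a, ha, rfl⟩, hgen⟩ := hcyc.exists_generator
  set ab := f a with hab
  have habA : ab ∈ Ab := Subgroup.mem_map_of_mem f ha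
  have hpows : ∀ c ∈ Ab, ∃ i < orderOf ab, ab ^ i = c := by
    intro c hc
    obtain ⟨i, hi⟩ := Subgroup.mem_zpowers_iff.1 (hgen ⟨c, hc⟩)
    have hi' : ab ^ i = c := congrArg Subtype.val hi
    obtain ⟨m, hm⟩ := (isOfFinOrder_of_finite ab).mem_powers_iff_mem_zpowers.2
      (Subgroup.mem_zpowers_iff.2 ⟨i, hi'⟩)
    exact ⟨m % orderOf ab, Nat.mod_lt _ (orderOf_pos ab), by rw [pow_mod_orderOf]; exact hm⟩
  obtain ⟨k, hk⟩ : ∃ k, orderOf ab = p ^ k := by
    obtain ⟨k, hk⟩ := IsPGroup.iff_orderOf.1 ((S.isPGroup'.to_le hA.1).map f) ⟨ab, habA⟩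
    exact ⟨k, by rwa [Subgroup.orderOf_mk] at hk⟩
  have hk1 : 1 ≤ k := by
    by_contra h0
    rw [show k = 0 by omega, pow_zero, orderOf_eq_one_iff] at hk
    refine hAU fun x hx => (QuotientGroup.eq_one_iff x).1 ?_
    obtain ⟨i, -, hi⟩ := hpows _ (Subgroup.mem_map_of_mem f hx)
    rw [hk, one_pow] at hi
    exact hi.symm
  set n := p ^ k with hn
  have hcardAb : Nat.card Ab = n := by
    rw [← hk, ← Nat.card_zpowers]
    congr 1
    exact congrArg (fun H : Subgroup (Y ⧸ U) => (↥H)) (le_antisymm (fun c hc => by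
      obtain ⟨i, -, hi⟩ := hpows c hc
      exact hi ▸ pow_mem (Subgroup.mem_zpowers ab) i) (Subgroup.zpowers_le.2 habA))
  -- the module `B / C`
  set fC := QuotientGroup.mk' C with hfC
  set Wg := B.map fC with hWg
  haveI : Wg.Normal := hBn.map fC (QuotientGroup.mk'_surjective C)
  letI instW : CommGroup Wg := { (inferInstance : Group Wg) with
    mul_comm := by
      rintro ⟨_, u, hu, rfl⟩ ⟨_, v, hv, rfl⟩
      apply Subtype.ext
      change fC u * fC v = fC v * fC u
      rw [← commutatorElement_eq_one_iff_mul_comm, ← map_commutatorElement]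
      exact (QuotientGroup.eq_one_iff _).2 (hBUC (Subgroup.commutator_mem_commutator hu (hBU hv))) }
  set iw : ∀ b, b ∈ B → Additive Wg :=
    fun b hb => Additive.ofMul ⟨fC b, Subgroup.mem_map_of_mem fC hb⟩ with hiw
  have hiw_surj : ∀ w : Additive Wg, ∃ b, ∃ hb : b ∈ B, iw b hb = w := fun w => by
    obtain ⟨b, hb, e⟩ := (Additive.toMul w).2
    exact ⟨b, hb, congrArg Additive.ofMul (Subtype.ext e)⟩
  have hiw_mul : ∀ b hb b' hb', iw (b * b') (B.mul_mem hb hb') = iw b hb + iw b' hb' := by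
    intro b hb b' hb'
    exact congrArg Additive.ofMul (Subtype.ext (map_mul fC b b'))
  have hiw_congr : ∀ b hb b' hb', b = b' → iw b hb = iw b' hb' := by
    rintro b hb b' hb' rfl; rfl
  have hiw_zero : iw 1 B.one_mem = 0 := congrArg Additive.ofMul (Subtype.ext (map_one fC))
  have hWexp : ∀ w : Additive Wg, p • w = 0 := by
    intro w
    obtain ⟨b, hb, rfl⟩ := hiw_surj w
    refine congrArg Additive.ofMul (Subtype.ext ?_ : (⟨fC b, _⟩ : Wg) ^ p = 1)
    rw [SubmonoidClass.coe_pow]
    change fC b ^ p = 1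
    rw [← map_pow]
    exact (QuotientGroup.eq_one_iff _).2 (hBp b hb)
  set ρY : Y →* AddMonoid.End (Additive Wg) :=
    (ZJNPC.toEnd Wg).comp ((MulAut.conjNormal (H := Wg)).comp fC) with hρY
  have hρY_apply : ∀ (g : Y) b hb, ρY g (iw b hb) = iw (g * b * g⁻¹) (hBn.conj_mem b hb g) := by
    intro g b hb
    refine congrArg Additive.ofMul (Subtype.ext ?_)
    change fC g * fC b * (fC g)⁻¹ = fC (g * b * g⁻¹)
    rw [map_mul, map_mul, map_inv]
  have hker : U ≤ ρY.ker := by
    intro u hu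
    refine DFunLike.ext _ _ fun w => ?_
    obtain ⟨b, hb, rfl⟩ := hiw_surj w
    rw [hρY_apply _ b hb]
    refine congrArg Additive.ofMul (Subtype.ext ?_)
    change fC (u * b * u⁻¹) = fC b
    rw [map_mul, map_mul, map_inv]
    have h := (QuotientGroup.eq_one_iff _).2 (hBUC (Subgroup.commutator_mem_commutator hb hu))
    rw [← QuotientGroup.mk'_apply, ← hfC, map_commutatorElement,
      commutatorElement_eq_one_iff_mul_comm] at h
    rw [← h, mul_inv_cancel_right]
  set ρ : Y ⧸ U →* AddMonoid.End (Additive Wg) := QuotientGroup.lift U ρY hker with hρ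
  have hρf : ∀ g, ρ (f g) = ρY g := fun g => rfl
  set σ := ρ ab with hσ
  have hσn : σ ^ n = 1 := by rw [hσ, ← map_pow, ← hk, pow_orderOf_eq_one, map_one]
  have hcharW : (p : AddMonoid.End (Additive Wg)) = 0 := by
    refine DFunLike.ext _ _ fun w => ?_
    rw [AddMonoid.End.natCast_apply]
    exact hWexp w
  have hdn : (σ - 1) ^ n = 0 := by
    obtain ⟨r, hr⟩ := (Commute.one_right (σ - 1)).exists_add_pow_prime_pow_eq hp.out k
    rw [sub_add_cancel, one_pow, ← hn, hσn, hcharW] at hr
    simpa using hr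
  -- a regular vector
  have hex : (σ - 1) ^ (n - 1) ≠ 0 := by
    intro h0
    set R := pResidual p (Y ⧸ U) with hR
    haveI hRn : R.Normal := PBasic.pResidual_normal_inst p (Y ⧸ U)
    letI instR : CommGroup R := { (inferInstance : Group R) with
      mul_comm := fun r s => Subtype.ext (hK r r.2 s s.2) }
    have hnat : (n - 1) ≤ p ^ k := Nat.sub_le n 1
    have hmul : ∀ s : R, (ρ.comp R.subtype) s = 1 := fun s =>
      eq_one_of_sub_one_pow (l := k) hcharW hnat
        (rho_sub_one_pow σ (ρ.comp R.subtype)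
          (fun i r => ⟨ab ^ i * (r : Y ⧸ U) * (ab ^ i)⁻¹, hRn.conj_mem _ r.2 _⟩)
          (fun i r => by
            simp only [MonoidHom.comp_apply, Subgroup.subtype_apply, hσ, ← map_pow, ← map_mul,
              inv_mul_cancel_right])
          (fun i hi s' => by
            obtain ⟨r, hr, e⟩ := hsurj (ab ^ (i + 1)) (pow_mem habA _)
              (pow_ne_one_of_lt_orderOf (Nat.succ_ne_zero i) (by rw [hk]; omega)) s' s'.2
            refine ⟨⟨r, hr⟩, Subtype.ext ?_⟩
            rw [← e, commutatorElement_def]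
            change r * (ab ^ (i + 1) * r * (ab ^ (i + 1))⁻¹)⁻¹ = _
            group)
          h0 s)
        (PBasic.hasNormalPComplement_iff_pResidual.1 hbar)
        (by rw [← map_pow, pow_card_eq_one', map_one])
    refine hy0C ?_
    have hg1 : f g0 ∈ R :=
      PBasic.mem_pResidual (Nat.Coprime.coprime_dvd_left (orderOf_map_dvd f g0) hg0)
    have h1 : ρY g0 = 1 := by rw [← hρf]; exact hmul ⟨f g0, hg1⟩
    have h2 := hρY_apply g0 y0 hy0
    rw [h1] at h2
    have h3 : fC y0 = fC (g0 * y0 * g0⁻¹) := congrArg (fun w => ((Additive.toMul w : Wg) : Y ⧸ C)) h2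
    exact QuotientGroup.eq.1 h3
  obtain ⟨w, hw⟩ : ∃ w, ((σ - 1) ^ (n - 1)) w ≠ 0 := by
    by_contra h
    push Not at h
    exact hex (DFunLike.ext _ _ h)
  set δ : AddMonoid.End (Additive Wg) := σ - 1 with hδ
  have hσd : ∀ v, σ v = v + δ v := fun v => by
    change σ v = v + (σ v - v)
    abel
  have hit : ∀ i v, (⇑δ)^[i] v = (δ ^ i) v := fun i v => by rw [AddMonoid.End.coe_pow]
  have hbig : ∀ i, n ≤ i → (δ ^ i) w = 0 := fun i hi => by
    rw [pow_eq_zero_of_le hi hdn]; rfl
  -- the commutator form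
  set Zs := ⁅B, B⁆ with hZs
  haveI : Zs.Normal := Subgroup.commutator_normal B B
  have hZC : Zs ≤ C := (Subgroup.commutator_mono le_rfl hBU).trans hBUC
  have hCc : ∀ c ∈ C, ∀ b ∈ B, c * b = b * c := fun c hc b hb =>
    (commutatorElement_eq_one_iff_mul_comm.1 (by
      rw [← Subgroup.mem_bot, ← hBC]; exact Subgroup.commutator_mem_commutator hb hc)).symm
  have hZc : ∀ u ∈ Zs, ∀ v ∈ Zs, u * v = v * u := fun u hu v hv => hCc u (hZC hu) v (hCB (hZC hv))
  letI instZ : CommGroup Zs := { (inferInstance : Group Zs) with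
    mul_comm := fun u v => Subtype.ext (hZc u u.2 v v.2) }
  have hcomm_congr : ∀ b c v : Y, b ∈ B → c ∈ C → v ∈ B → ⁅b * c, v⁆ = ⁅b, v⁆ := by
    intro b c v hb hc hv
    simp only [commutatorElement_def]
    calc b * c * v * (b * c)⁻¹ * v⁻¹ = b * (c * v) * c⁻¹ * b⁻¹ * v⁻¹ := by group
      _ = b * (v * c) * c⁻¹ * b⁻¹ * v⁻¹ := by rw [hCc c hc v hv]
      _ = b * v * b⁻¹ * v⁻¹ := by group
  choose rep hrepB hrep using hiw_surj
  let F : Additive Wg → Additive Wg → Additive Zs := fun u v =>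
    Additive.ofMul ⟨⁅rep u, rep v⁆, Subgroup.commutator_mem_commutator (hrepB u) (hrepB v)⟩
  have hrepC : ∀ b hb, b⁻¹ * rep (iw b hb) ∈ C := by
    intro b hb
    have h := hrep (iw b hb)
    have h' : fC (rep (iw b hb)) = fC b := congrArg (fun w => ((Additive.toMul w : Wg) : Y ⧸ C)) h
    exact QuotientGroup.eq.1 h'.symm
  have hF : ∀ b hb b' hb', F (iw b hb) (iw b' hb') =
      Additive.ofMul ⟨⁅b, b'⁆, Subgroup.commutator_mem_commutator hb hb'⟩ := by
    intro b hb b' hb'
    refine congrArg Additive.ofMul (Subtype.ext ?_)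
    change ⁅rep (iw b hb), rep (iw b' hb')⁆ = ⁅b, b'⁆
    have e1 : rep (iw b hb) = b * (b⁻¹ * rep (iw b hb)) := by group
    have e2 : rep (iw b' hb') = b' * (b'⁻¹ * rep (iw b' hb')) := by group
    rw [e1, hcomm_congr b _ _ hb (hrepC b hb) (hrepB _), e2, ← commutatorElement_inv,
      hcomm_congr b' _ b hb' (hrepC b' hb') hb, commutatorElement_inv]
  have hadd : ∀ u v x, F (u + v) x = F u x + F v x := by
    intro u v x
    rw [← hrep u, ← hrep v, ← hrep x, ← hiw_mul _ (hrepB u) _ (hrepB v),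
      hF _ (B.mul_mem (hrepB u) (hrepB v)) _ (hrepB x), hF _ (hrepB u) _ (hrepB x), hF _ (hrepB v) _ (hrepB x)]
    refine congrArg Additive.ofMul (Subtype.ext ?_)
    change ⁅rep u * rep v, rep x⁆ = ⁅rep u, rep x⁆ * ⁅rep v, rep x⁆
    have hm : ⁅rep v, rep x⁆ ∈ C :=
      hZC (Subgroup.commutator_mem_commutator (hrepB v) (hrepB x))
    rw [show ⁅rep u * rep v, rep x⁆ = rep u * ⁅rep v, rep x⁆ * (rep u)⁻¹ * ⁅rep u, rep x⁆ by
      simp only [commutatorElement_def]; group, ← hCc _ hm _ (hrepB u), mul_inv_cancel_right]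
    exact hCc _ hm _ (hCB (hZC (Subgroup.commutator_mem_commutator (hrepB u) (hrepB x))))
  have hanti : ∀ u v, F v u = -F u v := by
    intro u v
    exact congrArg Additive.ofMul (Subtype.ext (commutatorElement_inv (rep u) (rep v)).symm)
  have hadd' : ∀ u v x, F x (u + v) = F x u + F x v := fun u v x => by
    rw [hanti (u + v) x, hadd, hanti u x, hanti v x]; abel
  have hl0 : ∀ v, F 0 v = 0 := fun v => by have := hadd 0 0 v; simpa using this
  have hr0 : ∀ u, F u 0 = 0 := fun u => by rw [hanti 0 u, hl0, neg_zero]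
  have halt : ∀ u, F u u = 0 := fun u =>
    congrArg Additive.ofMul (Subtype.ext (commutatorElement_self (rep u)))
  have hZexp : ∀ z : Additive Zs, p • z = 0 := by
    have key : ∀ z ∈ Zs, z ^ p = 1 := by
      intro z hz
      induction hz using Subgroup.closure_induction with
      | mem z hz =>
        obtain ⟨b, hb, b', hb', rfl⟩ := hz
        have h := hadd
        have h1 : F (p • iw b hb) (iw b' hb') = p • F (iw b hb) (iw b' hb') :=
          map_nsmul (AddMonoidHom.mk' (fun u => F u (iw b' hb')) (fun u v => hadd u v _)) p _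
        rw [hWexp, hl0, hF b hb b' hb'] at h1
        exact (congrArg (fun z => ((Additive.toMul z : Zs) : Y)) h1).symm
      | one => exact one_pow p
      | mul u v hu hv ihu ihv => rw [Commute.mul_pow (hZc u hu v hv), ihu, ihv, one_mul]
      | inv u _ ihu => rw [inv_pow, ihu, inv_one]
    intro z
    exact congrArg Additive.ofMul (Subtype.ext (key _ (Additive.toMul z).2) :
      (Additive.toMul z : Zs) ^ p = 1)
  -- the operator on `Zs`
  set τ : AddMonoid.End (Additive Zs) := ZJNPC.toEnd Zs (MulAut.conjNormal (H := Zs) a) with hτ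
  have hτ_apply : ∀ z : Additive Zs,
      ((Additive.toMul (τ z) : Zs) : Y) = a * ((Additive.toMul z : Zs) : Y) * a⁻¹ :=
    fun z => MulAut.conjNormal_apply a (Additive.toMul z : Zs)
  have hFσ : ∀ u v, τ (F u v) = F (σ u) (σ v) := by
    intro u v
    have e : ∀ u, σ u = iw (a * rep u * a⁻¹) (hBn.conj_mem _ (hrepB u) a) := fun u => by
      conv_lhs => rw [← hrep u]
      rw [hσ, hab, hρf, hρY_apply _ _ (hrepB u)]
    rw [e u, e v, hF _ (hBn.conj_mem _ (hrepB u) a) _ (hBn.conj_mem _ (hrepB v) a)]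
    refine congrArg Additive.ofMul (Subtype.ext ?_)
    refine (hτ_apply _).trans ?_
    change a * ⁅rep u, rep v⁆ * a⁻¹ = _
    rw [← MulAut.conj_apply, map_commutatorElement, MulAut.conj_apply, MulAut.conj_apply]
  set ε : AddMonoid.End (Additive Zs) := τ - 1 with hε
  have hεF : ∀ u v, ε (F u v) = F (δ u) v + F u (δ v) + F (δ u) (δ v) := by
    intro u v
    change τ (F u v) - F u v = _
    rw [hFσ, hσd u, hσd v, hadd, hadd', hadd']
    abel
  have hUZ : ∀ u ∈ U, ∀ z ∈ Zs, u * z = z * u := fun u hu z hz =>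
    (commutatorElement_eq_one_iff_mul_comm.1 (by
      rw [← Subgroup.mem_bot, ← hZU]; exact Subgroup.commutator_mem_commutator hz hu)).symm
  have han : a ^ n ∈ U := by
    rw [← QuotientGroup.eq_one_iff, ← QuotientGroup.mk'_apply, map_pow, ← hf, ← hab, ← hk,
      pow_orderOf_eq_one]
  have hεn : ε ^ n = 0 := by
    have hτn : τ ^ n = 1 := by
      rw [hτ, ← map_pow, ← map_pow]
      have : MulAut.conjNormal (H := Zs) (a ^ n) = 1 := by
        refine MulEquiv.ext fun z => Subtype.ext ?_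
        rw [MulAut.conjNormal_apply, MulAut.one_apply, hUZ _ han _ z.2, mul_inv_cancel_right]
      rw [this, map_one]
    have hchar : (p : AddMonoid.End (Additive Zs)) = 0 := by
      refine DFunLike.ext _ _ fun z => ?_
      rw [AddMonoid.End.natCast_apply]
      exact hZexp z
    obtain ⟨r, hr⟩ := (Commute.one_right ε).exists_add_pow_prime_pow_eq hp.out k
    rw [hε, sub_add_cancel, one_pow, ← hn, hτn, hchar] at hr
    rw [hε]
    simpa using hr
  -- `E Z` is abelian, so the operator has small degree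
  set E := A ⊓ U with hE
  have hεk : ε ^ (k + 1) = 0 := by
    let εh : Additive Zs →+ Additive Zs := ε
    have hbound : Nat.card εh.range ≤ n := by
      have h1 : Nat.card A = n * Nat.card E := by
        have h := Subgroup.card_mul_index ((f.domRestrict A).ker)
        rw [Subgroup.index_ker, MonoidHom.domRestrict_range, hcardAb] at h
        rw [← h, mul_comm]
        congr 1
        rw [MonoidHom.ker_domRestrict, hf, QuotientGroup.ker_mk', hE, ← Subgroup.inf_subgroupOf_left,
          Nat.card_congr (Subgroup.subgroupOfEquivOfLe inf_le_left).toEquiv]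
      have hEZc : IsMulCommutative (Zs ⊔ E : Subgroup Y) := by
        have : IsMulCommutative (Subgroup.closure ((Zs : Set Y) ∪ (E : Set Y))) := by
          refine Subgroup.isMulCommutative_closure ?_
          rintro u (hu | hu) v (hv | hv)
          · exact hZc u hu v hv
          · exact (hUZ v (Subgroup.mem_inf.1 hv).2 u hu).symm
          · exact hUZ u (Subgroup.mem_inf.1 hu).2 v hv
          · exact hA.2.1.comm (Subgroup.mem_inf.1 hu).1 (Subgroup.mem_inf.1 hv).1
        rwa [Subgroup.closure_union, Subgroup.closure_eq, Subgroup.closure_eq] at this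
      have h2 : Nat.card (Zs ⊔ E : Subgroup Y) ≤ Nat.card A :=
        hA.2.2 _ (sup_le ((hZC.trans hCB).trans (hBU.trans hUS)) (inf_le_left.trans hA.1))
          ⟨hEZc, False.elim⟩
      have h3 := SolvBasic.card_sup_mul_card_inf (N := Zs) (H := E) (by
        rw [Subgroup.normalizer_eq_top]; exact le_top)
      have h4 : Nat.card Zs ≤ n * Nat.card (Zs ⊓ E : Subgroup Y) := by
        refine Nat.le_of_mul_le_mul_right ?_ (Nat.card_pos (α := E))
        rw [← h3, mul_right_comm, ← h1]
        exact Nat.mul_le_mul_right _ h2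
      have h5 : Nat.card (Zs ⊓ E : Subgroup Y) ≤ Nat.card εh.ker := by
        refine Nat.card_le_card_of_injective (fun x : (Zs ⊓ E : Subgroup Y) =>
          (⟨Additive.ofMul ⟨(x : Y), (Subgroup.mem_inf.1 x.2).1⟩, ?_⟩ : εh.ker)) ?_
        · rw [AddMonoidHom.mem_ker]
          change τ _ - _ = 0
          rw [sub_eq_zero]
          refine congrArg Additive.ofMul (Subtype.ext ((hτ_apply _).trans ?_))
          change a * (x : Y) * a⁻¹ = x
          rw [hA.2.1.comm ha (Subgroup.mem_inf.1 (Subgroup.mem_inf.1 x.2).2).1, mul_inv_cancel_right]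
        · intro x x' h
          exact Subtype.ext (congrArg (fun z : εh.ker => ((Additive.toMul (z : Additive Zs) : Zs) : Y)) h)
      have h6 := AddSubgroup.card_mul_index εh.ker
      rw [AddSubgroup.index_ker] at h6
      refine Nat.le_of_mul_le_mul_left ?_ (Nat.card_pos (α := εh.ker))
      rw [h6]
      change Nat.card Zs ≤ _
      rw [mul_comm]
      exact h4.trans (Nat.mul_le_mul_left _ h5)
    haveI : Module (ZMod p) (Additive Zs) := AddCommGroup.zmodModule hZexp
    by_contra hne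
    obtain ⟨z, hz⟩ : ∃ z, (ε ^ (k + 1)) z ≠ 0 := by
      by_contra h
      push Not at h
      exact hne (DFunLike.ext _ _ h)
    -- the top degree of `z`
    obtain ⟨top, htop1, htop2, htop3⟩ : ∃ top, k + 1 ≤ top ∧ (ε ^ top) z ≠ 0 ∧
        ∀ i, top < i → (ε ^ i) z = 0 := by
      have hsmall : ∀ i, n ≤ i → (ε ^ i) z = 0 := fun i hi => by
        rw [pow_eq_zero_of_le hi hεn]; rfl
      obtain ⟨top, ht, hmax⟩ := Finset.exists_max_image
        ((Finset.range n).filter fun i => (ε ^ i) z ≠ 0) id ⟨k + 1, by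
          simp only [Finset.mem_filter, Finset.mem_range]
          refine ⟨?_, hz⟩
          by_contra h
          exact hz (hsmall _ (by omega))⟩
      simp only [Finset.mem_filter, Finset.mem_range, id] at ht hmax
      refine ⟨top, hmax _ ⟨?_, hz⟩, ht.2, fun i hi => ?_⟩
      · by_contra h
        exact hz (hsmall _ (by omega))
      · by_contra h
        rcases le_or_gt n i with h' | h'
        · exact h (hsmall i h')
        · have := hmax i ⟨h', h⟩
          omega
    let Φ : (Fin (k + 1) → ZMod p) → εh.range := fun c =>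
      ⟨εh (∑ i : Fin (k + 1), c i • (⇑εh)^[(i : ℕ)] z), _, rfl⟩
    have hΦ : Function.Injective Φ := by
      intro c c' h
      have h' : εh (∑ i : Fin (k + 1), c i • (⇑εh)^[(i : ℕ)] z) =
          εh (∑ i : Fin (k + 1), c' i • (⇑εh)^[(i : ℕ)] z) := congrArg Subtype.val h
      simp only [map_sum, ZMod.map_smul εh, ← Function.iterate_succ_apply' (f := ⇑εh)] at h'
      refine sub_eq_zero.1 (indep εh z (top := top) (j := 1) (by omega) ?_ ?_ (c - c') ?_)
      · exact htop2
      · exact htop3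
      · simp only [Pi.sub_apply, sub_smul, Finset.sum_sub_distrib]
        rw [sub_eq_zero]
        simpa only [Nat.succ_eq_add_one, add_comm 1] using h'
    have hcard := Nat.card_le_card_of_injective Φ hΦ
    rw [Nat.card_fun, Nat.card_zmod, Nat.card_fin] at hcard
    have h7 := Nat.pow_lt_pow_right hp.out.one_lt (Nat.lt_succ_self k)
    simp only [Nat.succ_eq_add_one, ← hn] at h7
    omega
  -- the element and the count
  have h3k : 3 * k + 2 ≤ n := three_mul_le hp5 k hk1
  obtain ⟨h, hodd⟩ : ∃ h, n = 2 * h + 1 := (hp.out.odd_of_ne_two hp2).pow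
  have hvanish : ∀ u v, n + k ≤ u + v + 1 → F ((δ ^ u) w) ((δ ^ v) w) = 0 := by
    intro u v huv
    have := form_vanish δ ε F hl0 hr0 halt hεF w (h := h) (k := k)
      (fun i hi => (hit i w).trans (hbig i (by omega))) hεk u v (by omega)
    exact (congrArg₂ F (hit u w) (hit v w)).symm.trans this
  set j := n - (k + 2) with hj
  set sp : AddSubgroup (Additive Wg) := AddSubgroup.closure (Set.range fun i : Fin (k + 2) => (δ ^ (j + i)) w) with hsp
  have hiso : ∀ u : Additive Wg, u ∈ sp → ∀ v : Additive Wg, v ∈ sp → F u v = 0 := by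
    have h1 : ∀ i : Fin (k + 2), ∀ v : Additive Wg, v ∈ sp → F ((δ ^ (j + i)) w) v = 0 := by
      intro i v hv
      induction hv using AddSubgroup.closure_induction with
      | mem v hv =>
        obtain ⟨i', rfl⟩ := hv
        by_cases hii : i = i'
        · rw [hii]; exact halt _
        · have : (i : ℕ) ≠ i' := fun e => hii (Fin.ext e)
          exact hvanish _ _ (by omega)
      | zero => exact hr0 _
      | add u v _ _ ihu ihv => rw [hadd', ihu, ihv, add_zero]
      | neg v _ ihv =>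
        have := hadd' v (-v) ((δ ^ (j + i)) w)
        rw [add_neg_cancel, hr0, ihv, zero_add] at this
        exact this.symm
    intro u hu
    induction hu using AddSubgroup.closure_induction with
    | mem u hu => obtain ⟨i, rfl⟩ := hu; exact h1 i
    | zero => exact fun v _ => hl0 _
    | add u u' _ _ ihu ihu' => exact fun v hv => by rw [hadd, ihu v hv, ihu' v hv, add_zero]
    | neg u _ ihu =>
      intro v hv
      have := hadd u (-u) v
      rw [add_neg_cancel, hl0, ihu v hv, zero_add] at this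
      exact this.symm
  let V : Subgroup Y :=
    { carrier := {b | ∃ hb : b ∈ B, iw b hb ∈ sp}
      one_mem' := ⟨B.one_mem, by rw [hiw_zero]; exact sp.zero_mem⟩
      mul_mem' := by
        rintro b b' ⟨hb, h⟩ ⟨hb', h'⟩
        exact ⟨B.mul_mem hb hb', by rw [hiw_mul b hb b' hb']; exact sp.add_mem h h'⟩
      inv_mem' := by
        rintro b ⟨hb, h⟩
        refine ⟨B.inv_mem hb, ?_⟩
        have e : iw b⁻¹ (B.inv_mem hb) = -iw b hb :=
          congrArg Additive.ofMul (Subtype.ext (map_inv fC b))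
        rw [e]
        exact sp.neg_mem h }
  have hVc : ∀ u ∈ V, ∀ v ∈ V, u * v = v * u := by
    rintro u ⟨hu, hu'⟩ v ⟨hv, hv'⟩
    have := hiso _ hu' _ hv'
    rw [hF u hu v hv] at this
    exact commutatorElement_eq_one_iff_mul_comm.1 (congrArg (fun z => ((Additive.toMul z : Zs) : Y)) this)
  obtain ⟨x, hx, hxw⟩ : ∃ x, ∃ hx : x ∈ B, iw x hx = (δ ^ (j - 1)) w :=
    ⟨rep _, hrepB _, hrep _⟩
  have hj1 : 1 ≤ j := by omega
  have hsp_mem : ∀ i, j ≤ i → (δ ^ i) w ∈ sp := by
    intro i hi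
    rcases le_or_gt n i with h | h
    · rw [hbig i h]; exact sp.zero_mem
    · exact AddSubgroup.subset_closure ⟨⟨i - j, by omega⟩, by simp only []; rw [show j + (i - j) = i by omega]⟩
  -- the images of the commutators
  have hcomA : ∀ c ∈ A, ∃ i < n, ∃ hb : ⁅x, c⁆ ∈ B,
      iw ⁅x, c⁆ hb = (δ ^ (j - 1)) w - (σ ^ i) ((δ ^ (j - 1)) w) := by
    intro c hc
    obtain ⟨i, hi, hic⟩ := hpows _ (Subgroup.mem_map_of_mem f hc)
    have hcx : c * x⁻¹ * c⁻¹ ∈ B := hBn.conj_mem _ (B.inv_mem hx) c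
    have hb : ⁅x, c⁆ ∈ B := by
      rw [show ⁅x, c⁆ = x * (c * x⁻¹ * c⁻¹) by rw [commutatorElement_def]; group]
      exact B.mul_mem hx hcx
    refine ⟨i, hk ▸ hi, hb, ?_⟩
    rw [hiw_congr _ hb _ (B.mul_mem hx hcx) (by rw [commutatorElement_def]; group),
      hiw_mul x hx _ hcx, hxw, sub_eq_add_neg]
    congr 1
    rw [hσ, ← map_pow, hic, hρf, ← hρY_apply c x⁻¹ (B.inv_mem hx), ← map_neg]
    congr 1
    rw [← hxw]
    exact congrArg Additive.ofMul (Subtype.ext (map_inv fC x))
  have hσsp : ∀ i, (δ ^ (j - 1)) w - (σ ^ i) ((δ ^ (j - 1)) w) ∈ sp := by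
    have hmono : ∀ i, ∀ m, j - 1 ≤ m → (σ ^ i) ((δ ^ m) w) - (δ ^ m) w ∈ sp := by
      intro i
      induction i with
      | zero =>
        intro m _
        rw [pow_zero]
        change (δ ^ m) w - (δ ^ m) w ∈ sp
        rw [sub_self]
        exact sp.zero_mem
      | succ i ih =>
        intro m hm
        rw [pow_succ]
        change (σ ^ i) (σ ((δ ^ m) w)) - _ ∈ sp
        have e1 : δ ((δ ^ m) w) = (δ ^ (m + 1)) w := by rw [pow_succ']; rfl
        rw [hσd, map_add, e1, add_sub_right_comm]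
        refine sp.add_mem (ih m hm) ?_
        have := sp.add_mem (ih (m + 1) (by omega)) (hsp_mem (m + 1) (by omega))
        rwa [sub_add_cancel] at this
    intro i
    rw [← neg_sub]
    exact sp.neg_mem (hmono i _ le_rfl)
  have hxV : ∀ c ∈ A, ⁅x, c⁆ ∈ V := fun c hc => by
    obtain ⟨i, -, hb, e⟩ := hcomA c hc
    exact ⟨hb, e ▸ hσsp i⟩
  have hMV : commX x A ≤ V := commX_le hxV
  have hrepl := exists_eq_commutator_mul hA ((hBU.trans hUS) hx) hVc hxV
  -- the image of `[x, A]` is the whole span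
  have hMimg : ∀ u ∈ sp, ∃ m ∈ commX x A, ∃ hb : m ∈ B, iw m hb = u := by
    let Mi : AddSubgroup (Additive Wg) :=
      { carrier := {u | ∃ m ∈ commX x A, ∃ hb : m ∈ B, iw m hb = u}
        zero_mem' := ⟨1, one_mem _, B.one_mem, hiw_zero⟩
        add_mem' := by
          rintro _ _ ⟨m, hm, hb, rfl⟩ ⟨m', hm', hb', rfl⟩
          exact ⟨m * m', mul_mem hm hm', B.mul_mem hb hb', hiw_mul m hb m' hb'⟩
        neg_mem' := by
          rintro _ ⟨m, hm, hb, rfl⟩
          exact ⟨m⁻¹, inv_mem hm, B.inv_mem hb, congrArg Additive.ofMul (Subtype.ext (map_inv fC m))⟩ }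
    have hgen : ∀ i, j ≤ i → (δ ^ i) w ∈ Mi := by
      intro i hi
      induction i, hi using Nat.le_induction with
      | base =>
        obtain ⟨i0, -, hb, e⟩ := hcomA a ha
        have h1 : iw ⁅x, a⁆ hb = -((δ ^ j) w) := by
          have hb2 : ⁅x, a⁆ ∈ B := hb
          have hcx : a * x⁻¹ * a⁻¹ ∈ B := hBn.conj_mem _ (B.inv_mem hx) a
          rw [hiw_congr _ hb _ (B.mul_mem hx hcx) (by rw [commutatorElement_def]; group),
            hiw_mul x hx _ hcx, hxw, ← hρY_apply a x⁻¹ (B.inv_mem hx), ← hρf, ← hab, ← hσ,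
            show iw x⁻¹ (B.inv_mem hx) = -iw x hx from
              congrArg Additive.ofMul (Subtype.ext (map_inv fC x)), hxw, map_neg, hσd,
            show (δ ^ j) w = δ ((δ ^ (j - 1)) w) by
              rw [← Function.comp_apply (f := ⇑δ), ← AddMonoid.End.coe_mul, ← pow_succ',
                show j - 1 + 1 = j by omega]]
          abel
        have := Mi.neg_mem ⟨_, mem_commX ha, hb, h1⟩
        rwa [neg_neg] at this
      | succ i _ ih =>
        obtain ⟨m, hm, hb, e⟩ := ih
        have h1 : σ ((δ ^ i) w) ∈ Mi :=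
          ⟨a * m * a⁻¹, (Subgroup.mem_normalizer_iff.1 (le_normalizer_commX x A ha) m).1 hm,
            hBn.conj_mem m hb a, by rw [← e, hσ, hab, hρf, hρY_apply a m hb]⟩
        have h2 := Mi.sub_mem h1 ⟨m, hm, hb, e⟩
        rw [hσd, add_sub_cancel_left] at h2
        rw [pow_succ']
        exact h2
    intro u hu
    have hle : sp ≤ Mi := by
      rw [hsp, AddSubgroup.closure_le]
      rintro _ ⟨i, rfl⟩
      exact hgen _ (by omega)
    exact hle hu
  let δh : Additive Wg →+ Additive Wg := δ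
  have hcount := count_closure (p := p) hWexp δh w (n := n) (j := j) (l := k + 2)
    (by omega) (by omega)
    (by rw [show (⇑δh)^[n - 1] w = (δ ^ (n - 1)) w from hit _ _]; exact hw)
    (by rw [show (⇑δh)^[n] w = (δ ^ n) w from hit _ _]; exact hbig n le_rfl)
    (fun i => (δ ^ (j - 1)) w - (σ ^ i) ((δ ^ (j - 1)) w)) ?_
  · have h1 : n * p < p ^ (k + 2) := by
      rw [hn, ← pow_succ]
      exact Nat.pow_lt_pow_right hp.out.one_lt (by omega)
    omega
  · intro u hu
    have hfun : (fun i : Fin (k + 2) => (⇑δh)^[j + i] w) =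
        fun i : Fin (k + 2) => (δ ^ (j + i)) w := funext fun i => hit _ _
    rw [hfun] at hu ⊢
    obtain ⟨m, hm, hb, rfl⟩ := hMimg u hu
    obtain ⟨c, hc, d, hd, hdA, e⟩ := hrepl m hm
    obtain ⟨i, hi, hcb, hce⟩ := hcomA c hc
    obtain ⟨hdB, hdsp⟩ := hMV hd
    refine ⟨i, hi, iw d hdB, hdsp, ?_, ?_⟩
    · change σ (iw d hdB) - iw d hdB = 0
      rw [sub_eq_zero, hσ, hab, hρf, hρY_apply a d hdB]
      exact hiw_congr _ (hBn.conj_mem _ hdB a) _ hdB (by rw [hA.2.1.comm ha hdA, mul_inv_cancel_right])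
    · rw [← hce, ← hiw_mul _ hcb _ hdB]
      exact hiw_congr _ hb _ (B.mul_mem hcb hdB) e

end Cfsg.Agent.JAut
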