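import Mathlib.Algebra.Module.ZMod
import Mathlib.Algebra.CharP.Lemmas
import Mathlib.LinearAlgebra.Finsupp.LinearCombination
import Mathlib.FieldTheory.Finite.Basic

/-!
Linear algebra for the automizer criterion with `J(S)`: forms compatible with a nilpotent operator,
regular vectors for a semiregular action, and a count.
-/

set_option autoImplicit false

namespace Cfsg.Agent.JAut

/-- `f (d^u x) (d^v x) = 0` for `u + v + 1 ≥ n + k`, `n = 2h + 1`, if `f` is alternating and compatible
with `1 + d` and `1 + e`, with `e^(k+1) = 0`. -/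
theorem form_vanish {V Z : Type*} [AddCommGroup V] [AddCommGroup Z] (d : V →+ V)
    (e : AddMonoid.End Z) (f : V → V → Z) (hl : ∀ v, f 0 v = 0) (hr : ∀ u, f u 0 = 0)
    (halt : ∀ u, f u u = 0)
    (he : ∀ u v, e (f u v) = f (d u) v + f u (d v) + f (d u) (d v))
    (x : V) {h k : ℕ} (hd : ∀ u, 2 * h + 1 ≤ u → (⇑d)^[u] x = 0) (hek : e ^ (k + 1) = 0) :
    ∀ u v, 2 * h + 1 + k ≤ u + v + 1 → f ((⇑d)^[u] x) ((⇑d)^[v] x) = 0 := by
  set g : ℕ → ℕ → Z := fun u v => f ((⇑d)^[u] x) ((⇑d)^[v] x) with hg
  have hg0 : ∀ u v, 2 * h + 1 ≤ u ∨ 2 * h + 1 ≤ v → g u v = 0 := by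
    rintro u v (hu | hv)
    · simp only [hg, hd u hu, hl]
    · simp only [hg, hd v hv, hr]
  have hge : ∀ u v, e (g u v) = g (u + 1) v + g u (v + 1) + g (u + 1) (v + 1) := fun u v => by
    simp only [hg, Function.iterate_succ_apply', he]
  -- one step of the descent
  have step : ∀ (N : ℕ) (K : AddSubgroup Z), 2 * h + 1 ≤ N →
      (∀ u v, N ≤ u + v + 1 → e (g u v) ∈ K) → ∀ u v, N ≤ u + v → g u v ∈ K := by
    intro N K hN hK u
    induction u with
    | zero =>
      intro v hv
      rw [hg0 0 v (Or.inr (by omega))]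
      exact K.zero_mem
    | succ u ih =>
      intro v hv
      induction hw : (2 * h + 1 - v) using Nat.strong_induction_on generalizing v with
      | _ w iw =>
        rcases le_or_gt (2 * h + 1) v with hbig | hsmall
        · rw [hg0 _ v (Or.inr hbig)]; exact K.zero_mem
        have e1 : g (u + 1) v = e (g u v) - g u (v + 1) - g (u + 1) (v + 1) := by
          rw [hge u v]; abel
        rw [e1]
        exact K.sub_mem (K.sub_mem (hK u v (by omega)) (ih (v + 1) (by omega)))
          (iw _ (by omega) (v + 1) (by omega) rfl)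
  set R : ℕ → AddSubgroup Z := fun m => AddMonoidHom.range (e ^ m : AddMonoid.End Z) with hR
  have hR1 : ∀ z, e z ∈ R 1 := fun z => ⟨z, by rw [pow_one]; rfl⟩
  have hA : ∀ u v, 2 * h + 1 ≤ u + v → g u v ∈ R 1 :=
    step _ (R 1) le_rfl fun u v _ => hR1 _
  have hmid : ∀ j ≤ h, g (h - j) (h + j) ∈ R 1 ∧ g (h + j) (h - j) ∈ R 1 := by
    intro j
    induction j with
    | zero =>
      intro _
      have h0 : g h h = 0 := halt _
      simp only [Nat.sub_zero, Nat.add_zero, h0, zero_mem, and_self]
    | succ j ih =>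
      intro hj
      obtain ⟨i1, i2⟩ := ih (by omega)
      have ea : h - (j + 1) + 1 = h - j := by omega
      refine ⟨?_, ?_⟩
      · have e1 := hge (h - (j + 1)) (h + j)
        rw [ea] at e1
        have e2 : g (h - (j + 1)) (h + (j + 1)) =
            e (g (h - (j + 1)) (h + j)) - g (h - j) (h + j) - g (h - j) (h + j + 1) := by
          rw [e1, show h + (j + 1) = h + j + 1 by omega]; abel
        rw [e2]
        exact (R 1).sub_mem ((R 1).sub_mem (hR1 _) i1) (hA _ _ (by omega))
      · have e1 := hge (h + j) (h - (j + 1))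
        rw [ea] at e1
        have e2 : g (h + (j + 1)) (h - (j + 1)) =
            e (g (h + j) (h - (j + 1))) - g (h + j) (h - j) - g (h + j + 1) (h - j) := by
          rw [e1, show h + (j + 1) = h + j + 1 by omega]; abel
        rw [e2]
        exact (R 1).sub_mem ((R 1).sub_mem (hR1 _) i2) (hA _ _ (by omega))
  have hm : ∀ m, ∀ u v, 2 * h + 1 + m ≤ u + v + 1 → g u v ∈ R (m + 1) := by
    intro m
    induction m with
    | zero =>
      intro u v huv
      rcases Nat.eq_or_lt_of_le (show 2 * h ≤ u + v by omega) with heq | hlt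
      · rcases le_total u h with hu | hu
        · have := (hmid (h - u) (by omega)).1
          rwa [show h - (h - u) = u by omega, show h + (h - u) = v by omega] at this
        · have := (hmid (u - h) (by omega)).2
          rwa [show h + (u - h) = u by omega, show h - (u - h) = v by omega] at this
      · exact hA u v (by omega)
    | succ m ih =>
      intro u v huv
      refine step (2 * h + 1 + m) (R (m + 1 + 1)) (by omega) (fun u v h' => ?_) u v (by omega)
      obtain ⟨z, hz⟩ := ih u v h'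
      refine ⟨z, ?_⟩
      rw [← hz, pow_succ' e (m + 1)]
      rfl
  intro u v huv
  obtain ⟨z, hz⟩ := hm k u v huv
  have : g u v = 0 := by rw [← hz, hek]; rfl
  exact this

/-- A linearised Dedekind lemma: if `(σ - 1)^N = 0` and each `σ^i`, `1 ≤ i ≤ N`, is semiregular on
the abelian group `R`, then `R` acts unipotently. -/
theorem rho_sub_one_pow {E R : Type*} [Ring E] [CommGroup R] (σ : E) (ρ : R →* E) {N : ℕ}
    (φ : ℕ → R → R) (hrel : ∀ i r, σ ^ i * ρ r = ρ (φ i r) * σ ^ i)
    (hsurj : ∀ i < N, ∀ s, ∃ r, r * (φ (i + 1) r)⁻¹ = s) (h0 : (σ - 1) ^ N = 0) (s : R) :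
    (ρ s - 1) ^ N = 0 := by
  classical
  have key : ∀ I : Finset ℕ, (∀ i ∈ I, i < N) → ∀ (c0 : E) (c : ℕ → E),
      (∀ r, Commute c0 (ρ r)) → (∀ i r, Commute (c i) (ρ r)) →
      c0 + ∑ i ∈ I, c i * σ ^ (i + 1) = 0 → c0 * (ρ s - 1) ^ I.card = 0 := by
    intro I
    induction I using Finset.induction_on with
    | empty => intro _ c0 c _ _ h; simpa using h
    | insert j I hj ih =>
      intro hI c0 c hc0 hc h
      obtain ⟨r, hr⟩ := hsurj j (hI j (Finset.mem_insert_self j I)) s
      set y := φ (j + 1) r with hy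
      have hcomm : ∀ a b : R, Commute (ρ a) (ρ b) := fun a b => (Commute.all a b).map ρ
      have t0 : ρ y⁻¹ * c0 * ρ r - c0 = c0 * (ρ s - 1) := by
        rw [← (hc0 y⁻¹).eq, mul_assoc, ← map_mul, mul_sub, mul_one, ← hr, mul_comm y⁻¹ r]
      have ti : ∀ i, ρ y⁻¹ * (c i * σ ^ (i + 1)) * ρ r - c i * σ ^ (i + 1) =
          c i * (ρ (y⁻¹ * φ (i + 1) r) - 1) * σ ^ (i + 1) := by
        intro i
        rw [← mul_assoc, ← (hc i y⁻¹).eq, mul_assoc (c i * ρ y⁻¹), hrel, map_mul, mul_sub, mul_one,
          sub_mul]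
        simp only [mul_assoc]
      have heq : c0 * (ρ s - 1) +
          ∑ i ∈ insert j I, c i * (ρ (y⁻¹ * φ (i + 1) r) - 1) * σ ^ (i + 1) = 0 := by
        rw [← t0, ← Finset.sum_congr rfl fun i _ => ti i, Finset.sum_sub_distrib]
        calc _ = ρ y⁻¹ * (c0 + ∑ i ∈ insert j I, c i * σ ^ (i + 1)) * ρ r -
              (c0 + ∑ i ∈ insert j I, c i * σ ^ (i + 1)) := by
                rw [mul_add, add_mul, Finset.mul_sum, Finset.sum_mul]; abel
          _ = 0 := by rw [h, mul_zero, zero_mul, sub_zero]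
      rw [Finset.sum_insert hj, ← hy, inv_mul_cancel, map_one, sub_self, mul_zero, zero_mul,
        zero_add] at heq
      have hone : ∀ a b, Commute (ρ a - 1) (ρ b) := fun a b =>
        (hcomm a b).sub_left (Commute.one_left _)
      have := ih (fun i hi => hI i (Finset.mem_insert_of_mem hi)) (c0 * (ρ s - 1))
        (fun i => c i * (ρ (y⁻¹ * φ (i + 1) r) - 1))
        (fun q => (hc0 q).mul_left (hone _ q)) (fun i q => (hc i q).mul_left (hone _ q)) heq
      rwa [Finset.card_insert_of_notMem hj, pow_succ', ← mul_assoc]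
  have hexp : ((-1 : E)) ^ N +
      ∑ i ∈ Finset.range N, ((-1 : E) ^ (N - (i + 1)) * (N.choose (i + 1) : E)) * σ ^ (i + 1) = 0 := by
    have h1 := (Commute.neg_one_right σ).add_pow N
    rw [← sub_eq_add_neg, h0, Finset.sum_range_succ'] at h1
    rw [h1, add_comm]
    congr 1
    · refine Finset.sum_congr rfl fun i _ => ?_
      rw [mul_assoc (σ ^ (i + 1))]
      exact (((Commute.neg_one_left σ).pow_pow _ _).mul_left
        ((Nat.cast_commute _ σ).pow_right _)).eq
    · simp
  have := key (Finset.range N) (fun i hi => Finset.mem_range.1 hi) ((-1) ^ N)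
    (fun i => (-1 : E) ^ (N - (i + 1)) * (N.choose (i + 1) : E))
    (fun r => (Commute.neg_one_left _).pow_left _)
    (fun i r => ((Commute.neg_one_left _).pow_left _).mul_left (Nat.cast_commute _ _)) hexp
  rw [Finset.card_range] at this
  rcases Nat.even_or_odd N with hN | hN
  · rwa [hN.neg_one_pow, one_mul] at this
  · rwa [hN.neg_one_pow, neg_one_mul, neg_eq_zero] at this

/-- Unipotent of order prime to `p` in characteristic `p`. -/
theorem eq_one_of_sub_one_pow {E : Type*} [Ring E] {p l N : ℕ} [hp : Fact p.Prime] (hchar : (p : E) = 0)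
    (hl : N ≤ p ^ l) {x : E} (hx : (x - 1) ^ N = 0) {m : ℕ} (hm : m.Coprime p) (hxm : x ^ m = 1) :
    x = 1 := by
  have h1 : x ^ p ^ l = 1 := by
    obtain ⟨r, hr⟩ := (Commute.one_right (x - 1)).exists_add_pow_prime_pow_eq hp.out l
    rw [sub_add_cancel, one_pow, pow_eq_zero_of_le hl hx, zero_add, hchar] at hr
    simpa using hr
  have := pow_gcd_eq_one.2 ⟨h1, hxm⟩
  rwa [show Nat.gcd (p ^ l) m = 1 from Nat.Coprime.pow_left l hm.symm, pow_one] at this

/-- The vectors `d^(j+i) x`, `j + i ≤ top`, are independent if `d^top x ≠ 0 = d^(top+1) x`. -/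
theorem indep {p : ℕ} [Fact p.Prime] {V : Type*} [AddCommGroup V] [Module (ZMod p) V]
    (d : V →+ V) (x : V) {top j l : ℕ} (hl : j + l ≤ top + 1)
    (htop : (⇑d)^[top] x ≠ 0) (hbig : ∀ u, top < u → (⇑d)^[u] x = 0) (c : Fin l → ZMod p)
    (hc : ∑ i : Fin l, c i • (⇑d)^[j + i] x = 0) : c = 0 := by
  have hit : ∀ u, ∀ (c : ZMod p) (v : V), (⇑d)^[u] (c • v) = c • (⇑d)^[u] v := by
    intro u
    induction u with
    | zero => simp
    | succ u ih => intro c v; rw [Function.iterate_succ_apply', Function.iterate_succ_apply', ih, ZMod.map_smul d]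
  have hsum : ∀ u, ∀ (F : Fin l → V), (⇑d)^[u] (∑ i, F i) = ∑ i, (⇑d)^[u] (F i) := by
    intro u
    induction u with
    | zero => simp
    | succ u ih =>
      intro F
      simp only [Function.iterate_succ_apply', ih, map_sum]
  by_contra hne
  obtain ⟨i0, hi0, hmin⟩ := Finset.exists_min_image (Finset.univ.filter fun i => c i ≠ 0)
    (fun i : Fin l => (i : ℕ)) (by
      obtain ⟨i, hi⟩ := Function.ne_iff.1 hne
      exact ⟨i, by simpa using hi⟩)
  have h1 := congrArg ((⇑d)^[top - (j + i0)]) hc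
  rw [hsum, iterate_map_zero, Finset.sum_eq_single i0] at h1
  · rw [hit, ← Function.iterate_add_apply, show top - (j + i0) + (j + i0) = top by omega] at h1
    rcases smul_eq_zero.1 h1 with h2 | h2
    · exact (Finset.mem_filter.1 hi0).2 h2
    · exact htop h2
  · intro i _ hi
    by_cases hci : c i = 0
    · rw [hci, zero_smul, iterate_map_zero]
    · have := hmin i (by simpa using hci)
      have hlt : (i0 : ℕ) < i := lt_of_le_of_ne this fun e => hi (Fin.ext e.symm)
      rw [hit, ← Function.iterate_add_apply, hbig _ (by omega), smul_zero]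
  · simp

/-- The vectors `d^(j+i) x`, `i < l = n - j`, are independent and span a space of size `p^l`; it is
not covered by `n` translates of the kernel of `d` in it, for `p * n < p ^ l`. -/
theorem count {p : ℕ} [Fact p.Prime] {V : Type*} [AddCommGroup V] [Module (ZMod p) V]
    (d : V →+ V) (x : V) {n j l : ℕ} (hl : 0 < l) (hn : j + l = n)
    (htop : (⇑d)^[n - 1] x ≠ 0) (hzero : (⇑d)^[n] x = 0) (t : ℕ → V)
    (hcover : ∀ m ∈ Submodule.span (ZMod p) (Set.range fun i : Fin l => (⇑d)^[j + i] x),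
      ∃ i < n, ∃ y ∈ Submodule.span (ZMod p) (Set.range fun i : Fin l => (⇑d)^[j + i] x),
        d y = 0 ∧ m = t i + y) :
    p ^ l ≤ n * p := by
  classical
  have hbig : ∀ u, n ≤ u → (⇑d)^[u] x = 0 := by
    intro u hu
    rw [show u = (u - n) + n by omega, Function.iterate_add_apply, hzero]
    exact iterate_map_zero d _
  have hind : ∀ c : Fin l → ZMod p, ∑ i : Fin l, c i • (⇑d)^[j + i] x = 0 → c = 0 :=
    indep d x (by omega) htop fun u hu => hbig u (by omega)
  set top : V := (⇑d)^[j + (l - 1)] x with htopdef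
  have hker : ∀ y ∈ Submodule.span (ZMod p) (Set.range fun i : Fin l => (⇑d)^[j + i] x),
      d y = 0 → ∃ c : ZMod p, y = c • top := by
    intro y hy hdy
    obtain ⟨c, rfl⟩ := (Submodule.mem_span_range_iff_exists_fun (ZMod p)).1 hy
    refine ⟨c ⟨l - 1, by omega⟩, ?_⟩
    set c' : Fin l → ZMod p := fun i => if h : (i : ℕ) = 0 then 0 else c ⟨(i : ℕ) - 1, by omega⟩
      with hc'
    have hshift : ∑ i : Fin l, c' i • (⇑d)^[j + i] x = 0 := by
      obtain ⟨l', rfl⟩ := Nat.exists_eq_add_one.2 hl
      rw [← hdy, map_sum, Fin.sum_univ_succ, show c' 0 = 0 from dif_pos rfl, zero_smul, zero_add,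
        Fin.sum_univ_castSucc (f := fun i => d _)]
      simp only [hc', ZMod.map_smul d, Fin.val_succ,
        Nat.succ_ne_zero, dite_false, Nat.add_sub_cancel, ← Function.iterate_succ_apply' (f := ⇑d)]
      rw [Fin.val_last, hbig (j + l').succ (by omega), smul_zero, add_zero]
      refine Finset.sum_congr rfl fun i _ => ?_
      rw [Fin.val_castSucc, show (j + (i : ℕ)).succ = j + ((i : ℕ) + 1) by omega]
      rfl
    have hz := hind c' hshift
    rw [Finset.sum_eq_single (⟨l - 1, by omega⟩ : Fin l)]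
    · intro i _ hi
      have hlt : (i : ℕ) + 1 < l := by
        have : (i : ℕ) ≠ l - 1 := fun e => hi (Fin.ext e)
        omega
      have := congrFun hz ⟨i + 1, hlt⟩
      simp only [hc', Nat.succ_ne_zero, dite_false, Nat.add_sub_cancel, Pi.zero_apply] at this
      rw [show c i = 0 from this, zero_smul]
    · simp
  have hcov : ∀ c : Fin l → ZMod p, ∃ q : Fin n × ZMod p,
      ∑ i : Fin l, c i • (⇑d)^[j + i] x = t q.1 + q.2 • top := by
    intro c
    obtain ⟨i, hi, y, hy, hdy, e⟩ := hcover _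
      ((Submodule.mem_span_range_iff_exists_fun (ZMod p)).2 ⟨c, rfl⟩)
    obtain ⟨b, rfl⟩ := hker y hy hdy
    exact ⟨(⟨i, hi⟩, b), e⟩
  choose q hq using hcov
  have hinj : Function.Injective q := by
    intro c c' h
    have h1 : ∑ i : Fin l, (c - c') i • (⇑d)^[j + i] x = 0 := by
      simp only [Pi.sub_apply, sub_smul, Finset.sum_sub_distrib]
      rw [hq c, hq c', h, sub_self]
    exact sub_eq_zero.1 (hind _ h1)
  have := Fintype.card_le_of_injective q hinj
  simpa [Fintype.card_prod] using this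

/-- `count`, with additive subgroups only. -/
theorem count_closure {p : ℕ} [Fact p.Prime] {V : Type*} [AddCommGroup V] (hexp : ∀ v : V, p • v = 0)
    (d : V →+ V) (x : V) {n j l : ℕ} (hl : 0 < l) (hn : j + l = n)
    (htop : (⇑d)^[n - 1] x ≠ 0) (hzero : (⇑d)^[n] x = 0) (t : ℕ → V)
    (hcover : ∀ m ∈ AddSubgroup.closure (Set.range fun i : Fin l => (⇑d)^[j + i] x),
      ∃ i < n, ∃ y ∈ AddSubgroup.closure (Set.range fun i : Fin l => (⇑d)^[j + i] x),
        d y = 0 ∧ m = t i + y) :
    p ^ l ≤ n * p := by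
  haveI : Module (ZMod p) V := AddCommGroup.zmodModule hexp
  have hiff : ∀ m, m ∈ Submodule.span (ZMod p) (Set.range fun i : Fin l => (⇑d)^[j + i] x) ↔
      m ∈ AddSubgroup.closure (Set.range fun i : Fin l => (⇑d)^[j + i] x) := by
    intro m
    constructor
    · intro hm
      exact (Submodule.span_le (p := AddSubgroup.toZModSubmodule p
        (AddSubgroup.closure (Set.range fun i : Fin l => (⇑d)^[j + i] x)))).2
        (fun v hv => AddSubgroup.subset_closure hv) hm
    · intro hm
      exact ((AddSubgroup.closure_le (K := (Submodule.span (ZMod p) _).toAddSubgroup)).2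
        Submodule.subset_span) hm
  refine count d x hl hn htop hzero t fun m hm => ?_
  obtain ⟨i, hi, y, hy, h1, h2⟩ := hcover m ((hiff m).1 hm)
  exact ⟨i, hi, y, (hiff y).2 hy, h1, h2⟩

end Cfsg.Agent.JAut
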