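import Cfsg.Agent.Lib.PLocal.GlaubermanReplacement
import Cfsg.Agent.Lib.PLocal.OmegaOne

/-!
Glauberman replacement for a subgroup normalizing `B`, keeping the rank.
-/

set_option autoImplicit false
set_option linter.style.haveILetI false
open scoped commutatorElement

namespace Cfsg.Agent.GReplacement

open Cfsg.Agent

theorem Setup.omega_card {S : Type*} [Group S] [Finite S] {A B : Subgroup S} {b : S} {p : ℕ}
    [hp : Fact p.Prime] (h : Setup A B b p) (hp2 : p ≠ 2) :
    Nat.card (Cfsg.omegaOne p A) ≤ Nat.card (Cfsg.omegaOne p (star A b)) := by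
  classical
  set Ω := Cfsg.omegaOne p A with hΩ
  set D := A ⊓ cja A b with hD
  have hAc : ∀ x ∈ A, ∀ y ∈ A, x * y = y * x := fun x hx y hy => h.comm hx hy
  have hΩA : Ω ≤ A := OmegaOne.le p A
  let R := (D ⊓ Ω).subgroupOf Ω
  let rep : Ω → Ω := fun a => (QuotientGroup.mk a : Ω ⧸ R).out
  have hrep : ∀ a : Ω, (rep a)⁻¹ * a ∈ R := fun a =>
    QuotientGroup.eq.1 (QuotientGroup.out_eq' _)
  let f : Ω → S := fun a => (rep a : S) * b⁻¹ * (rep a : S)⁻¹ * b * ((rep a : S)⁻¹ * a)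
  have hd : ∀ a : Ω, (rep a : S)⁻¹ * a ∈ D ⊓ Ω := fun a => hrep a
  have hf : ∀ a, f a ∈ Cfsg.omegaOne p (star A b) := by
    intro a
    refine mul_mem (OmegaOne.mem (Subgroup.mem_sup_right (Subgroup.subset_closure
      ⟨_, hΩA (rep a).2, rfl⟩)) ?_)
      (OmegaOne.mem (Subgroup.mem_sup_left (hd a).1) (OmegaOne.pow_eq_one hAc (hd a).2))
    set t := (rep a : S) with ht
    have htA : t ∈ A := hΩA (rep a).2
    have htp : t ^ p = 1 := OmegaOne.pow_eq_one hAc (rep a).2
    set a' := b⁻¹ * t⁻¹ * b with ha'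
    have htH : t ∈ A ⊔ cja A b := Subgroup.mem_sup_left htA
    have ha'C : a' ∈ cja A b := mem_cja_of (A.inv_mem htA)
    have ha'H : a' ∈ A ⊔ cja A b := Subgroup.mem_sup_right ha'C
    have ha'p : a' ^ p = 1 := by
      have h2 := conj_pow (a := b⁻¹) (b := t⁻¹) (i := p)
      rw [inv_inv] at h2
      rw [ha', h2, inv_pow, htp, inv_one, mul_one, inv_mul_cancel]
    set z := (t * a')⁻¹ * (a' * t) with hz
    have hzD : z ∈ A ⊓ cja A b := by
      rw [show z = ⁅a'⁻¹, t⁻¹⁆ by rw [hz, commutatorElement_def]; group]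
      exact h.commutator_le_inf (Subgroup.commutator_mem_commutator (inv_mem ha'H) (inv_mem htH))
    have hu : a'⁻¹ * t⁻¹ * a' ∈ A := by
      have := (Subgroup.mem_normalizer_iff.1 (h.cja_le_normalizer (inv_mem ha'C)) t⁻¹).1 (A.inv_mem htA)
      rwa [inv_inv] at this
    have hzp : z ^ p = 1 := by
      have hc := conj_pow (a := a'⁻¹) (b := t⁻¹) (i := p)
      rw [inv_inv] at hc
      rw [show z = a'⁻¹ * t⁻¹ * a' * t by rw [hz]; group, Commute.mul_pow (h.comm hu htA), hc,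
        inv_pow, htp, inv_one]
      group
    rw [show t * b⁻¹ * t⁻¹ * b = t * a' by rw [ha']; group,
      LEOmega.mul_pow_class_two (z := z) (by rw [hz]; group) (h.central hzD htH) (h.central hzD ha'H),
      htp, ha'p, one_mul, one_mul]
    obtain ⟨d, hd⟩ := hp.out.dvd_choose_self two_ne_zero (lt_of_le_of_ne hp.out.two_le (Ne.symm hp2))
    rw [hd, pow_mul, hzp, one_pow]
  refine Nat.card_le_card_of_injective (fun a : Ω => (⟨f a, hf a⟩ : Cfsg.omegaOne p (star A b))) ?_
  intro a c hac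
  have e : f a = f c := congrArg Subtype.val hac
  have hR : (rep c)⁻¹ * rep a ∈ R := by
    refine ⟨⟨Subgroup.mul_mem _ (Subgroup.inv_mem _ (hΩA (rep c).2)) (hΩA (rep a).2), ?_⟩,
      Subgroup.mul_mem _ (Subgroup.inv_mem _ (rep c).2) (rep a).2⟩
    show (rep c : S)⁻¹ * rep a ∈ cja A b
    have e1 : (rep c : S)⁻¹ * rep a = (b⁻¹ * (rep c : S)⁻¹ * b) * ((rep c : S)⁻¹ * c) *
        ((rep a : S)⁻¹ * a)⁻¹ * (b⁻¹ * (rep a : S)⁻¹ * b)⁻¹ := by
      calc (rep c : S)⁻¹ * rep a = (rep c : S)⁻¹ * f a * ((rep a : S)⁻¹ * a)⁻¹ *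
            (b⁻¹ * (rep a : S)⁻¹ * b)⁻¹ := by simp only [f]; group
        _ = _ := by rw [e]; simp only [f]; group
    rw [e1]
    exact mul_mem (mul_mem (mul_mem (mem_cja_of (A.inv_mem (hΩA (rep c).2))) (hd c).1.2)
      (inv_mem (hd a).1.2)) (inv_mem (mem_cja_of (A.inv_mem (hΩA (rep a).2))))
  have hrr : rep a = rep c := by
    have e0 : (QuotientGroup.mk (rep c) : Ω ⧸ R) = QuotientGroup.mk (rep a) := QuotientGroup.eq.2 hR
    have e1 : (QuotientGroup.mk c : Ω ⧸ R) = QuotientGroup.mk a := by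
      simpa only [rep, QuotientGroup.out_eq'] using e0
    simp only [rep, e1]
  simp only [f, hrr, mul_right_inj] at e
  exact Subtype.ext e

/-- **Replacement keeping the rank.** -/
theorem exists_replacement_rank {G : Type*} [Group G] [Finite G] {p : ℕ} [Fact p.Prime] (hp : p ≠ 2)
    (hG : IsPGroup p G) (A B : Subgroup G) (hA : IsMulCommutative A) (hBA : ⁅B, B⁆ ≤ A)
    (hAB : A ≤ Subgroup.normalizer (B : Set G)) (hBnA : ¬ B ≤ Subgroup.normalizer (A : Set G)) :
    ∃ Astar : Subgroup G, IsMulCommutative Astar ∧ Nat.card Astar = Nat.card A ∧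
      A ⊓ B < Astar ⊓ B ∧ Astar ≤ Subgroup.normalizer (A : Set G) ∧
      Astar ≤ Subgroup.normalClosure (A : Set G) ∧ Monoid.exponent Astar ∣ Monoid.exponent A ∧
      Nat.card (Cfsg.omegaOne p A) ≤ Nat.card (Cfsg.omegaOne p Astar) := by
  set S := A ⊔ B with hS
  have hAS : A ≤ S := le_sup_left
  have hBS : B ≤ S := le_sup_right
  set A' := A.subgroupOf S with hA'
  set B' := B.subgroupOf S with hB'
  have hBn : B'.Normal :=
    Subgroup.normal_subgroupOf_of_le_normalizer (sup_le hAB Subgroup.le_normalizer)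
  haveI := hBn
  have hA'c : IsMulCommutative A' := .of_setLike_mul_comm fun x hx y hy => Subtype.ext
    (congrArg (fun u : A => (u : G)) (hA.is_comm.comm (⟨(x : G), hx⟩ : A) ⟨y, hy⟩))
  have hBA' : ⁅B', B'⁆ ≤ A' := by
    rw [Subgroup.commutator_le]
    exact fun x hx y hy => hBA (Subgroup.commutator_mem_commutator hx hy)
  set N := Subgroup.normalizer (A' : Set S) with hN
  have hBN : ¬ B' ≤ N := fun hle => hBnA fun x hx => by
    have hxN := Subgroup.mem_normalizer_iff.1 (hle (show (⟨x, hBS hx⟩ : S) ∈ B' from hx))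
    refine Subgroup.mem_normalizer_iff.2 fun a => ⟨fun ha => (hxN ⟨a, hAS ha⟩).1 ha, fun ha => ?_⟩
    have haS : a ∈ S := by
      have := mul_mem (mul_mem (inv_mem (hBS hx)) (hAS ha)) (hBS hx)
      simpa [mul_assoc] using this
    exact (hxN ⟨a, haS⟩).2 ha
  have hlt : N < B' ⊔ N := lt_of_le_of_ne le_sup_right fun h => hBN (h ▸ le_sup_left)
  obtain ⟨x, hx, hxN⟩ := SetLike.exists_of_lt
    (Fusion.lt_inf_normalizer ((hG.to_subgroup S).to_subgroup _).isNilpotent hlt)
  obtain ⟨hxP, hxn⟩ := Subgroup.mem_inf.1 hx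
  rw [← SetLike.mem_coe, Subgroup.normal_mul] at hxP
  obtain ⟨b, hb, n, hn, rfl⟩ := Set.mem_mul.1 hxP
  have hbN : b ∈ Subgroup.normalizer (N : Set S) := by
    have := mul_mem hxn (Subgroup.inv_mem _ (Subgroup.le_normalizer hn))
    rwa [mul_inv_cancel_right] at this
  have h : Setup A' B' b p := ⟨hG.to_subgroup S, hBn, fun e => absurd e hp, hA'c, hBA', hb, hbN,
    fun hbA => hxN (N.mul_mem hbA hn)⟩
  have hinj : Function.Injective S.subtype := S.subtype_injective
  have hmapA : A'.map S.subtype = A := Subgroup.map_subgroupOf_eq_of_le hAS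
  have hmapB : B'.map S.subtype = B := Subgroup.map_subgroupOf_eq_of_le hBS
  set T := star A' b with hT
  refine ⟨T.map S.subtype, ?_, ?_, ?_, ?_, ?_, ?_, ?_⟩
  · refine .of_setLike_mul_comm ?_
    rintro _ ⟨u, hu, rfl⟩ _ ⟨v, hv, rfl⟩
    rw [← map_mul, ← map_mul]
    exact congrArg _ (congrArg Subtype.val (h.star_comm.is_comm.comm (⟨u, hu⟩ : T) ⟨v, hv⟩))
  · rw [Subgroup.card_map_of_injective hinj, h.star_card,
      Nat.card_congr (Subgroup.subgroupOfEquivOfLe hAS).toEquiv]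
  · rw [← hmapA, ← hmapB, ← Subgroup.map_inf _ _ _ hinj, ← Subgroup.map_inf _ _ _ hinj]
    exact (Subgroup.map_lt_map_iff_of_injective hinj).2 h.inf_lt
  · rintro _ ⟨u, hu, rfl⟩
    have huN := Subgroup.mem_normalizer_iff.1 (h.sup_le_normalizer (h.star_le_sup hu))
    refine Subgroup.mem_normalizer_iff.2 fun a => ⟨fun ha => (huN ⟨a, hAS ha⟩).1 ha, fun ha => ?_⟩
    have haS : a ∈ S := by
      have := mul_mem (mul_mem (inv_mem u.2) (hAS ha)) u.2
      simpa [mul_assoc] using this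
    exact (huN ⟨a, haS⟩).2 ha
  · refine (Subgroup.map_mono h.star_le_sup).trans ?_
    rw [Subgroup.map_sup, hmapA]
    refine sup_le Subgroup.subset_normalClosure ?_
    rintro _ ⟨_, ⟨a, ha, rfl⟩, rfl⟩
    exact Subgroup.normalClosure_normal.conj_mem (a : G) (Subgroup.subset_normalClosure ha) _
  · rw [← Monoid.exponent_eq_of_mulEquiv (T.equivMapOfInjective S.subtype hinj),
      ← Monoid.exponent_eq_of_mulEquiv (Subgroup.subgroupOfEquivOfLe hAS)]
    exact h.exponent_dvd hp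
  · have e : ∀ U : Subgroup S, Nat.card (Cfsg.omegaOne p (U.map S.subtype)) = Nat.card (Cfsg.omegaOne p U) := by
      intro U
      rw [← OmegaOne.map S.subtype (A := U) hinj.injOn, Subgroup.card_map_of_injective hinj]
    rw [← hmapA, e, e]
    exact h.omega_card hp

end Cfsg.Agent.GReplacement
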