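import Cfsg.Prelude.Def_PLocal
import Cfsg.Agent.Lib.PLocal.OmegaOne
import Cfsg.Agent.Lib.PLocal.ZJ
import Cfsg.Agent.Lib.PLocal.Replacement
import Cfsg.Agent.Lib.PLocal.PSolvable
import Cfsg.Agent.Lib.PStable.ActionStable
import Cfsg.Agent.Lib.Solvable.Coprime

/-!
Stellmacher's characteristic subgroup `W(S)`: the stable normal closure of `Ω₁(Z(S))`.
-/

set_option autoImplicit false
set_option linter.style.haveILetI false

open scoped commutatorElement Pointwise

namespace Cfsg.Agent.StableClosure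

open Cfsg.Agent

universe u

variable {p : ℕ}

/-! ### Generalities -/

theorem omegaOne_normal {G : Type*} [Group G] (A : Subgroup G) [hA : A.Normal] :
    (Cfsg.omegaOne p A).Normal := by
  refine Subgroup.normalizer_eq_top_iff.1 (eq_top_iff.2 fun g _ => ?_)
  rw [Subgroup.mem_normalizer_iff_map_conj_eq]
  refine (OmegaOne.map _ (MulAut.conj g).injective.injOn).trans (congrArg (Cfsg.omegaOne p) ?_)
  exact Subgroup.mem_normalizer_iff_map_conj_eq.1
    (by rw [Subgroup.normalizer_eq_top]; exact Subgroup.mem_top g)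

theorem omegaCenterThompson_map {S : Type*} [Group S] {H : Type*} [Group H] (f : S →* H)
    (hf : Function.Injective f) :
    (Cfsg.omegaCenterThompson p S).map f =
      Cfsg.omegaOne p ((Cfsg.thompsonSubgroup p S).map f ⊓
        Subgroup.centralizer (((Cfsg.thompsonSubgroup p S).map f : Subgroup H) : Set H)) := by
  rw [Cfsg.omegaCenterThompson, OmegaOne.map f hf.injOn, ZJ.inf_centralizer_map f hf.injOn]

theorem omegaCenterThompson_map_equiv {S S' : Type*} [Group S] [Group S'] (η : S ≃* S') :
    (Cfsg.omegaCenterThompson p S).map η.toMonoidHom = Cfsg.omegaCenterThompson p S' := by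
  rw [omegaCenterThompson_map _ η.injective, Thompson.thompsonSubgroup_map_equiv η]
  rfl

theorem omegaCenterThompson_comm {S : Type*} [Group S] {x y : S}
    (hx : x ∈ Cfsg.omegaCenterThompson p S) (hy : y ∈ Cfsg.omegaCenterThompson p S) :
    x * y = y * x :=
  (OmegaOne.le p _ hy).2 x (OmegaOne.le p _ hx).1

theorem map_center_equiv {S S' : Type*} [Group S] [Group S'] (η : S ≃* S') :
    (Cfsg.omegaOne p (Subgroup.center S)).map η.toMonoidHom =
      Cfsg.omegaOne p (Subgroup.center S') := by
  rw [OmegaOne.map η.toMonoidHom η.injective.injOn]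
  congr 1
  ext y
  rw [Subgroup.mem_map_equiv, Subgroup.mem_center_iff, Subgroup.mem_center_iff]
  constructor
  · intro h z
    have := congrArg η (h (η.symm z))
    simpa using this
  · intro h z
    have := congrArg η.symm (h (η z))
    simpa using this

theorem omegaOne_center_ne_bot {S : Type*} [Group S] [Finite S] [hp : Fact p.Prime]
    (hS : IsPGroup p S) [Nontrivial S] : Cfsg.omegaOne p (Subgroup.center S) ≠ ⊥ := by
  haveI := hS.center_nontrivial
  obtain ⟨k, hk0, hk⟩ := (IsPGroup.nontrivial_iff_card (hS.to_subgroup _)).1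
    (inferInstance : Nontrivial (Subgroup.center S))
  obtain ⟨z, hz⟩ := exists_prime_orderOf_dvd_card' (G := Subgroup.center S) p
    (hk ▸ dvd_pow_self p hk0.ne')
  intro hbot
  have hzp : (z : S) ^ p = 1 := by
    rw [← hz, ← Subgroup.orderOf_coe]; exact pow_orderOf_eq_one _
  have h1 : (z : S) = 1 := Subgroup.mem_bot.1 (hbot ▸ OmegaOne.mem z.2 hzp)
  rw [← Subgroup.orderOf_coe, h1, orderOf_one] at hz
  exact hp.out.one_lt.ne hz

theorem omegaOne_center_le {S : Type*} [Group S] [Finite S] [hp : Fact p.Prime] :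
    Cfsg.omegaOne p (Subgroup.center S) ≤ Cfsg.omegaCenterThompson p S := by
  rw [Cfsg.omegaOne, Subgroup.closure_le]
  rintro x ⟨hx, hxp⟩
  have hc : ∀ (T : Set S), x ∈ Subgroup.centralizer T := fun T y _ =>
    Subgroup.mem_center_iff.1 hx y
  obtain ⟨A, hA⟩ := Thompson.exists_isMaxEAIn p (⊤ : Subgroup S)
  refine OmegaOne.mem ⟨?_, hc _⟩ hxp
  rw [← Thompson.thompsonSubgroupOf_top]
  exact Thompson.le_thompsonSubgroupOf hA
    (OmegaOne.mem_of_centralizes hA (Subgroup.mem_top x) (hc _) hxp)

/-- The Frattini argument for the stabilizer of a normal subgroup. -/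
theorem frattini_stab {H : Type*} [Group H] [Finite H] [hp : Fact p.Prime] (P : Sylow p H)
    (B : Subgroup H) [B.Normal] :
    Subgroup.centralizer (B : Set H) ⊔
      Subgroup.normalizer (((P : Subgroup H) ⊓ ZJ.stab p B : Subgroup H) : Set H) = ⊤ := by
  set D := ZJ.stab p B with hD
  set C := Subgroup.centralizer (B : Set H) with hC
  set f := QuotientGroup.mk' C with hf
  have hfs : Function.Surjective f := QuotientGroup.mk'_surjective C
  obtain ⟨Q, hQ⟩ := PBasic.exists_sylow_subgroupOf P D
  have hfr := Sylow.normalizer_sup_eq_top Q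
  have hQmap : (Q : Subgroup D).map D.subtype = (P : Subgroup H) ⊓ D := by
    rw [hQ, Subgroup.subgroupOf_map_subtype]
  rw [hQmap] at hfr
  rw [eq_top_iff, ← hfr]
  refine sup_le le_sup_right ?_
  intro x hx
  have h1 : f x ∈ (P : Subgroup H).map f := by
    have h2 := PBasic.pCore_le_sylow (p := p) (P.mapSurjective hfs) hx
    rwa [Sylow.coe_mapSurjective] at h2
  obtain ⟨s, hs, hsx⟩ := h1
  have h3 : s⁻¹ * x ∈ C := QuotientGroup.eq.1 hsx
  have hsD : s ∈ D := by
    rw [hD, ZJ.stab, Subgroup.mem_comap] at hx ⊢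
    exact hsx ▸ hx
  rw [show x = s * (s⁻¹ * x) by group]
  exact mul_mem (Subgroup.mem_sup_right (Subgroup.le_normalizer ⟨hs, hsD⟩))
    (Subgroup.mem_sup_left h3)

/-! ### The subgroup `W(S)` -/

/-- The subgroups over which the stable normal closure is intersected. -/
def Admissible (p : ℕ) {S : Type u} [Group S] (W : Subgroup S) : Prop :=
  Cfsg.omegaOne p (Subgroup.center S) ≤ W ∧
    ∀ (H : Type u) [Group H] (τ : S →* H), Cfsg.IsStableEmbedding p τ → (W.map τ).Normal

variable {S : Type u} [Group S]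

theorem le_of_admissible {W : Subgroup S} (hW : Admissible p W) :
    Cfsg.stableNormalClosure p S ≤ W := sInf_le hW

theorem omegaOne_center_le_stableNormalClosure :
    Cfsg.omegaOne p (Subgroup.center S) ≤ Cfsg.stableNormalClosure p S :=
  le_sInf fun _ hW => hW.1

theorem admissible_omegaCenterThompson [Finite S] [Fact p.Prime] :
    Admissible p (Cfsg.omegaCenterThompson p S) := by
  refine ⟨omegaOne_center_le, fun H _ τ hτ => ?_⟩
  obtain ⟨hinj, -, -, -, hJ, -⟩ := hτ
  haveI := hJ
  rw [omegaCenterThompson_map τ hinj]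
  exact omegaOne_normal _

theorem stableNormalClosure_le [Finite S] [Fact p.Prime] :
    Cfsg.stableNormalClosure p S ≤ Cfsg.omegaCenterThompson p S :=
  le_of_admissible admissible_omegaCenterThompson

theorem admissible_stableNormalClosure [Finite S] [Fact p.Prime] :
    Admissible p (Cfsg.stableNormalClosure p S) := by
  refine ⟨omegaOne_center_le_stableNormalClosure, fun H _ τ hτ => ⟨?_⟩⟩
  rintro _ ⟨w, hw, rfl⟩ g
  rw [SetLike.mem_coe, Cfsg.stableNormalClosure, Subgroup.mem_sInf] at hw
  have hY := admissible_omegaCenterThompson (p := p) (S := S)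
  obtain ⟨v, -, hv⟩ := (hY.2 H τ hτ).conj_mem _ (Subgroup.mem_map_of_mem τ (hw _ hY)) g
  refine ⟨v, ?_, hv⟩
  rw [SetLike.mem_coe, Cfsg.stableNormalClosure, Subgroup.mem_sInf]
  intro W hW
  obtain ⟨v', hv', hvv'⟩ := (hW.2 H τ hτ).conj_mem _ (Subgroup.mem_map_of_mem τ (hw W hW)) g
  rwa [← hτ.1 (hvv'.trans hv.symm)]

/-- The identity of a finite `p`-group is a stable embedding. -/
theorem isStableEmbedding_id [Finite S] [hp : Fact p.Prime] (hS : IsPGroup p S) :
    Cfsg.IsStableEmbedding p (MonoidHom.id S) := by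
  have htop : ∀ (X : Type u) [Group X], IsPGroup p X → Cfsg.pCore p X = ⊤ := fun X _ hX =>
    top_le_iff.1 (PBasic.le_pCore inferInstance (hX.to_subgroup ⊤))
  refine ⟨fun _ _ h => h, inferInstance, ⟨default, ?_⟩, ?_, ?_, fun V _ _ a _ => ?_⟩
  · rw [MonoidHom.range_eq_top.2 (fun x => ⟨x, rfl⟩)]
    refine Subgroup.eq_top_of_card_eq _ ?_
    obtain ⟨k, hk⟩ := IsPGroup.iff_card.1 hS
    rw [Sylow.card_eq_multiplicity, hk, Nat.Prime.factorization_pow hp.out, Finsupp.single_eq_same]
  · rw [htop S hS]; exact le_top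
  · rw [Subgroup.map_id]
    haveI := Thompson.thompsonSubgroup_characteristic p S
    infer_instance
  · rw [htop _ (hS.to_quotient _)]
    exact Subgroup.mem_top _

theorem stableNormalClosure_normal [Finite S] [Fact p.Prime] (hS : IsPGroup p S) :
    (Cfsg.stableNormalClosure p S).Normal := by
  simpa using (admissible_stableNormalClosure (p := p) (S := S)).2 S _ (isStableEmbedding_id hS)

theorem admissible_map {S' : Type u} [Group S'] (η : S ≃* S') {W : Subgroup S}
    (hW : Admissible p W) : Admissible p (W.map η.toMonoidHom) := by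
  refine ⟨map_center_equiv (p := p) η ▸ Subgroup.map_mono hW.1, fun H _ τ hτ => ?_⟩
  rw [Subgroup.map_map]
  refine hW.2 H (τ.comp η.toMonoidHom) ?_
  obtain ⟨hinj, hfin, ⟨P, hP⟩, hc, hJ, hV⟩ := hτ
  refine ⟨hinj.comp η.injective, hfin, ⟨P, ?_⟩, hc, ?_, fun V _ hle => hV V ?_⟩
  · have h : η.toMonoidHom.range = ⊤ := MonoidHom.range_eq_top.2 η.surjective
    rw [hP, MonoidHom.range_comp, h, MonoidHom.range_eq_map]
  · rwa [← Subgroup.map_map, Thompson.thompsonSubgroup_map_equiv η]
  · rwa [← omegaCenterThompson_map_equiv η, Subgroup.map_map]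

theorem stableNormalClosure_map [Finite S] [Fact p.Prime] {S' : Type u} [Group S'] (η : S ≃* S') :
    (Cfsg.stableNormalClosure p S).map η.toMonoidHom = Cfsg.stableNormalClosure p S' := by
  haveI : Finite S' := Finite.of_equiv S η.toEquiv
  refine le_antisymm ?_ (le_of_admissible (admissible_map η admissible_stableNormalClosure))
  rw [Subgroup.map_le_iff_le_comap, show (Cfsg.stableNormalClosure p S').comap η.toMonoidHom =
    (Cfsg.stableNormalClosure p S').map η.symm.toMonoidHom from Subgroup.comap_equiv_eq_map_symm η _]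
  exact le_of_admissible (admissible_map η.symm admissible_stableNormalClosure)

theorem stableNormalClosure_characteristic [Finite S] [Fact p.Prime] :
    (Cfsg.stableNormalClosure p S).Characteristic :=
  Subgroup.characteristic_iff_map_eq.2 fun η => stableNormalClosure_map η

theorem stableNormalClosure_ne_bot [Finite S] [Fact p.Prime] (hS : IsPGroup p S) [Nontrivial S] :
    Cfsg.stableNormalClosure p S ≠ ⊥ := fun h =>
  omegaOne_center_ne_bot hS (le_bot_iff.1 (h ▸ omegaOne_center_le_stableNormalClosure))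

/-- An element acting quadratically on `W(S)` centralizes it. -/
theorem commutator_eq_bot_of_quadratic [Finite S] [hp : Fact p.Prime] (x : S)
    (hq : ⁅⁅Cfsg.stableNormalClosure p S, Subgroup.zpowers x⁆, Subgroup.zpowers x⁆ = ⊥) :
    ⁅Cfsg.stableNormalClosure p S, Subgroup.zpowers x⁆ = ⊥ := by
  set W := Cfsg.stableNormalClosure p S with hW
  set X : Set S := {x | ⁅⁅W, Subgroup.zpowers x⁆, Subgroup.zpowers x⁆ = ⊥} with hX
  have hZ : Admissible p (W ⊓ Subgroup.centralizer X) := by
    refine ⟨le_inf omegaOne_center_le_stableNormalClosure fun z hz y _ =>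
      Subgroup.mem_center_iff.1 (OmegaOne.le p _ hz) y, fun H _ τ hτ => ?_⟩
    haveI hWn : (W.map τ).Normal := admissible_stableNormalClosure.2 H τ hτ
    obtain ⟨hinj, hfin, ⟨P, hP⟩, -, -, hst⟩ := hτ
    set W' := W.map τ with hW'
    have hps : Cfsg.IsPStableOn p W' := hst W' (Subgroup.map_mono stableNormalClosure_le)
    set R := (P : Subgroup H) ⊓ ZJ.stab p W' with hR
    have hXR : ∀ y ∈ X, τ y ∈ R := fun y hy => by
      refine ⟨hP.symm ▸ ⟨y, rfl⟩, hps (τ y) ?_⟩
      rw [hW', ← MonoidHom.map_zpowers, ← Subgroup.map_commutator, ← Subgroup.map_commutator, hy,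
        Subgroup.map_bot]
    refine Subgroup.normalizer_eq_top_iff.1 (eq_top_iff.2 ?_)
    rw [← frattini_stab P W']
    refine sup_le ((Subgroup.centralizer_le (SetLike.coe_subset_coe.2
      (Subgroup.map_mono inf_le_left))).trans (Subgroup.centralizer_le_normalizer _)) ?_
    have key : ∀ g ∈ Subgroup.normalizer (R : Set H), ∀ z ∈ (W ⊓ Subgroup.centralizer X).map τ,
        g * z * g⁻¹ ∈ (W ⊓ Subgroup.centralizer X).map τ := by
      rintro g hg _ ⟨w, ⟨hw, hwX⟩, rfl⟩
      obtain ⟨v, hv, hvw⟩ := hWn.conj_mem _ (Subgroup.mem_map_of_mem τ hw) g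
      refine ⟨v, ⟨hv, fun y hy => hinj ?_⟩, hvw⟩
      have h1 : g⁻¹ * τ y * g ∈ R := by
        simpa using (Subgroup.mem_normalizer_iff.1 (inv_mem hg) (τ y)).1 (hXR y hy)
      obtain ⟨y', hy'⟩ := (hP ▸ h1.1 : g⁻¹ * τ y * g ∈ τ.range)
      have hc : (MulAut.conj g⁻¹).toMonoidHom (τ y) = τ y' := by
        rw [hy']; simp
      have hy'X : y' ∈ X := by
        refine (Subgroup.map_eq_bot_iff_of_injective _ hinj).1 ?_
        have hWc : W'.map (MulAut.conj g⁻¹).toMonoidHom = W' :=
          Subgroup.mem_normalizer_iff_map_conj_eq.1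
            (by rw [Subgroup.normalizer_eq_top]; exact Subgroup.mem_top g⁻¹)
        rw [Subgroup.map_commutator, Subgroup.map_commutator, MonoidHom.map_zpowers, ← hW', ← hc,
          ← MonoidHom.map_zpowers, ← hWc, ← Subgroup.map_commutator, ← Subgroup.map_commutator,
          hW', ← MonoidHom.map_zpowers, ← Subgroup.map_commutator, ← Subgroup.map_commutator, hy,
          Subgroup.map_bot, Subgroup.map_bot]
      have h2 : τ y' * τ w = τ w * τ y' := by rw [← map_mul, ← map_mul, hwX y' hy'X]
      rw [hy'] at h2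
      rw [map_mul, map_mul, hvw]
      calc τ y * (g * τ w * g⁻¹) = g * ((g⁻¹ * τ y * g) * τ w) * g⁻¹ := by group
        _ = g * (τ w * (g⁻¹ * τ y * g)) * g⁻¹ := by rw [h2]
        _ = g * τ w * g⁻¹ * τ y := by group
    intro g hg
    refine Subgroup.mem_normalizer_iff.2 fun z => ⟨key g hg z, fun hz => ?_⟩
    have := key g⁻¹ (inv_mem hg) _ hz
    simpa [mul_assoc] using this
  rw [Subgroup.commutator_eq_bot_iff_le_centralizer]
  intro w hw y hy
  obtain ⟨n, rfl⟩ := Subgroup.mem_zpowers_iff.1 hy
  exact (Commute.zpow_left ((le_of_admissible hZ hw).2 x hq) n).eq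

/-! ### Inside a finite group -/

variable {G : Type u} [Group G]

/-- `W(S)` for a subgroup `S`, as a subgroup of the whole group. -/
abbrev wOf (p : ℕ) (S : Subgroup G) : Subgroup G :=
  (Cfsg.stableNormalClosure p S).map S.subtype

theorem wOf_le (S : Subgroup G) : wOf p S ≤ S := Subgroup.map_subtype_le _

theorem map_wOf {G' : Type u} [Group G'] [Finite G] [Fact p.Prime] {S : Subgroup G} (f : G →* G')
    (hf : Set.InjOn f S) : (wOf p S).map f = wOf p (S.map f) := by
  have e := stableNormalClosure_map (p := p) (MulEquiv.ofBijective (f.subgroupMap S)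
    ⟨fun a b h => Subtype.ext (hf a.2 b.2 (congrArg Subtype.val h)), f.subgroupMap_surjective S⟩)
  rw [wOf, wOf, ← e, Subgroup.map_map, Subgroup.map_map]
  rfl

theorem le_normalizer_wOf [Finite G] [Fact p.Prime] (S : Subgroup G) :
    Subgroup.normalizer (S : Set G) ≤ Subgroup.normalizer (wOf p S : Set G) := by
  intro g hg
  rw [Subgroup.mem_normalizer_iff_map_conj_eq] at hg ⊢
  exact (map_wOf _ (MulAut.conj g).injective.injOn).trans (congrArg (wOf p) hg)

theorem wOf_le_centralizer_of_quadratic [Finite G] [hp : Fact p.Prime] {S : Subgroup G} {a : G}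
    (ha : a ∈ S) (hq : ⁅⁅wOf p S, Subgroup.zpowers a⁆, Subgroup.zpowers a⁆ = ⊥) :
    ∀ w ∈ wOf p S, w * a = a * w := by
  rintro _ ⟨w, hw, rfl⟩
  have h := commutator_eq_bot_of_quadratic (p := p) (⟨a, ha⟩ : S) (by
    refine (Subgroup.map_eq_bot_iff_of_injective _ S.subtype_injective).1 ?_
    rw [Subgroup.map_commutator, Subgroup.map_commutator, MonoidHom.map_zpowers]
    exact hq)
  rw [Subgroup.commutator_eq_bot_iff_le_centralizer] at h
  exact (congrArg Subtype.val (h hw (⟨a, ha⟩ : S) (Subgroup.mem_zpowers _))).symm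

theorem wOf_le_centralizer [Finite G] [hp : Fact p.Prime] (S : Subgroup G) :
    wOf p S ≤ Subgroup.centralizer (Cfsg.thompsonSubgroupOf p S : Set G) := by
  rintro _ ⟨w, hw, rfl⟩ _ ⟨j, hj, rfl⟩
  exact congrArg S.subtype ((OmegaOne.le p _ (stableNormalClosure_le hw)).2 j hj)

theorem wOf_isElementaryAbelian [Finite G] [hp : Fact p.Prime] (S : Subgroup G) :
    Cfsg.IsElementaryAbelian p (wOf p S) :=
  Thompson.isElementaryAbelian_map _ ⟨⟨⟨fun a b => Subtype.ext
    (omegaCenterThompson_comm (stableNormalClosure_le a.2) (stableNormalClosure_le b.2))⟩⟩,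
    fun _ ha => OmegaOne.pow_eq_one (OmegaOne.center_comm _) (stableNormalClosure_le ha)⟩

/-- The normalizer of `J(S)` normalizes `W(S)`. -/
theorem normalizer_thompson_le [Finite G] [hp : Fact p.Prime] (hst : Cfsg.IsActionPStable p G)
    (hc : Subgroup.centralizer (Cfsg.pCore p G : Set G) ≤ Cfsg.pCore p G) (S : Sylow p G) :
    Subgroup.normalizer (Cfsg.thompsonSubgroupOf p (S : Subgroup G) : Set G) ≤
      Subgroup.normalizer (wOf p (S : Subgroup G) : Set G) := by
  set N := Subgroup.normalizer (Cfsg.thompsonSubgroupOf p (S : Subgroup G) : Set G) with hN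
  have hSN : (S : Subgroup G) ≤ N :=
    Subgroup.le_normalizer.trans (Thompson.normalizer_le_normalizer_thompsonSubgroupOf p _)
  set τ := Subgroup.inclusion hSN with hτ
  have hcomp : N.subtype.comp τ = (S : Subgroup G).subtype := by ext x; rfl
  have hQN : Cfsg.pCore p G ≤ N := (PBasic.pCore_le_sylow S).trans hSN
  have hemb : Cfsg.IsStableEmbedding p τ := by
    refine ⟨Subgroup.inclusion_injective hSN, inferInstance, ⟨S.subtype hSN, ?_⟩, ?_, ?_,
      fun V _ hV => hst.2.2 S V ?_⟩
    · rw [hτ, Subgroup.inclusion_range]; rfl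
    · intro x hx
      haveI : (Cfsg.pCore p G).Normal := Cfsg.pCore_normal p G
      have h1 : (Cfsg.pCore p G).subgroupOf N ≤ Cfsg.pCore p N :=
        PBasic.le_pCore inferInstance (PBasic.pCore_isPGroup p G).comap_subtype
      refine h1 (Subgroup.mem_subgroupOf.2 (hc fun y hy => ?_))
      exact congrArg Subtype.val (hx ⟨y, hQN hy⟩ (h1 hy))
    · have h : (Cfsg.thompsonSubgroup p (S : Subgroup G)).map τ =
          (Cfsg.thompsonSubgroupOf p (S : Subgroup G)).subgroupOf N := by
        apply Subgroup.map_injective N.subtype_injective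
        rw [Subgroup.map_map, hcomp, Subgroup.map_subgroupOf_eq_of_le
          (hN ▸ Subgroup.le_normalizer)]
        rfl
      rw [h]
      exact Subgroup.normal_in_normalizer
    · refine (Subgroup.map_mono hV).trans_eq ?_
      rw [Subgroup.map_map, hcomp]
  haveI := (admissible_stableNormalClosure (p := p) (S := (S : Subgroup G))).2 N τ hemb
  have h := Subgroup.le_normalizer_map N.subtype
    (H := (Cfsg.stableNormalClosure p (S : Subgroup G)).map τ)
  rw [Subgroup.normalizer_eq_top, ← MonoidHom.range_eq_map, Subgroup.range_subtype,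
    Subgroup.map_map, hcomp] at h
  exact h

/-- `W(S)` lies in `O_p(G)`. -/
theorem wOf_le_pCore [Finite G] [hp : Fact p.Prime] (hst : Cfsg.IsActionPStable p G)
    (hc : Subgroup.centralizer (Cfsg.pCore p G : Set G) ≤ Cfsg.pCore p G) (S : Sylow p G) :
    wOf p (S : Subgroup G) ≤ Cfsg.pCore p G := by
  intro a ha
  set Q := Cfsg.pCore p G with hQ
  haveI : Q.Normal := Cfsg.pCore_normal p G
  set Φ := (frattini ↥Q).map Q.subtype with hΦ
  haveI : Φ.Normal := inferInstance
  have hq : ⁅⁅Q, Subgroup.zpowers a⁆, Subgroup.zpowers a⁆ = ⊥ :=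
    ZJ.quadratic_of_le_normalizer
      (fun x hx y hy => Thompson.commute_of_isElementaryAbelian (wOf_isElementaryAbelian _) hx hy)
      ((PBasic.pCore_le_sylow S).trans (Subgroup.le_normalizer.trans (le_normalizer_wOf _))) ha
  obtain ⟨D, hDn, hCD, ⟨k, hk⟩, haD⟩ := hst.2.1 a (hq.le.trans bot_le)
  set C := Cfsg.sectionKernel Q Φ with hC
  have hCp : IsPGroup p C := by
    refine PBasic.isPGroup_iff_forall_coprime.2 fun y hy => ?_
    have hy' : (orderOf (y : G)).Coprime p := by rwa [Subgroup.orderOf_coe]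
    have hyQ : Subgroup.zpowers (y : G) ≤ Subgroup.centralizer (Q : Set G) := by
      refine CoprimeAct.le_centralizer_of_frattini (by rw [Subgroup.normalizer_eq_top]; exact le_top)
        ?_ fun b hb q hq => ?_
      · obtain ⟨n, hn⟩ := IsPGroup.iff_card.1 ((PBasic.pCore_isPGroup p G).to_subgroup (frattini ↥Q))
        rw [Nat.card_zpowers, hn]
        exact hy'.pow_right n
      · have hbC : b ∈ C := (Subgroup.zpowers_le.2 y.2) hb
        have h2 := hbC (QuotientGroup.mk' Φ q) (Subgroup.mem_map_of_mem _ hq)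
        rw [← QuotientGroup.eq_one_iff]
        change QuotientGroup.mk' Φ (b * q * b⁻¹ * q⁻¹) = 1
        rw [map_mul, map_mul, map_mul, map_inv, map_inv, ← h2]
        group
    have h3 : (y : G) ∈ Q := hc (hyQ (Subgroup.mem_zpowers _))
    exact Subtype.ext (PBasic.eq_one_of_isPGroup_of_coprime (PBasic.pCore_isPGroup p G) h3 hy')
  refine PBasic.le_pCore hDn ?_ haD
  obtain ⟨m, hm⟩ := IsPGroup.iff_card.1 hCp
  refine IsPGroup.of_card (n := m + k) ?_
  rw [← PBasic.card_mul_relIndex hCD, hm, hk, pow_add]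

/-- Stellmacher's theorem: `W(S)` is normal. -/
theorem wOf_normal [Finite G] [hp : Fact p.Prime] (hst : Cfsg.IsActionPStable p G)
    (hc : Subgroup.centralizer (Cfsg.pCore p G : Set G) ≤ Cfsg.pCore p G) (S : Sylow p G) :
    (wOf p (S : Subgroup G)).Normal := by
  set W := wOf p (S : Subgroup G) with hW
  set Q := Cfsg.pCore p G with hQdef
  haveI : Q.Normal := Cfsg.pCore_normal p G
  set U := Subgroup.normalClosure (W : Set G) with hU
  have hWQ : W ≤ Q := wOf_le_pCore hst hc S
  have hQS : Q ≤ (S : Subgroup G) := PBasic.pCore_le_sylow S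
  have hUQ : U ≤ Q := Subgroup.normalClosure_le_normal hWQ
  have hWe : Cfsg.IsElementaryAbelian p W := wOf_isElementaryAbelian _
  have hWU : W ≤ U := Subgroup.le_normalClosure
  -- conjugates of `W` commute with `W`
  have hconj : ∀ v ∈ W, ∀ g : G, ∀ w ∈ W, w * (g * v * g⁻¹) = g * v * g⁻¹ * w := by
    intro v hv g w hw
    set c := (MulAut.conj g).toMonoidHom with hc'
    have hvg : g * v * g⁻¹ ∈ W.map c := ⟨v, hv, by simp [hc']⟩
    have hQg : Q.map c = Q := Subgroup.mem_normalizer_iff_map_conj_eq.1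
      (by rw [Subgroup.normalizer_eq_top]; exact Subgroup.mem_top g)
    refine wOf_le_centralizer_of_quadratic
      (hQS (Subgroup.Normal.conj_mem inferInstance v (hWQ hv) g))
      (ZJ.quadratic_of_le_normalizer (fun x hx y hy => Thompson.commute_of_isElementaryAbelian
        (Thompson.isElementaryAbelian_map c hWe) hx hy) ?_ hvg) w hw
    refine hWQ.trans ?_
    rw [← hQg]
    exact (Subgroup.map_mono (hQS.trans (Subgroup.le_normalizer.trans (le_normalizer_wOf _)))).trans
      (Subgroup.le_normalizer_map c)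
  have hgen : ∀ {x : G}, x ∈ Group.conjugatesOfSet (W : Set G) →
      ∃ v ∈ W, ∃ g : G, g * v * g⁻¹ = x := by
    intro x hx
    obtain ⟨v, hv, hvx⟩ := Group.mem_conjugatesOfSet_iff.1 hx
    exact ⟨v, hv, isConj_iff.1 hvx⟩
  have hUc : IsMulCommutative U := by
    refine Subgroup.isMulCommutative_closure ?_
    intro x hx y hy
    obtain ⟨v, hv, g, rfl⟩ := hgen hx
    obtain ⟨w, hw, h, rfl⟩ := hgen hy
    have := hconj w hw (g⁻¹ * h) v hv
    calc g * v * g⁻¹ * (h * w * h⁻¹)
        = g * (v * (g⁻¹ * h * w * (g⁻¹ * h)⁻¹)) * g⁻¹ := by group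
      _ = h * w * h⁻¹ * (g * v * g⁻¹) := by rw [this]; group
  have hUcomm : ∀ x ∈ U, ∀ y ∈ U, x * y = y * x := fun x hx y hy =>
    congrArg Subtype.val (hUc.is_comm.comm ⟨x, hx⟩ ⟨y, hy⟩)
  have hUe : Cfsg.IsElementaryAbelian p U := by
    refine ⟨hUc, fun x hx => ?_⟩
    have hx' : x ∈ Subgroup.closure (Group.conjugatesOfSet (W : Set G)) := hx
    induction hx' using Subgroup.closure_induction with
    | mem y hy =>
      obtain ⟨v, hv, g, rfl⟩ := hgen hy
      rw [conj_pow, hWe.2 v hv, mul_one, mul_inv_cancel]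
    | one => exact one_pow p
    | mul a b ha hb iha ihb =>
      rw [Commute.mul_pow (hUcomm a ha b hb), iha ha, ihb hb, one_mul]
    | inv a ha iha => rw [inv_pow, iha ha, inv_one]
  have hUS : U ≤ (S : Subgroup G) := hUQ.trans hQS
  set T := (S : Subgroup G) ⊓ ZJ.stab p U with hT
  have hfr := frattini_stab S U
  have hA : ∀ A, Thompson.IsMaxEAIn p (S : Subgroup G) A → A ≤ T := by
    intro A hA
    have hAc := fun x hx y hy => Thompson.commute_of_isElementaryAbelian hA.2.1 (a := x) (b := y) hx hy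
    have hAU : A ≤ Subgroup.normalizer (U : Set G) := by
      rw [Subgroup.normalizer_eq_top]; exact le_top
    have hcvA : ∀ u ∈ U, (∀ a ∈ A, a * u = u * a) → u ∈ A := by
      intro u hu hua
      refine (ZJ.mem_of_centralizes (p := p) (e := True) (S := (S : Subgroup G))
        ⟨hA.1, ⟨hA.2.1.1, fun _ => hA.2.1.2⟩, fun B hB hBs => hA.2.2 B hB ⟨hBs.1, hBs.2 trivial⟩⟩
        (hUS hu) hua fun _ => hUe.2 u hu)
    have hdiag : ∀ B, B ≤ A → B ⊓ Replacement.cv U B ≤ Replacement.cv U A := fun B hB x hx =>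
      ⟨hx.2.1, fun a ha => hAc a ha x (hB hx.1)⟩
    have hbest : ∀ B : Subgroup G, B ≤ A →
        Nat.card B * Nat.card (Replacement.cv U B) ≤ Nat.card A * Nat.card (Replacement.cv U A) := by
      intro B hB
      refine (Product.card_mul_card_le B _).trans (Nat.mul_le_mul (hA.2.2 _ ?_ ?_)
        (Nat.le_of_dvd Nat.card_pos (Subgroup.card_dvd_of_le (hdiag B hB))))
      · exact sup_le (hB.trans hA.1) (inf_le_left.trans hUS)
      · exact elementary_sup (Thompson.isElementaryAbelian_mono hB hA.2.1)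
          (Thompson.isElementaryAbelian_mono inf_le_left hUe) inf_le_right
    obtain ⟨hB0, hB0c⟩ := Replacement.replacement hUcomm hAU
      (by rw [Subgroup.commutator_eq_bot_iff_le_centralizer.2 fun a ha b hb => hAc b hb a ha]
          exact bot_le) hbest (S := (U : Set G)) subset_rfl
    rw [Replacement.commSet_eq] at hB0 hB0c
    set B0 := A ⊓ Subgroup.centralizer ((⁅U, A⁆ : Subgroup G) : Set G) with hB0def
    set M := Replacement.cv U B0 with hM
    set A' := B0 ⊔ M with hA'def
    have hA'e : Cfsg.IsElementaryAbelian p A' :=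
      elementary_sup (Thompson.isElementaryAbelian_mono inf_le_left hA.2.1)
        (Thompson.isElementaryAbelian_mono inf_le_left hUe) inf_le_right
    have hA'S : A' ≤ (S : Subgroup G) := sup_le (inf_le_left.trans hA.1) (inf_le_left.trans hUS)
    have hA'max : Thompson.IsMaxEAIn p (S : Subgroup G) A' := by
      refine ⟨hA'S, hA'e, fun B hB hBe => (hA.2.2 B hB hBe).trans ?_⟩
      have h1 := Product.card_mul_card_le B0 M
      rw [hB0c] at h1
      exact Nat.le_of_mul_le_mul_right
        (h1.trans (Nat.mul_le_mul_left _ (Nat.le_of_dvd Nat.card_pos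
          (Subgroup.card_dvd_of_le (hdiag B0 inf_le_left))))) Nat.card_pos
    have hUA' : U ≤ Subgroup.normalizer (A' : Set G) := by
      have h1 : ⁅U, B0⁆ ≤ M := (Subgroup.commutator_mono le_rfl inf_le_left).trans
        (le_sup_left.trans hB0.ge)
      intro u hu
      rw [Subgroup.mem_normalizer_iff_map_conj_eq]
      refine Subgroup.eq_of_le_of_card_ge ?_
        (Subgroup.card_map_of_injective (MulAut.conj u).injective).ge
      rw [hA'def, Subgroup.map_sup]
      refine sup_le ?_ ?_
      · rintro _ ⟨b, hb, rfl⟩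
        change u * b * u⁻¹ ∈ _
        rw [show u * b * u⁻¹ = ⁅u, b⁆ * b by rw [commutatorElement_def]; group]
        exact mul_mem (Subgroup.mem_sup_right (h1 (Subgroup.commutator_mem_commutator hu hb)))
          (Subgroup.mem_sup_left hb)
      · rintro _ ⟨m, hm, rfl⟩
        change u * m * u⁻¹ ∈ _
        rw [hUcomm u hu m hm.1, mul_inv_cancel_right]
        exact Subgroup.mem_sup_right hm
    have hA'T : A' ≤ T := le_inf hA'S fun a ha =>
      hst.1 U hUe a (ZJ.quadratic_of_le_normalizer
        (fun x hx y hy => Thompson.commute_of_isElementaryAbelian hA'e hx hy) hUA' ha)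
    -- `A'` centralizes `U`
    have hA'U : U ≤ Subgroup.centralizer (A' : Set G) := by
      rw [hU, Subgroup.normalClosure, Subgroup.closure_le]
      intro x hx a ha
      obtain ⟨v, hv, g, rfl⟩ := hgen hx
      obtain ⟨c, hc', n, hn, rfl⟩ := Subgroup.mem_sup_of_normal_left.1
        (hfr ▸ Subgroup.mem_top g : g ∈ _ ⊔ _)
      have hnv : n * v * n⁻¹ ∈ U :=
        Subgroup.Normal.conj_mem inferInstance v (hWU hv) n
      have heq : c * n * v * (c * n)⁻¹ = n * v * n⁻¹ := by
        calc c * n * v * (c * n)⁻¹ = c * (n * v * n⁻¹) * c⁻¹ := by group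
          _ = n * v * n⁻¹ := by rw [← hc' _ hnv, mul_inv_cancel_right]
      rw [heq]
      set c' := (MulAut.conj n⁻¹).toMonoidHom with hc''
      have hTc : T.map c' = T := Subgroup.mem_normalizer_iff_map_conj_eq.1 (inv_mem hn)
      have hmax' : Thompson.IsMaxEAIn p (S : Subgroup G) (A'.map c') := by
        refine ⟨((Subgroup.map_mono hA'T).trans hTc.le).trans inf_le_left,
          Thompson.isElementaryAbelian_map _ hA'e, fun B hB hBe => ?_⟩
        rw [Subgroup.card_map_of_injective (MulAut.conj n⁻¹).injective]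
        exact hA'max.2.2 B hB hBe
      have h2 := wOf_le_centralizer (p := p) (S : Subgroup G) hv (c' a)
        (Thompson.le_thompsonSubgroupOf hmax' (Subgroup.mem_map_of_mem c' ha))
      simp only [hc'', MulEquiv.coe_toMonoidHom, MulAut.conj_apply, inv_inv] at h2
      calc a * (n * v * n⁻¹) = n * ((n⁻¹ * a * n) * v) * n⁻¹ := by group
        _ = n * (v * (n⁻¹ * a * n)) * n⁻¹ := by rw [h2]
        _ = n * v * n⁻¹ * a := by group
    have hUA : U ≤ Subgroup.centralizer (A : Set G) := by
      refine Replacement.le_centralizer_of_le_sup ((PBasic.pCore_isPGroup p G).to_le hUQ) hUcomm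
        hAU (fun a ha => by rw [hA.2.1.2 a ha]; exact one_mem _) ?_
      refine le_trans ?_ hB0.le
      exact le_inf le_rfl (hA'U.trans (Subgroup.centralizer_le (SetLike.coe_subset_coe.2 le_sup_left)))
    refine le_inf hA.1 fun a ha => ?_
    rw [ZJ.stab, Subgroup.mem_comap]
    have : QuotientGroup.mk' (Subgroup.centralizer (U : Set G)) a = 1 :=
      (QuotientGroup.eq_one_iff _).2 fun u hu => (hUA hu a ha).symm
    rw [this]; exact one_mem _
  have hJT : Cfsg.thompsonSubgroupOf p (S : Subgroup G) ≤ T := by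
    rw [Thompson.thompsonSubgroupOf_eq]; exact sSup_le hA
  refine Subgroup.normalizer_eq_top_iff.1 (eq_top_iff.2 ?_)
  rw [← hfr]
  refine sup_le ?_ ?_
  · exact (Subgroup.centralizer_le (SetLike.coe_subset_coe.2 hWU)).trans
      (Subgroup.centralizer_le_normalizer _)
  · refine (Thompson.normalizer_le_normalizer_thompsonSubgroupOf p T).trans ?_
    rw [Thompson.thompsonSubgroupOf_eq_of_le hJT inf_le_left]
    exact normalizer_thompson_le hst hc S
where
  elementary_sup {G : Type u} [Group G] {p : ℕ} {A B : Subgroup G} (hA : Cfsg.IsElementaryAbelian p A)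
      (hB : Cfsg.IsElementaryAbelian p B) (h : B ≤ Subgroup.centralizer (A : Set G)) :
      Cfsg.IsElementaryAbelian p (A ⊔ B : Subgroup G) := by
    have hc : ∀ x ∈ A ⊔ B, ∀ y ∈ A ⊔ B, x * y = y * x := by
      have hm : IsMulCommutative (A ⊔ B : Subgroup G) := by
        rw [← Subgroup.closure_eq A, ← Subgroup.closure_eq B, ← Subgroup.closure_union]
        refine Subgroup.isMulCommutative_closure ?_
        rintro x (hx | hx) y (hy | hy)
        · exact Thompson.commute_of_isElementaryAbelian hA hx hy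
        · exact h hy x hx
        · exact (h hx y hy).symm
        · exact Thompson.commute_of_isElementaryAbelian hB hx hy
      exact fun x hx y hy => congrArg Subtype.val (hm.is_comm.comm ⟨x, hx⟩ ⟨y, hy⟩)
    refine ⟨⟨⟨fun a b => Subtype.ext (hc a a.2 b b.2)⟩⟩, fun x hx => OmegaOne.pow_eq_one hc ?_⟩
    exact (sup_le (c := Cfsg.omegaOne p (A ⊔ B))
      (fun a ha => OmegaOne.mem (Subgroup.mem_sup_left ha) (hA.2 a ha))
      fun b hb => OmegaOne.mem (Subgroup.mem_sup_right hb) (hB.2 b hb) : A ⊔ B ≤ _) hx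

end Cfsg.Agent.StableClosure
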