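import Cfsg.Agent.Lib.PLocal.StableClosure
import Cfsg.Agent.Lib.Techniques.PConstrained
import Cfsg.Agent.Lib.Functors.NPCApps
import Cfsg.Agent.Lib.PStable.SL2Prime

/-!
Applications of `W(S)`: the factorization of `p`-separable groups and the normal `p`-complement
theorem.
-/

set_option autoImplicit false
set_option linter.style.haveILetI false

open scoped Pointwise

namespace Cfsg.Agent.StableClosure

open Cfsg.Agent

universe u

variable {p : ℕ}

/-- Stability in the action sense from the stability of all sections. -/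
theorem isActionPStable_of_isQuad {G : Type u} [Group G] [Finite G] [Fact p.Prime]
    (hG : ZJ.IsQuad p G) (hquot : ∀ N : Subgroup G, [N.Normal] → ZJ.IsQuad p (G ⧸ N))
    (hsub : ∀ L : Subgroup G, ZJ.IsQuad p L) : Cfsg.IsActionPStable p G := by
  refine ⟨fun V _ hV => PStable.isPStableOn_of_isQuad hG V ?_,
    PStable.isPStableOnSection_of_isQuad _ _ (PBasic.pCore_isPGroup p G) (hquot _), ?_⟩
  · exact fun x => ⟨1, Subtype.ext (by simpa using hV.2 x x.2)⟩
  · intro S V _ hV
    refine PStable.isPStableOn_of_isQuad (hsub _) V ?_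
    have h1 : IsPGroup p (V.map (Subgroup.normalizer
        (Cfsg.thompsonSubgroupOf p (S : Subgroup G) : Set G)).subtype) :=
      (S.isPGroup'.to_le (Subgroup.map_subtype_le _)).to_le hV
    exact h1.of_injective ((Subgroup.normalizer
      (Cfsg.thompsonSubgroupOf p (S : Subgroup G) : Set G)).subtype.subgroupMap V)
      (fun x y hxy => Subtype.ext (Subtype.ext (congrArg Subtype.val hxy :)))

theorem isActionPStable_of_five_le {G : Type u} [Group G] [Finite G] [Fact p.Prime] (hp : 5 ≤ p)
    (hsep : Cfsg.IsPSolvable p G) : Cfsg.IsActionPStable p G := by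
  refine PStable.isActionPStable_of_free (by omega) fun h => ?_
  obtain ⟨K, ψ, hψ⟩ := PStable.exists_surjective_of_involves h
  have := PStable.eq_three_of_surjective (by omega) hsep ψ hψ
  omega

theorem pPrimeCore_sup_normalizer_wOf {G : Type u} [Group G] [Finite G] [hp : Fact p.Prime]
    (h5 : 5 ≤ p) (hsep : Cfsg.IsPSolvable p G) (S : Sylow p G) :
    Cfsg.pPrimeCore p G ⊔ Subgroup.normalizer (wOf p (S : Subgroup G) : Set G) = ⊤ := by
  set M := Cfsg.pPrimeCore p G with hM
  set f := QuotientGroup.mk' M with hf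
  have hfs : Function.Surjective f := QuotientGroup.mk'_surjective M
  have hker : (Nat.card f.ker).Coprime p := by
    rw [hf, QuotientGroup.ker_mk']; exact PBasic.pPrimeCore_coprime p G
  have hsep' : Cfsg.IsPSolvable p (G ⧸ M) := PSolvable.quotient M hsep
  have hn := wOf_normal (isActionPStable_of_five_le h5 hsep')
    (PSolvable.centralizer_pCore_le hsep' (PBasic.pPrimeCore_quotient_pPrimeCore p G))
    (S.mapSurjective hfs)
  rw [Sylow.coe_mapSurjective,
    ← map_wOf f (CoprimeQuotient.injOn_of_coprime_ker f hker S.isPGroup')] at hn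
  have h := PConstr.map_normalizer_eq f hfs hker (U := wOf p (S : Subgroup G))
    (S.isPGroup'.to_le (wOf_le _))
  haveI := hn
  rw [Subgroup.normalizer_eq_top (H := (wOf p (S : Subgroup G)).map f)] at h
  rw [eq_top_iff]
  intro g _
  obtain ⟨n, hn', hne⟩ := (h.symm ▸ Subgroup.mem_top (f g) :
    f g ∈ (Subgroup.normalizer (wOf p (S : Subgroup G) : Set G)).map f)
  have h3 : g * n⁻¹ ∈ M := by
    rw [← QuotientGroup.eq_one_iff]
    change f (g * n⁻¹) = 1
    rw [map_mul, map_inv, hne, mul_inv_cancel]
  rw [show g = g * n⁻¹ * n by group]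
  exact mul_mem (Subgroup.mem_sup_left h3) (Subgroup.mem_sup_right hn')

theorem isCharPFunctor (p : ℕ) [Fact p.Prime] :
    Cfsg.IsCharPFunctor.{u} p (fun Q [Group Q] => Cfsg.stableNormalClosure p Q) :=
  ⟨fun _ _ _ hQ _ => stableNormalClosure_ne_bot hQ, fun _ _ _ _ _ _ φ => stableNormalClosure_map φ⟩

theorem hasNormalPComplement_of_wOf {G : Type u} [Group G] [Finite G] [hp : Fact p.Prime]
    (hp2 : p ≠ 2) (S : Sylow p G)
    (hN : Cfsg.HasNormalPComplement p (Subgroup.normalizer (wOf p (S : Subgroup G) : Set G))) :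
    Cfsg.HasNormalPComplement p G := by
  refine FunctorNPC.hasNormalPComplement_of_finalCase (isCharPFunctor p) G
    (fun Y _ _ _ hC _ hA T _ hNT => ?_) S hN
  have hquad : ∀ {X : Type u} [Group X] [Finite X], AbelTop.IsAbelTop p X → ZJ.IsQuad p X :=
    fun hX => PStable.isQuad_of_isNormalizerPStable (hX.isNormalizerPStable hp2)
  have hn := wOf_normal (isActionPStable_of_isQuad (hquad hA)
    (fun N _ => hquad (hA.of_surjective (QuotientGroup.mk'_surjective N)))
    (fun L => hquad (hA.of_injective L.subtype_injective)))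
    hC T
  haveI := hn
  have htop : Subgroup.normalizer (Cfsg.inducedFunctor
      (fun Q [Group Q] => Cfsg.stableNormalClosure p Q) (T : Subgroup Y) : Set Y) = ⊤ :=
    Subgroup.normalizer_eq_top (H := wOf p (T : Subgroup Y))
  rw [htop] at hNT
  exact (PBasic.hasNormalPComplement_congr Subgroup.topEquiv).1 hNT

end Cfsg.Agent.StableClosure
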