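import Cfsg.Prelude.Def_PLocal
import Cfsg.Agent.Lib.Transfer.Fusion

/-!
Uniserial actions of `p`-groups on `p`-groups.
-/

set_option autoImplicit false
set_option linter.style.haveILetI false

open scoped commutatorElement

namespace Cfsg.Agent.Uniserial

open Cfsg.Agent

variable {L : Type*} [Group L] [Finite L] {p : ℕ} [hp : Fact p.Prime] {N G : Subgroup L}

/-- The defining condition. -/
def IsUni (p : ℕ) (N G : Subgroup L) : Prop :=
  ∀ H : Subgroup L, H ≤ N → G ≤ Subgroup.normalizer (H : Set L) → H ≠ ⊥ → (⁅H, G⁆).relIndex H = p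

omit [Finite L] hp in
theorem chain_facts (hGN : G ≤ Subgroup.normalizer (N : Set L)) (i : ℕ) :
    Cfsg.iterCommutator N G i ≤ N ∧
      G ≤ Subgroup.normalizer (Cfsg.iterCommutator N G i : Set L) := by
  induction i with
  | zero => exact ⟨le_rfl, hGN⟩
  | succ i ih =>
    exact ⟨(Subgroup.le_normalizer_iff_commutator_le_left.1 ih.2).trans ih.1,
      Subgroup.normalizer_commutator_ge_right _ _⟩

omit [Finite L] hp in
theorem chain_succ_le (hGN : G ≤ Subgroup.normalizer (N : Set L)) (i : ℕ) :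
    Cfsg.iterCommutator N G (i + 1) ≤ Cfsg.iterCommutator N G i :=
  Subgroup.le_normalizer_iff_commutator_le_left.1 (chain_facts hGN i).2

theorem eq_bot_of_le (hN : IsPGroup p N) (hG : IsPGroup p G)
    (hGN : G ≤ Subgroup.normalizer (N : Set L)) {H : Subgroup L} (hH : H ≤ N)
    (h : H ≤ ⁅H, N ⊔ G⁆) : H = ⊥ := by
  have hP : IsPGroup p (N ⊔ G : Subgroup L) := hN.to_sup_of_normal_left' hG hGN
  have := Fusion.le_of_le_commutator_sup hP.isNilpotent (hH.trans le_sup_left) (R := ⊥) bot_le
    (by rw [Subgroup.normalizer_eq_top]; exact le_top) (by rw [sup_bot_eq]; exact h)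
  exact le_bot_iff.1 this

theorem succ_lt (hN : IsPGroup p N) (hG : IsPGroup p G)
    (hGN : G ≤ Subgroup.normalizer (N : Set L)) {i : ℕ} (h : Cfsg.iterCommutator N G i ≠ ⊥) :
    Cfsg.iterCommutator N G (i + 1) < Cfsg.iterCommutator N G i :=
  lt_of_le_of_ne (chain_succ_le hGN i) fun he => h (eq_bot_of_le hN hG hGN (chain_facts hGN i).1
    (he.ge.trans (Subgroup.commutator_mono le_rfl le_sup_right)))

theorem card_le (hN : IsPGroup p N) (hG : IsPGroup p G)
    (hGN : G ≤ Subgroup.normalizer (N : Set L)) {n : ℕ} (hn : Nat.card N = p ^ n) (i : ℕ) :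
    Nat.card (Cfsg.iterCommutator N G i) ≤ p ^ (n - i) := by
  induction i with
  | zero => rw [Nat.sub_zero, ← hn]; rfl
  | succ i ih =>
    obtain ⟨a, ha⟩ := IsPGroup.iff_card.1 (hN.to_le (chain_facts hGN i).1)
    obtain ⟨b, hb⟩ := IsPGroup.iff_card.1 (hN.to_le (chain_facts hGN (i + 1)).1)
    rw [ha] at ih
    have ha' := (Nat.pow_le_pow_iff_right hp.out.one_lt).1 ih
    rw [hb]
    refine Nat.pow_le_pow_right hp.out.pos ?_
    by_cases h : Cfsg.iterCommutator N G i = ⊥
    · have h1 : b ≤ 0 := (Nat.pow_le_pow_iff_right hp.out.one_lt).1 (by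
        rw [pow_zero, ← hb, show Cfsg.iterCommutator N G (i + 1) = ⊥ from
          le_bot_iff.1 (h ▸ chain_succ_le hGN i), Subgroup.card_bot])
      omega
    · have hlt : Nat.card (Cfsg.iterCommutator N G (i + 1)) < Nat.card (Cfsg.iterCommutator N G i) :=
        Set.ncard_lt_ncard (SetLike.coe_ssubset_coe.2 (succ_lt hN hG hGN h)) (Set.toFinite _)
      rw [ha, hb] at hlt
      have := (Nat.pow_lt_pow_iff_right hp.out.one_lt).1 hlt
      omega

theorem card_eq_of_isUni (hu : IsUni p N G) (hGN : G ≤ Subgroup.normalizer (N : Set L)) {n : ℕ}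
    (hn : Nat.card N = p ^ n) {i : ℕ} (hi : i ≤ n) :
    Nat.card (Cfsg.iterCommutator N G i) = p ^ (n - i) := by
  induction i with
  | zero => rw [Nat.sub_zero, ← hn]; rfl
  | succ i ih =>
    have h := ih (by omega)
    have hne : Cfsg.iterCommutator N G i ≠ ⊥ := fun hb => by
      rw [hb, Subgroup.card_bot] at h
      exact (Nat.one_lt_pow (by omega) hp.out.one_lt).ne h
    have h2 := hu _ (chain_facts hGN i).1 (chain_facts hGN i).2 hne
    have h3 : Nat.card (Cfsg.iterCommutator N G (i + 1)) * p = p ^ (n - i) := by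
      rw [← h, ← PBasic.card_mul_relIndex (chain_succ_le hGN i)]
      exact congrArg _ h2.symm
    rw [show n - i = (n - (i + 1)) + 1 by omega, pow_succ] at h3
    exact Nat.eq_of_mul_eq_mul_right hp.out.pos h3

theorem card_eq_of_ne_bot (hN : IsPGroup p N) (hG : IsPGroup p G)
    (hGN : G ≤ Subgroup.normalizer (N : Set L)) {n : ℕ} (hn : Nat.card N = p ^ n)
    (hne : Cfsg.iterCommutator N G (n - 1) ≠ ⊥ ∨ n = 0) {i : ℕ} (hi : i ≤ n) :
    Nat.card (Cfsg.iterCommutator N G i) = p ^ (n - i) := by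
  refine le_antisymm (card_le hN hG hGN hn i) ?_
  obtain ⟨d, hd⟩ := Nat.exists_eq_add_of_le hi
  clear hi
  induction d generalizing i with
  | zero => rw [show n - i = 0 by omega, pow_zero]; exact Nat.card_pos
  | succ d ih =>
    have h := ih (i := i + 1) (by omega)
    have hlt : Cfsg.iterCommutator N G (i + 1) < Cfsg.iterCommutator N G i := by
      refine succ_lt hN hG hGN fun hb => ?_
      rcases hne with hne | hne
      · refine hne (le_bot_iff.1 (hb ▸ ?_))
        exact antitone_nat_of_succ_le (f := Cfsg.iterCommutator N G) (fun j => chain_succ_le hGN j)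
          (show i ≤ n - 1 by omega)
      · omega
    have hlt' := Set.ncard_lt_ncard (SetLike.coe_ssubset_coe.2 hlt) (Set.toFinite _)
    change Nat.card (Cfsg.iterCommutator N G (i + 1)) < Nat.card (Cfsg.iterCommutator N G i) at hlt'
    obtain ⟨a, ha⟩ := IsPGroup.iff_card.1 (hN.to_le (chain_facts hGN i).1)
    rw [ha] at hlt' ⊢
    refine Nat.pow_le_pow_right hp.out.pos ?_
    have := (Nat.pow_lt_pow_iff_right hp.out.one_lt).1 (h.trans_lt hlt')
    omega

theorem commutator_le_succ (hN : IsPGroup p N) (hG : IsPGroup p G)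
    (hGN : G ≤ Subgroup.normalizer (N : Set L)) {n : ℕ}
    (hcard : ∀ i ≤ n, Nat.card (Cfsg.iterCommutator N G i) = p ^ (n - i)) (i : ℕ) (hi : i ≤ n) :
    N ≤ Subgroup.normalizer (Cfsg.iterCommutator N G i : Set L) ∧
      ⁅Cfsg.iterCommutator N G i, N⁆ ≤ Cfsg.iterCommutator N G (i + 1) := by
  induction i with
  | zero =>
    refine ⟨Subgroup.le_normalizer, ?_⟩
    exact step 0 hi Subgroup.le_normalizer
  | succ i ih =>
    obtain ⟨h1, h2⟩ := ih (by omega)
    have hnorm : N ≤ Subgroup.normalizer (Cfsg.iterCommutator N G (i + 1) : Set L) :=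
      Subgroup.le_normalizer_iff_commutator_le_left.2
        ((Subgroup.commutator_mono (chain_succ_le hGN i) le_rfl).trans h2)
    exact ⟨hnorm, step (i + 1) hi hnorm⟩
where
  step (i : ℕ) (hi : i ≤ n) (h1 : N ≤ Subgroup.normalizer (Cfsg.iterCommutator N G i : Set L)) :
      ⁅Cfsg.iterCommutator N G i, N⁆ ≤ Cfsg.iterCommutator N G (i + 1) := by
    set c := Cfsg.iterCommutator N G i with hc
    have hle : ⁅c, N ⊔ G⁆ ≤ c := Subgroup.le_normalizer_iff_commutator_le_left.1
      (sup_le h1 (chain_facts hGN i).2)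
    have hge : Cfsg.iterCommutator N G (i + 1) ≤ ⁅c, N ⊔ G⁆ :=
      Subgroup.commutator_mono le_rfl le_sup_right
    refine (Subgroup.commutator_mono le_rfl (le_sup_left : N ≤ N ⊔ G)).trans ?_
    rcases eq_or_lt_of_le hi with rfl | hlt
    · have : c = ⊥ := Subgroup.card_eq_one.1 (by rw [hcard i le_rfl, Nat.sub_self, pow_zero])
      rw [this, Subgroup.commutator_bot_left]; exact bot_le
    refine (Subgroup.eq_of_le_of_card_ge hge ?_).ge
    have hne : ⁅c, N ⊔ G⁆ < c := lt_of_le_of_ne hle fun he => by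
      have := hcard i hi
      rw [eq_bot_of_le hN hG hGN (chain_facts hGN i).1 he.ge, Subgroup.card_bot] at this
      exact (Nat.one_lt_pow (by omega) hp.out.one_lt).ne this
    have hlt' := Set.ncard_lt_ncard (SetLike.coe_ssubset_coe.2 hne) (Set.toFinite _)
    change Nat.card ↥⁅c, N ⊔ G⁆ < Nat.card ↥c at hlt'
    obtain ⟨a, ha⟩ := IsPGroup.iff_card.1 (hN.to_le (hle.trans (chain_facts hGN i).1))
    rw [hcard i hi, ha] at hlt'
    rw [hcard (i + 1) (by omega), ha]
    have := (Nat.pow_lt_pow_iff_right hp.out.one_lt).1 hlt'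
    exact Nat.pow_le_pow_right hp.out.pos (by omega)

theorem eq_chain (hN : IsPGroup p N) (hG : IsPGroup p G)
    (hGN : G ≤ Subgroup.normalizer (N : Set L)) {n : ℕ}
    (hcard : ∀ i ≤ n, Nat.card (Cfsg.iterCommutator N G i) = p ^ (n - i)) {H : Subgroup L}
    (hH : H ≤ N) (hGH : G ≤ Subgroup.normalizer (H : Set L)) :
    ∃ i ≤ n, H = Cfsg.iterCommutator N G i := by
  set c := Cfsg.iterCommutator N G with hc
  have hbot : c n = ⊥ := Subgroup.card_eq_one.1 (by rw [hcard n le_rfl, Nat.sub_self, pow_zero])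
  suffices h : ∀ d, ∀ i, i + d = n → H ≤ c i → ∃ j ≤ n, H = c j from h n 0 (by omega) hH
  intro d
  induction d with
  | zero =>
    intro i hi hHi
    obtain rfl : i = n := by omega
    exact ⟨i, le_rfl, le_antisymm hHi (hbot.le.trans bot_le)⟩
  | succ d ih =>
    intro i hi hHi
    by_cases h : H ≤ c (i + 1)
    · exact ih (i + 1) (by omega) h
    refine ⟨i, by omega, le_antisymm hHi ?_⟩
    have hgen : ∀ j, j < n → i ≤ j → c j ≤ H ⊔ c (j + 1) := by
      intro j hje hij
      induction hij with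
      | refl =>
        refine (Subgroup.eq_of_le_of_card_ge (sup_le hHi (chain_succ_le hGN i)) ?_).ge
        have hlt : Nat.card (c (i + 1)) < Nat.card ↥(H ⊔ c (i + 1)) :=
          Set.ncard_lt_ncard (SetLike.coe_ssubset_coe.2
            (lt_of_le_of_ne le_sup_right fun he => h (he ▸ le_sup_left))) (Set.toFinite _)
        obtain ⟨a, ha⟩ := IsPGroup.iff_card.1
          (hN.to_le (sup_le hH (chain_facts hGN (i + 1)).1) : IsPGroup p ↥(H ⊔ c (i + 1)))
        rw [hcard (i + 1) (by omega), ha] at hlt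
        rw [hcard i (by omega), ha]
        have := (Nat.pow_lt_pow_iff_right hp.out.one_lt).1 hlt
        exact Nat.pow_le_pow_right hp.out.pos (by omega)
      | step hij ih' =>
        rename_i j
        have hj : c j ≤ H ⊔ c (j + 1) := ih' (by omega)
        change ⁅c j, G⁆ ≤ _
        rw [Subgroup.commutator_le]
        intro y hy g hg
        have hn1 : H ≤ Subgroup.normalizer (c (j + 1) : Set L) :=
          hH.trans (commutator_le_succ hN hG hGN hcard (j + 1) (by omega)).1
        have hy' := hj hy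
        rw [← SetLike.mem_coe, Subgroup.coe_mul_of_left_le_normalizer_right _ _ hn1] at hy'
        obtain ⟨u, hu, x, hx, rfl⟩ := Set.mem_mul.1 hy'
        rw [show ⁅u * x, g⁆ = u * ⁅x, g⁆ * u⁻¹ * ⁅u, g⁆ by simp only [commutatorElement_def]; group]
        refine mul_mem (mul_mem (mul_mem (Subgroup.mem_sup_left hu) (Subgroup.mem_sup_right ?_))
          (Subgroup.mem_sup_left (inv_mem hu)))
          (Subgroup.mem_sup_left (Subgroup.le_normalizer_iff_commutator_le_left.1 hGH
            (Subgroup.commutator_mem_commutator hu hg)))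
        exact Subgroup.commutator_mem_commutator hx hg
    have hdown : ∀ e, ∀ j, j + e = n → i ≤ j → c j ≤ H := by
      intro e
      induction e with
      | zero =>
        intro j hj _
        obtain rfl : j = n := by omega
        exact hbot.le.trans bot_le
      | succ e ihe =>
        intro j hj hij
        exact (hgen j (by omega) hij).trans (sup_le le_rfl (ihe (j + 1) (by omega) (by omega)))
    exact hdown (d + 1) i hi le_rfl

theorem isUni_of_card (hN : IsPGroup p N) (hG : IsPGroup p G)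
    (hGN : G ≤ Subgroup.normalizer (N : Set L)) {n : ℕ}
    (hcard : ∀ i ≤ n, Nat.card (Cfsg.iterCommutator N G i) = p ^ (n - i)) : IsUni p N G := by
  intro H hH hGH hne
  obtain ⟨i, hi, rfl⟩ := eq_chain hN hG hGN hcard hH hGH
  have hlt : i < n := lt_of_le_of_ne hi fun he => hne (Subgroup.card_eq_one.1 (by
    rw [hcard i hi, he, Nat.sub_self, pow_zero]))
  have h := PBasic.card_mul_relIndex (chain_succ_le hGN i)
  rw [hcard i hi, hcard (i + 1) hlt, show n - i = (n - (i + 1)) + 1 by omega, pow_succ] at h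
  exact Nat.eq_of_mul_eq_mul_left (pow_pos hp.out.pos _) h

theorem main (hN : IsPGroup p N) (hG : IsPGroup p G)
    (hGN : G ≤ Subgroup.normalizer (N : Set L)) {n : ℕ} (hn : Nat.card N = p ^ n) :
    (IsUni p N G ↔ Cfsg.iterCommutator N G (n - 1) ≠ ⊥ ∨ n = 0) ∧
      (IsUni p N G → ∀ H : Subgroup L, H ≤ N → G ≤ Subgroup.normalizer (H : Set L) →
        (∃ i ≤ n, H = Cfsg.iterCommutator N G i) ∧ N ≤ Subgroup.normalizer (H : Set L)) := by
  refine ⟨⟨fun hu => ?_, fun h => isUni_of_card hN hG hGN fun i hi => card_eq_of_ne_bot hN hG hGN hn h hi⟩,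
    fun hu H hH hGH => ?_⟩
  · rcases Nat.eq_zero_or_pos n with hn0 | hn0
    · exact Or.inr hn0
    · refine Or.inl fun hb => ?_
      have := card_eq_of_isUni hu hGN hn (Nat.sub_le n 1)
      rw [hb, Subgroup.card_bot, show n - (n - 1) = 1 by omega, pow_one] at this
      exact hp.out.one_lt.ne this
  · have hcard := fun i hi => card_eq_of_isUni hu hGN hn (i := i) hi
    obtain ⟨i, hi, rfl⟩ := eq_chain hN hG hGN hcard hH hGH
    exact ⟨⟨i, hi, rfl⟩, (commutator_le_succ hN hG hGN hcard i hi).1⟩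

end Cfsg.Agent.Uniserial
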